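import Cfsg.Agent.JComp.Components

/-!
Conjugation of components, and their basic properties inside a member of the family of `T`.
-/

set_option autoImplicit false

namespace CfsgLib.JComp

open Subgroup
open scoped IsMulCommutative

variable {G H : Type*} [Group G] [Group H]

theorem map_pCoreOf (e : G ≃* H) (p : ℕ) (L : Subgroup G) :
    (Cfsg.pCoreOf p L).map e.toMonoidHom = Cfsg.pCoreOf p (L.map e.toMonoidHom) := by
  let E : L ≃* ↥(L.map e.toMonoidHom) := e.subgroupMap L
  have hE : (L.map e.toMonoidHom).subtype.comp E.toMonoidHom = e.toMonoidHom.comp L.subtype :=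
    MonoidHom.ext fun _ => rfl
  rw [Cfsg.pCoreOf, Cfsg.pCoreOf, map_map, ← hE,
    ← CfsgLib.PLocal.map_pCore_equiv (p := p) E, map_map]

theorem map_wOf (e : G ≃* H) (K : Subgroup G) :
    (Cfsg.wOf K).map e.toMonoidHom = Cfsg.wOf (K.map e.toMonoidHom) := by
  rw [Cfsg.wOf, Cfsg.wOf, Subgroup.map_commutator, map_omegaCenterOf (f := e.toMonoidHom) e.injective,
    map_pCoreOf]

theorem isSylowTwoIn_map (e : G ≃* H) {T L : Subgroup G} (h : Cfsg.IsSylowTwoIn T L) :
    Cfsg.IsSylowTwoIn (T.map e.toMonoidHom) (L.map e.toMonoidHom) :=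
  ⟨map_mono h.1, h.2.1.map _, by
    rw [relIndex_map_map_of_injective (f := e.toMonoidHom) _ _ e.injective]; exact h.2.2⟩

theorem map_symm_map (e : G ≃* H) (X : Subgroup H) :
    (X.map e.symm.toMonoidHom).map e.toMonoidHom = X := by
  rw [map_map, show e.toMonoidHom.comp e.symm.toMonoidHom = MonoidHom.id H from
    MonoidHom.ext e.apply_symm_apply, map_id]

theorem map_thompson (e : G ≃* H) (T : Subgroup G) :
    (Cfsg.thompsonSubgroupOf 2 T).map e.toMonoidHom =
      Cfsg.thompsonSubgroupOf 2 (T.map e.toMonoidHom) :=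
  CfsgLib.PLocal.map_thompsonSubgroupOf (f := e.toMonoidHom) e.injective T

theorem isJComponent_map (e : G ≃* H) {T K : Subgroup G} (hK : Cfsg.IsJComponent T K) :
    Cfsg.IsJComponent (T.map e.toMonoidHom) (K.map e.toMonoidHom) := by
  obtain ⟨h1, h2, h3, h4, h5, h6⟩ := hK
  have hW := map_wOf e K
  refine ⟨?_, ?_, ?_, fun S hS hJS => ?_, ?_, ?_⟩
  · conv_rhs => rw [← h1]
    rw [MonoidHom.map_closure]
    congr 1
    ext g
    constructor
    · rintro ⟨⟨x, hx, rfl⟩, hodd⟩
      exact ⟨x, ⟨hx, by rwa [MulEquiv.coe_toMonoidHom, MulEquiv.orderOf_eq] at hodd⟩, rfl⟩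
    · rintro ⟨x, ⟨hx, hodd⟩, rfl⟩
      exact ⟨mem_map_of_mem _ hx, by rwa [MulEquiv.coe_toMonoidHom, MulEquiv.orderOf_eq]⟩
  · rw [← map_thompson, ← Subgroup.map_commutator, h2]
  · rw [← map_pCoreOf, relIndex_map_map_of_injective (f := e.toMonoidHom) _ _ e.injective, h3]
  · rw [← map_thompson, ← Subgroup.map_sup] at hS
    have hS' := isSylowTwoIn_map e.symm hS
    rw [show (map e.toMonoidHom (K ⊔ Cfsg.thompsonSubgroupOf 2 T)).map e.symm.toMonoidHom =
      K ⊔ Cfsg.thompsonSubgroupOf 2 T from map_symm_map e.symm _] at hS'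
    have hJ' : Cfsg.thompsonSubgroupOf 2 T ≤ S.map e.symm.toMonoidHom := by
      rw [← map_thompson] at hJS
      have h7 := Subgroup.map_mono (f := e.symm.toMonoidHom) hJS
      rwa [show (map e.toMonoidHom (Cfsg.thompsonSubgroupOf 2 T)).map e.symm.toMonoidHom =
        Cfsg.thompsonSubgroupOf 2 T from map_symm_map e.symm _] at h7
    have h7 := congrArg (Subgroup.map e.toMonoidHom) (h4 _ hS' hJ')
    rwa [map_thompson, map_symm_map, map_thompson] at h7
  · rw [← hW, card_map_of_injective (f := e.toMonoidHom) e.injective, h5]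
  · rw [← hW]
    rintro _ ⟨w, hw, rfl⟩
    rw [← map_mul, h6 w hw, map_one]

theorem isJComponent_congr {T T' K : Subgroup G}
    (hJ : Cfsg.thompsonSubgroupOf 2 T' = Cfsg.thompsonSubgroupOf 2 T)
    (hK : Cfsg.IsJComponent T K) : Cfsg.IsJComponent T' K := by
  obtain ⟨h1, h2, h3, h4, h5, h6⟩ := hK
  exact ⟨h1, hJ ▸ h2, h3, by rw [hJ]; exact h4, h5, h6⟩

variable [Finite G] {T T' L : Subgroup G}

/-- Conjugating `T` inside `L`. -/
theorem Ctx.conj (h : Ctx T L) {g : G} (hg : g ∈ L) :
    Ctx (T.map (MulAut.conj g).toMonoidHom) L := by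
  obtain ⟨hsyl, hJ, hself⟩ := h.mem
  have hL : L.map (MulAut.conj g).toMonoidHom = L :=
    mem_normalizer_iff_map_conj_eq.mp (le_normalizer hg)
  have hQ : (Cfsg.pCoreOf 2 L).map (MulAut.conj g).toMonoidHom = Cfsg.pCoreOf 2 L :=
    mem_normalizer_iff_map_conj_eq.mp (le_normalizer_pCoreOf 2 L hg)
  refine ⟨h.solv, ⟨?_, ?_, hself⟩, h.znorm⟩
  · have := isSylowTwoIn_map (MulAut.conj g) hsyl
    rwa [hL] at this
  · rw [← map_thompson, ← hQ, map_le_map_iff_of_injective (MulAut.conj g).injective]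
    exact hJ

theorem Ctx.component_wOf_le (h : Ctx T L) {K : Subgroup G} (hK : Cfsg.IsJComponent T K)
    (hKL : K ≤ L) : Cfsg.wOf K ≤ VOf L := by
  obtain ⟨a, k, -, -, -, hW⟩ := h.classify hK hKL
  rw [hW]
  exact map_subtype_le _

/-- A component inside `L` is subnormal in `L`. -/
theorem Ctx.component_subnormal (h : Ctx T L) {K : Subgroup G} (hK : Cfsg.IsJComponent T K)
    (hKL : K ≤ L) : (K.subgroupOf L).IsSubnormal := by
  obtain ⟨a, k, -, hp, rfl, -⟩ := h.classify hK hKL
  set R : Subgroup L := (blockGroup (VOf L) (Cfsg.fittingSubgroup (Gam L))).comap (bar L)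
  set M : Subgroup L := (zpowers (bar L k)).comap (bar L)
  have := h.setting.blockGroup_normal
  have hR : R.Normal := Subgroup.Normal.comap inferInstance _
  have hMR : M ≤ R := comap_mono (zpowers_le.mpr hp.block.mem_blockGroup)
  have hMn : (M.subgroupOf R).Normal := by
    refine (normal_subgroupOf_iff_le_normalizer hMR).mpr fun r hr => ?_
    rw [mem_normalizer_iff]
    intro x
    have hc : ∀ {u : Gam L}, u ∈ zpowers (bar L k) → bar L r * u * (bar L r)⁻¹ = u := by
      intro u hu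
      rw [le_centralizer_iff_isMulCommutative.mpr h.setting.isMulCommutative_blockGroup
        (zpowers_le.mpr hp.block.mem_blockGroup hu) (bar L r) hr, mul_inv_cancel_right]
    constructor
    · intro hx
      show bar L (r * x * r⁻¹) ∈ zpowers (bar L k)
      rw [map_mul, map_mul, map_inv, hc hx]
      exact hx
    · intro hx
      have hx' : bar L (r * x * r⁻¹) ∈ zpowers (bar L k) := hx
      rw [map_mul, map_mul, map_inv] at hx'
      show bar L x ∈ zpowers (bar L k)
      have h2 := hc hx'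
      have e : bar L x = bar L r * bar L x * (bar L r)⁻¹ := by
        rw [mul_left_inj, mul_right_inj] at h2
        exact h2.symm
      rw [e]
      exact hx'
  have hKM : (compK L k).subgroupOf L ≤ M := by
    intro x hx
    obtain ⟨q, hq, i, hxe⟩ := h.exists_eq_mul (oddGen_le _ (mem_subgroupOf.mp hx))
    obtain ⟨z, hz, rfl⟩ := hq
    have e : x = z * k ^ i := Subtype.ext (by simpa using hxe)
    have hz1 : bar L z = 1 :=
      (bar_eq_of_qm_eq (x := z) (y := 1) (by
        rw [map_one]; exact (QuotientGroup.eq_one_iff z).mpr hz)).trans (map_one _)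
    show bar L x ∈ zpowers (bar L k)
    rw [e, map_mul, hz1, one_mul, map_zpow]
    exact zpow_mem (mem_zpowers _) i
  have hKn : (((compK L k).subgroupOf L).subgroupOf M).Normal := by
    refine (normal_subgroupOf_iff_le_normalizer hKM).mpr fun g hg => ?_
    obtain ⟨i, hi⟩ := mem_zpowers_iff.mp hg
    have hc : bar L (g * (k ^ i)⁻¹) = 1 := by rw [map_mul, map_inv, map_zpow, hi, mul_inv_cancel]
    have hcomm : Commute (qm L g) (qm L k) := by
      have h2 := (h.pair_commute hp hc).mul_left ((Commute.refl (qm L k)).zpow_left i)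
      rwa [← map_zpow, ← map_mul, inv_mul_cancel_right] at h2
    have hKg : (compK L k).map (MulAut.conj (g : G)).toMonoidHom = compK L k := by
      rw [Ctx.map_compK]
      exact Ctx.compK_eq_of_qm_eq (Or.inl (by
        rw [map_mul, map_mul, map_inv, hcomm.eq, mul_inv_cancel_right]))
    have h3 := mem_normalizer_iff.mp
      (mem_normalizer_iff_map_conj_eq.mpr hKg : (g : G) ∈ normalizer (compK L k : Set G))
    refine mem_normalizer_iff.mpr fun x => ?_
    simpa [mem_subgroupOf] using h3 (x : G)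
  exact Subgroup.IsSubnormal.step _ _ hKM
    (Subgroup.IsSubnormal.step _ _ hMR (Subgroup.Normal.isSubnormal hR) hMn) hKn

/-- Components of conjugates of `T` whose four-groups meet are equal. -/
theorem Ctx.component_eq_of_inter (h : Ctx T L) (h' : Ctx T' L) {K K' : Subgroup G}
    (hK : Cfsg.IsJComponent T K) (hKL : K ≤ L) (hK' : Cfsg.IsJComponent T' K') (hKL' : K' ≤ L)
    (hW : Cfsg.wOf K ⊓ Cfsg.wOf K' ≠ ⊥) : K = K' := by
  obtain ⟨a, k, -, hp, rfl, hWk⟩ := h.classify hK hKL
  obtain ⟨a', k', -, hp', rfl, hWk'⟩ := h'.classify hK' hKL'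
  refine (h.compK_eq_of_block hp hp' ?_).symm
  by_contra hne
  apply hW
  rw [hWk, hWk', blockW, blockW, ← Subgroup.map_inf _ _ _ (VOf L).subtype_injective,
    hp.block.inf_eq_bot h.setting hp'.block hne, Subgroup.map_bot]

/-- A conjugate of a component inside `L`. -/
theorem Ctx.component_conj (h : Ctx T L) {K : Subgroup G} (hK : Cfsg.IsJComponent T K)
    (hKL : K ≤ L) {g : G} (hg : g ∈ L) :
    Ctx (T.map (MulAut.conj g).toMonoidHom) L ∧
      Cfsg.IsJComponent (T.map (MulAut.conj g).toMonoidHom) (K.map (MulAut.conj g).toMonoidHom) ∧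
      K.map (MulAut.conj g).toMonoidHom ≤ L :=
  ⟨h.conj hg, isJComponent_map _ hK,
    (map_mono hKL).trans (mem_normalizer_iff_map_conj_eq.mp (le_normalizer hg)).le⟩

/-- An element of `L` mapping some nontrivial element of `W_K` into `W_K` normalises `K`. -/
theorem Ctx.mem_normalizer_component (h : Ctx T L) {K : Subgroup G} (hK : Cfsg.IsJComponent T K)
    (hKL : K ≤ L) {g w : G} (hg : g ∈ L) (hw : w ∈ Cfsg.wOf K) (hw1 : w ≠ 1)
    (hgw : g * w * g⁻¹ ∈ Cfsg.wOf K) : g ∈ normalizer (K : Set G) := by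
  obtain ⟨h', hK', hKL'⟩ := h.component_conj hK hKL hg
  rw [mem_normalizer_iff_map_conj_eq]
  refine (h.component_eq_of_inter h' hK hKL hK' hKL' ?_).symm
  intro e
  have hmem : g * w * g⁻¹ ∈ Cfsg.wOf (K.map (MulAut.conj g).toMonoidHom) := by
    rw [← map_wOf]
    exact ⟨w, hw, rfl⟩
  have h1 := mem_bot.mp (e ▸ Subgroup.mem_inf.mpr ⟨hgw, hmem⟩)
  exact hw1 (by simpa using h1)

/-- `Ctx` from the hypotheses of the statements. -/
theorem ctx_of_mem (hN : ∀ N : Subgroup G, Cfsg.IsTwoLocal N → Group.IsSolvable ↥N)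
    (hZ : ∀ S : Sylow 2 G, centralizer (Cfsg.omegaCenterOf (S : Subgroup G) : Set G) ≤
      normalizer ((S : Subgroup G) : Set G)) (hLT : L ∈ Cfsg.jOvergroups T) : Ctx T L := by
  refine ⟨?_, hLT, hZ⟩
  have hQ : Cfsg.pCoreOf 2 L ≠ ⊥ := by
    intro e
    have h1 := hLT.2.2
    rw [e] at h1
    apply hLT.2.1
    intro x _
    rw [e]
    refine h1 (mem_centralizer_iff.mpr fun y hy => ?_)
    rw [show y = 1 from mem_bot.mp hy, one_mul, mul_one]
  have := hN _ ⟨Cfsg.pCoreOf 2 L, isPGroup_pCoreOf 2 L, hQ, rfl⟩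
  exact Group.isSolvable_of_isSolvable_injective
    (inclusion_injective (le_normalizer_pCoreOf 2 L))

end CfsgLib.JComp
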