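import Cfsg.Agent.FusionEssential.Aut
import Mathlib.LinearAlgebra.Matrix.GeneralLinearGroup.Card
import Mathlib.GroupTheory.PGroup

/-!
A `3`-group of automorphisms of an elementary abelian `2`-group of order at most `16` is abelian.
-/

set_option autoImplicit false

namespace CfsgLib.JComp

theorem commute_of_threeGroup_small {P U : Type*} [Group P] [Finite P] [Group U] [Finite U]
    (hP : IsPGroup 3 P) (hU : ∀ x : U, x ^ 2 = 1) (hcard : Nat.card U ≤ 16)
    (φ : P →* MulAut U) (hφ : Function.Injective φ) (a b : P) : a * b = b * a := by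
  have h3 : Fact (Nat.Prime 3) := ⟨by norm_num⟩
  have h2 : Fact (Nat.Prime 2) := ⟨Nat.prime_two⟩
  have hcomm : ∀ x y : U, x * y = y * x := fun x y =>
    Commute.of_orderOf_dvd_two (fun g => orderOf_dvd_of_pow_eq_one (hU g)) x y
  obtain ⟨d, hd⟩ := IsPGroup.iff_card.mp (fun x : U => ⟨1, by simpa using hU x⟩ : IsPGroup 2 U)
  obtain ⟨f⟩ := CfsgLib.FusionEssential.exists_mulEquiv_fin_of_elementary hcomm hU hd
  have hd4 : d ≤ 4 := by
    have : 2 ^ d ≤ 2 ^ 4 := by rw [← hd]; simpa using hcard
    exact (Nat.pow_le_pow_iff_right (by norm_num)).mp this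
  let ψ := ((CfsgLib.FusionEssential.autMatrix f).comp φ).toHomUnits
  have hψ : Function.Injective ψ := fun x y h =>
    hφ (CfsgLib.FusionEssential.autMatrix_injective f (congrArg Units.val h))
  have hdvd := Subgroup.card_dvd_of_injective ψ hψ
  rw [Matrix.card_GL_field, ZMod.card] at hdvd
  obtain ⟨k, hk⟩ := IsPGroup.iff_card.mp hP
  rw [hk] at hdvd
  have hk2 : k ≤ 2 := by
    by_contra hne
    have h27 : 3 ^ 3 ∣ ∏ i : Fin d, (2 ^ d - 2 ^ (i : ℕ)) :=
      (pow_dvd_pow 3 (by omega)).trans hdvd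
    interval_cases d <;> simp [Fin.prod_univ_succ] at h27
  interval_cases k
  · have : Subsingleton P := (Nat.card_eq_one_iff_unique.mp (by simpa using hk)).1
    exact Subsingleton.elim _ _
  · have : IsCyclic P := isCyclic_of_prime_card (p := 3) (by simpa using hk)
    obtain ⟨g, hg⟩ := IsCyclic.exists_generator (α := P)
    obtain ⟨m, rfl⟩ := hg a
    obtain ⟨n, rfl⟩ := hg b
    exact (Commute.zpow_zpow_self g m n).eq
  · exact IsPGroup.commutative_of_card_eq_prime_sq (p := 3) hk a b

end CfsgLib.JComp
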