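import Cfsg.Agent.JComp.PairBasic
import Cfsg.Agent.Small.Order24

/-!
Pairs whose four-groups do not commute: both maximal `2`-local subgroups are `S₄` or both are `S₄ × Z₂`.
-/

set_option autoImplicit false

namespace CfsgLib.JComp

open Subgroup
open scoped IsMulCommutative commutatorElement

variable {G : Type*} [Group G] [Finite G] {T K K₁ K₂ L L₁ L₂ : Subgroup G}

namespace Main

/-- `⟨k⟩` is transitive on the involutions of `W`. -/
theorem exists_conj_eq (m : Main T K L) {k w u : G} (hk : k ∈ K) (hk3 : k ^ 3 = 1)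
    (hfpf : ∀ v ∈ Cfsg.wOf K, k * v * k⁻¹ = v → v = 1)
    (hw : w ∈ Cfsg.wOf K) (hw1 : w ≠ 1) (hu : u ∈ Cfsg.wOf K) (hu1 : u ≠ 1) :
    ∃ i : ℕ, u = k ^ i * w * (k ^ i)⁻¹ := by
  have hkW : ∀ {y : G}, y ∈ Cfsg.wOf K → k * y * k⁻¹ ∈ Cfsg.wOf K := fun {y} hy =>
    (mem_normalizer_iff.mp (normalizer_le_normalizer_wOf K (le_normalizer hk)) y).mp hy
  set v := k * w * k⁻¹ with hv
  have hvw : v ≠ w := fun e => hw1 (hfpf w hw e)
  have hww : w * w = 1 := by
    obtain ⟨S, k', d⟩ := exists_compData m.ctx.isPGroup m.comp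
    simpa [pow_two] using d.wOf_elem.2 w hw
  have hvw1 : v * w ≠ 1 := fun e => hvw (mul_right_cancel (e.trans hww.symm))
  have hv1 : v ≠ 1 := fun e => hw1 (conj_eq_one_iff.mp e)
  rcases eq_of_card_four m.comp.2.2.2.2.1 hw (hkW hw) hw1 hv1 hvw hvw1 hu with e | e | e | e
  · exact absurd e hu1
  · exact ⟨0, by simpa using e⟩
  · exact ⟨1, by simpa using e⟩
  · refine ⟨2, e.trans ?_⟩
    have e2 : k ^ 2 * w * (k ^ 2)⁻¹ = k * v * k⁻¹ := by rw [hv, pow_two]; group
    rw [e2]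
    rcases eq_of_card_four m.comp.2.2.2.2.1 hw (hkW hw) hw1 hv1 hvw hvw1 (hkW (hkW hw)) with
      f | f | f | f
    · exact absurd (conj_eq_one_iff.mp f) hv1
    · exfalso
      apply hvw
      calc v = k * (k * v * k⁻¹) * k⁻¹ := by rw [f]
        _ = k ^ 3 * w * (k ^ 3)⁻¹ := by
            simp only [hv, pow_succ, pow_zero, one_mul, mul_inv_rev, mul_assoc]
        _ = w := by rw [hk3]; simp
    · exact absurd (hfpf v (hkW hw) f) hv1
    · exact f.symm

/-- An element of `⟨K, T⟩` of order dividing `3` fixing an involution of `W` is trivial. -/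
theorem eq_one_of_fix (m : Main T K L) (hTK : T ≤ normalizer (K : Set G)) {y u : G}
    (hy : y ∈ K ⊔ T) (hy3 : y ^ 3 = 1) (hu : u ∈ Cfsg.wOf K) (hu1 : u ≠ 1)
    (hfix : y * u * y⁻¹ = u) : y = 1 := by
  obtain ⟨S, k, d⟩ := exists_compData m.ctx.isPGroup m.comp
  have huu : u * u = 1 := by simpa [pow_two] using d.wOf_elem.2 u hu
  have hyW : y ∈ normalizer (Cfsg.wOf K : Set G) :=
    (sup_le le_normalizer hTK).trans (normalizer_le_normalizer_wOf K) hy
  have hyc : y ∈ centralizer (Cfsg.wOf K : Set G) := by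
    refine mem_centralizer_iff.mpr fun v hv => ?_
    by_cases hv1 : v = 1
    · simp [hv1]
    by_cases hvu : v = u
    · rw [hvu]; exact (mul_inv_eq_iff_eq_mul.mp hfix).symm
    have hvu1 : v * u ≠ 1 := fun e => hvu (mul_right_cancel (e.trans huu.symm))
    have hv' : y * v * y⁻¹ ∈ Cfsg.wOf K := (mem_normalizer_iff.mp hyW v).mp hv
    rcases eq_of_card_four m.comp.2.2.2.2.1 hu hv hu1 hv1 hvu hvu1 hv' with e | e | e | e
    · exact absurd (conj_eq_one_iff.mp e) hv1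
    · exact absurd (mul_left_cancel (mul_right_cancel (e.trans hfix.symm))) hvu
    · exact (mul_inv_eq_iff_eq_mul.mp e).symm
    · exfalso
      apply hu1
      have e1 : y * (v * u) * y⁻¹ = v := by
        rw [show y * (v * u) * y⁻¹ = (y * v * y⁻¹) * (y * u * y⁻¹) by group, e, hfix, mul_assoc,
          huu, mul_one]
      have e3 : y ^ 3 * v * (y ^ 3)⁻¹ = v * u := by
        calc y ^ 3 * v * (y ^ 3)⁻¹ = y * (y * (y * v * y⁻¹) * y⁻¹) * y⁻¹ := by
              simp only [pow_succ, pow_zero, one_mul, mul_inv_rev, mul_assoc]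
          _ = v * u := by rw [e, e1, e]
      rw [hy3, one_mul, inv_one, mul_one] at e3
      exact mul_eq_left.mp e3.symm
  obtain ⟨n, hn⟩ := m.ctx.isPGroup
    ⟨y, ((m.sup_inf_centralizer hTK).le (show y ∈ (K ⊔ T) ⊓ _ from ⟨hy, hyc⟩)).1⟩
  exact orderOf_eq_one_iff.mp (Nat.eq_one_of_dvd_coprimes
    (Nat.Coprime.pow_left n (show Nat.Coprime 2 3 by decide))
    (orderOf_dvd_of_pow_eq_one (by simpa using congrArg Subtype.val hn))
    (orderOf_dvd_of_pow_eq_one hy3))

/-- If `C_T(W)` is elementary of order at most `8` and `T` has an involution outside it then `⟨K, T⟩` is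
`S₄` or `S₄ × Z₂`. -/
theorem iso_symmetric (m : Main T K L) (hTK : T ≤ normalizer (K : Set G))
    (hel : Cfsg.IsElementaryAbelian 2 (cw T K)) (hcard : Nat.card ↥(cw T K) = 2 * Nat.card ↥(jZ T))
    (hcen : cen T K ≤ centralizer (T : Set G)) {b : G} (hb : b ∈ T) (hb2 : b * b = 1)
    (hbn : b ∉ cw T K) :
    (Nat.card ↥(jZ T) = 2 → Nonempty (↥(K ⊔ T) ≃* Equiv.Perm (Fin 4))) ∧
    (Nat.card ↥(jZ T) = 4 →
      Nonempty (↥(K ⊔ T) ≃* Equiv.Perm (Fin 4) × Multiplicative (ZMod 2))) := by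
  have h2 : Fact (Nat.Prime 2) := ⟨Nat.prime_two⟩
  obtain ⟨S, k, d⟩ := exists_compData m.ctx.isPGroup m.comp
  have hW4 : Nat.card (Cfsg.wOf K) = 4 := m.comp.2.2.2.2.1
  have hWc : Cfsg.wOf K ≤ cw T K := le_inf m.wOf_le_T
    (le_centralizer_iff_isMulCommutative.mpr d.wOf_elem.1)
  have hkk : zpowers k ≤ normalizer (Cfsg.wOf K : Set G) :=
    zpowers_le.mpr (normalizer_le_normalizer_wOf K (le_normalizer d.memk))
  have hDc : ∀ x ∈ K ⊔ T, ∀ z ∈ cen T K, z * x = x * z := by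
    intro x hx z hz
    refine (mem_centralizer_singleton_iff.mp
      (show x ∈ centralizer ({z} : Set G) from ?_)).symm
    have hle : K ⊔ T ≤ centralizer ({z} : Set G) := sup_le
      (fun g hg => mem_centralizer_singleton_iff.mpr (mem_centralizer_iff.mp hz.2 g (mem_sup_left hg)))
      (fun g hg => mem_centralizer_singleton_iff.mpr (mem_centralizer_iff.mp (hcen hz) g hg))
    exact hle hx
  -- `K = W⟨k⟩`
  set X := Cfsg.wOf K ⊔ zpowers k with hX
  have hXK : X ≤ K := sup_le ((IsThree.of_isJComponent m.comp).wOf_le.trans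
    ((omegaCenterOf_le _).trans (pCoreOf_le 2 K))) (zpowers_le.mpr d.memk)
  have hcw : cen T K ⊔ Cfsg.wOf K = cw T K := by
    refine Subgroup.eq_of_le_of_card_ge (sup_le ?_ hWc) ?_
    · intro z hz
      exact ⟨CfsgLib.PLocal.thompsonSubgroupOf_le 2 T (omegaCenterOf_le _ hz.1),
        mem_centralizer_iff.mpr fun v hv => mem_centralizer_iff.mp (hcen hz) v (m.wOf_le_T hv)⟩
    · have h := Ctx.img_le_closure.card_sup_mul_card_inf (cen T K) (Cfsg.wOf K) ?_
      · rw [cen_inf_wOf m.ctx.isPGroup m.comp, Subgroup.card_bot, mul_one, hW4] at h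
        rw [hcard, card_jZ m.ctx.isPGroup m.comp, h]
        omega
      · exact fun z hz => Subgroup.centralizer_le_normalizer _
          (mem_centralizer_iff.mpr fun v hv => mem_centralizer_iff.mp (hcen hz) v (m.wOf_le_T hv))
  have hKX : K ≤ X := by
    intro x hx
    rw [← m.comp.1] at hx
    refine (closure_le _).mpr ?_ hx
    rintro y ⟨hy, hodd⟩
    obtain ⟨i, hi⟩ := d.gen y hy
    have h1 : y * (k ^ i)⁻¹ ∈ cen T K ⊔ Cfsg.wOf K := hcw.ge (m.pCoreOf_le_cw hi)
    rw [← SetLike.mem_coe, coe_mul_of_left_le_normalizer_right _ _ (fun z hz =>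
      Subgroup.centralizer_le_normalizer _
        (mem_centralizer_iff.mpr fun v hv => mem_centralizer_iff.mp (hcen hz) v (m.wOf_le_T hv)))] at h1
    obtain ⟨z, hz, v, hv, e⟩ := h1
    replace e : z * v = y * (k ^ i)⁻¹ := e
    have hu : v * k ^ i ∈ X := mul_mem (mem_sup_left hv) (mem_sup_right (pow_mem (mem_zpowers k) i))
    have hy' : y = z * (v * k ^ i) := by rw [← mul_assoc, e, inv_mul_cancel_right]
    have hcomm : Commute z (v * k ^ i) := hDc _ (mem_sup_left (hXK hu)) z hz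
    have hz2 : z * z = 1 := by
      simpa [pow_two] using (isElementaryAbelian_omegaCenterOf _).2 z hz.1
    suffices hzX : z ∈ X by rw [hy']; exact mul_mem hzX hu
    obtain ⟨j, hj⟩ := hodd
    have h3 : z ^ orderOf y * (v * k ^ i) ^ orderOf y = 1 := by
      rw [← hcomm.mul_pow, ← hy', pow_orderOf_eq_one]
    have hzn : z ^ orderOf y = z := by
      rw [hj, pow_succ, pow_mul, pow_two, hz2, one_pow, one_mul]
    rw [hzn] at h3
    rw [eq_inv_of_mul_eq_one_left h3]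
    exact inv_mem (pow_mem hu _)
  have hKeq : K = X := le_antisymm hKX hXK
  have hK12 : Nat.card K = 12 := by
    have h := Ctx.img_le_closure.card_sup_mul_card_inf (zpowers k) (Cfsg.wOf K) hkk
    have h0 : zpowers k ⊓ Cfsg.wOf K = ⊥ := by
      refine (inf_comm _ _).trans (CfsgLib.PLocal.disjoint_of_isPGroup_of_coprime
        (CfsgLib.PLocal.isPGroup_of_isElementaryAbelian d.wOf_elem) ?_)
      rw [Nat.card_zpowers, d.ordk]; decide
    rw [h0, Subgroup.card_bot, mul_one, Nat.card_zpowers, d.ordk, hW4, sup_comm, ← hX, ← hKeq] at h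
    omega
  have hO : Cfsg.pCoreOf 2 K = Cfsg.wOf K := by
    refine (Subgroup.eq_of_le_of_card_ge
      ((IsThree.of_isJComponent m.comp).wOf_le.trans (omegaCenterOf_le _)) ?_).symm
    have h := CfsgLib.PLocal.card_mul_relIndex (pCoreOf_le 2 K)
    rw [m.comp.2.2.1, hK12] at h
    omega
  -- `H = K⟨b⟩` is `S₄`
  set H := K ⊔ zpowers b with hH
  have hbK : zpowers b ≤ normalizer (K : Set G) := zpowers_le.mpr (hTK hb)
  have hb1 : b ≠ 1 := fun e => hbn (e ▸ one_mem _)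
  have hbo : orderOf b = 2 := orderOf_eq_prime (by rw [pow_two]; exact hb2) hb1
  have hbW : zpowers b ⊓ K = ⊥ := by
    refine (Subgroup.eq_bot_iff_forall _).mpr fun x hx => ?_
    rcases eq_one_or_eq_of_card_two (by rw [Nat.card_zpowers, hbo]) (mem_zpowers b) hb1 hx.1 with e | e
    · exact e
    · exact absurd (m.pCoreOf_le_cw (m.inf_T ▸ (⟨hb, e ▸ hx.2⟩ : b ∈ T ⊓ K))) hbn
  have hH24 : Nat.card H = 24 := by
    have h := Ctx.img_le_closure.card_sup_mul_card_inf (zpowers b) K hbK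
    rw [hbW, Subgroup.card_bot, mul_one, Nat.card_zpowers, hbo, hK12, sup_comm, ← hH] at h
    omega
  have hHP : H ≤ K ⊔ T := sup_le_sup_left (zpowers_le.mpr hb) K
  have hHc : ∀ x ∈ H, x ∈ cw T K → x ∈ Cfsg.wOf K := by
    intro x hx hxc
    rw [hH, ← SetLike.mem_coe, coe_mul_of_right_le_normalizer_left K _ hbK] at hx
    obtain ⟨a, ha, c, hc, e⟩ := hx
    replace e : a * c = x := e
    have haT : a ∈ T := by
      have h := T.mul_mem hxc.1 (T.inv_mem (zpowers_le.mpr hb hc))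
      rwa [← e, mul_inv_cancel_right] at h
    have haW : a ∈ Cfsg.pCoreOf 2 K := m.inf_T ▸ (⟨haT, ha⟩ : a ∈ T ⊓ K)
    rw [hO] at haW
    rcases eq_one_or_eq_of_card_two (by rw [Nat.card_zpowers, hbo]) (mem_zpowers b) hb1 hc with f | f
    · rw [← e, f, mul_one]; exact haW
    · exfalso
      apply hbn
      have h := mul_mem (inv_mem (hWc haW)) hxc
      rwa [← e, f, inv_mul_cancel_left] at h
  have h6 : ∀ g : H, orderOf g ≠ 6 := by
    intro g hg
    rw [← Subgroup.orderOf_coe] at hg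
    set y := (g : G) ^ 2 with hy
    set x := (g : G) ^ 3 with hx
    have hy3 : y ^ 3 = 1 := by
      rw [hy, ← pow_mul, show 2 * 3 = 6 from rfl, ← hg, pow_orderOf_eq_one]
    have hx2 : x * x = 1 := by
      rw [hx, ← pow_add, show 3 + 3 = 6 from rfl, ← hg, pow_orderOf_eq_one]
    have hxy : x * y = y * x := (Commute.pow_pow (Commute.refl (g : G)) 3 2).eq
    have hy1 : y ≠ 1 := by
      intro e
      have := orderOf_dvd_of_pow_eq_one (hy ▸ e)
      rw [hg] at this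
      omega
    have hx1 : x ≠ 1 := by
      intro e
      have := orderOf_dvd_of_pow_eq_one (hx ▸ e)
      rw [hg] at this
      omega
    have hxH : x ∈ H := pow_mem g.2 3
    have hyP : y ∈ K ⊔ T := hHP (pow_mem g.2 2)
    by_cases hxW : x ∈ Cfsg.wOf K
    · exact hy1 (m.eq_one_of_fix hTK hyP hy3 hxW hx1 (by rw [← hxy, mul_inv_cancel_right]))
    · have hxN : x ∈ normalizer (Cfsg.wOf K : Set G) :=
        (sup_le le_normalizer hTK).trans (normalizer_le_normalizer_wOf K) (hHP hxH)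
      have hxc : x ∉ centralizer (Cfsg.wOf K : Set G) := fun h => hxW (hHc x hxH
        ((m.sup_inf_centralizer hTK).le (show x ∈ (K ⊔ T) ⊓ _ from ⟨hHP hxH, h⟩)))
      obtain ⟨v, hv, hvx⟩ : ∃ v ∈ Cfsg.wOf K, x * v * x⁻¹ ≠ v := by
        by_contra hno
        push Not at hno
        exact hxc (mem_centralizer_iff.mpr fun v hv => (mul_inv_eq_iff_eq_mul.mp (hno v hv)).symm)
      have hv' : x * v * x⁻¹ ∈ Cfsg.wOf K := (mem_normalizer_iff.mp hxN v).mp hv
      set u := v * (x * v * x⁻¹) with hu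
      have hvv : v * v = 1 := by simpa [pow_two] using d.wOf_elem.2 v hv
      have hu1 : u ≠ 1 := fun e => hvx (mul_left_cancel (e.trans hvv.symm))
      have hxu : x * u = u * x := by
        have h1 : x * u * x⁻¹ = u := by
          calc x * u * x⁻¹ = (x * v * x⁻¹) * ((x * x) * v * (x * x)⁻¹) := by rw [hu]; group
            _ = u := by
              rw [hx2, one_mul, inv_one, mul_one, hu]
              exact le_centralizer_iff_isMulCommutative.mpr d.wOf_elem.1 hv _ hv'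
        exact mul_inv_eq_iff_eq_mul.mp h1
      have huW : u ∈ Cfsg.wOf K := mul_mem hv hv'
      have huu : u * u = 1 := by simpa [pow_two] using d.wOf_elem.2 u huW
      -- the fixed points of `x` in `W` are `1, u`
      have hyu : y * u * y⁻¹ ∈ Cfsg.wOf K := (mem_normalizer_iff.mp
        ((sup_le le_normalizer hTK).trans (normalizer_le_normalizer_wOf K) hyP) u).mp huW
      have hxfix : x * (y * u * y⁻¹) * x⁻¹ = y * u * y⁻¹ := by
        calc x * (y * u * y⁻¹) * x⁻¹ = (x * y) * u * (x * y)⁻¹ := by group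
          _ = y * (x * u * x⁻¹) * y⁻¹ := by rw [hxy]; group
          _ = _ := by rw [hxu, mul_inv_cancel_right]
      have hv1 : v ≠ 1 := fun e => hvx (by rw [e]; group)
      have hvu : v ≠ u := fun e => by
        have h := e.symm.trans rfl
        rw [hu] at h
        exact hv1 (conj_eq_one_iff.mp (mul_eq_left.mp h))
      have hvu1 : v * u ≠ 1 := fun e => hvu (mul_right_cancel (e.trans huu.symm))
      rcases eq_of_card_four hW4 huW hv hu1 hv1 hvu hvu1 hyu with e | e | e | e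
      · exact hu1 (conj_eq_one_iff.mp e)
      · exact hy1 (m.eq_one_of_fix hTK hyP hy3 huW hu1 e)
      · exact hvx (by rw [← e]; exact hxfix)
      · rw [e] at hxfix
        apply hvx
        have h1 : x * v * x⁻¹ * (x * u * x⁻¹) = v * u := by rw [← hxfix]; group
        rw [hxu, mul_inv_cancel_right] at h1
        exact mul_right_cancel h1
  obtain ⟨e⟩ := CfsgLib.Small.equiv_perm_four_of_order24 hH24 h6
  have hP := m.card_sup hTK
  rw [hcard] at hP
  constructor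
  · intro hZ
    have hHeq : H = K ⊔ T := Subgroup.eq_of_le_of_card_ge hHP (by rw [hP, hH24, hZ])
    exact ⟨(MulEquiv.subgroupCongr hHeq.symm).trans e⟩
  · intro hZ
    have hD2 : Nat.card ↥(cen T K) = 2 := by
      have := card_jZ m.ctx.isPGroup m.comp
      omega
    have hDle : cen T K ≤ K ⊔ T :=
      inf_le_left.trans ((omegaCenterOf_le _).trans
        ((CfsgLib.PLocal.thompsonSubgroupOf_le 2 T).trans le_sup_right))
    let φ : H × cen T K →* ↥(K ⊔ T) := MonoidHom.noncommCoprod (inclusion hHP) (inclusion hDle)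
      (fun a z => Subtype.ext (hDc _ (hHP a.2) _ z.2).symm)
    have hφ : Function.Injective φ := by
      refine (injective_iff_map_eq_one φ).mpr ?_
      rintro ⟨⟨a, ha⟩, ⟨z, hz⟩⟩ h
      have h' : a * z = 1 := congrArg Subtype.val h
      have hzH : z ∈ H := by rw [eq_inv_of_mul_eq_one_right h']; exact inv_mem ha
      have hzc : z ∈ cw T K := hcw ▸ mem_sup_left hz
      have hz1 : z = 1 :=
        mem_bot.mp ((cen_inf_wOf m.ctx.isPGroup m.comp).le ⟨hz, hHc z hzH hzc⟩)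
      rw [hz1, mul_one] at h'
      subst hz1 h'
      rfl
    have hb' : Function.Bijective φ := (Nat.bijective_iff_injective_and_card φ).mpr
      ⟨hφ, by rw [Nat.card_prod, hH24, hD2, hP, hZ]⟩
    exact ⟨(MulEquiv.ofBijective φ hb').symm.trans
      (MulEquiv.prodCongr e (mulEquivOfPrimeCardEq (p := 2) hD2 (by simp)))⟩

end Main

theorem mem_of_card_le_double {W C : Subgroup G} (hWC : W ≤ C) (hc : Nat.card C ≤ 2 * Nat.card W)
    {u v : G} (hu : u ∈ C) (hv : v ∈ C) (hun : u ∉ W) (hvn : v ∉ W) : u⁻¹ * v ∈ W := by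
  have h2 : 1 < W.relIndex C := by
    refine lt_of_le_of_ne (Nat.one_le_iff_ne_zero.mpr (show (W.subgroupOf C).index ≠ 0 from index_ne_zero_of_finite)) fun e => hun ?_
    exact relIndex_eq_one.mp e.symm hu
  have h := CfsgLib.PLocal.card_mul_relIndex hWC
  have h3 : W.relIndex C = 2 := by
    have : W.relIndex C ≤ 2 := Nat.le_of_mul_le_mul_left (by rw [h]; linarith) Nat.card_pos
    omega
  have h4 : u⁻¹ * v ∈ W ↔ (u⁻¹ ∈ W ↔ v ∈ W) := by
    simpa [mem_subgroupOf] using mul_mem_iff_of_index_two (show (W.subgroupOf C).index = 2 from h3)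
      (a := (⟨u⁻¹, C.inv_mem hu⟩ : C)) (b := ⟨v, hv⟩)
  exact h4.mpr ⟨fun h => absurd (by simpa using W.inv_mem h) hun, fun h => absurd h hvn⟩

namespace Pair

/-- Two elements of non-commuting four-groups. -/
theorem exists_elems (p : Pair T K₁ K₂ L₁ L₂)
    (hnc : ¬ Cfsg.wOf K₁ ≤ centralizer (Cfsg.wOf K₂ : Set G)) :
    ∃ a ∈ Cfsg.wOf K₁, ∃ b ∈ Cfsg.wOf K₂, a ∉ cw T K₂ ∧ b ∉ cw T K₁ ∧ a ∉ jZ T ∧ b ∉ jZ T := by
  have hTK := p.T_le_normalizer
  obtain ⟨a, ha, hna⟩ := SetLike.not_le_iff_exists.mp hnc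
  obtain ⟨b, hb, hnb⟩ : ∃ b ∈ Cfsg.wOf K₂, b ∉ centralizer (Cfsg.wOf K₁ : Set G) := by
    by_contra hno
    push Not at hno
    exact hna (mem_centralizer_iff.mpr fun u hu => (mem_centralizer_iff.mp (hno u hu) a ha).symm)
  exact ⟨a, ha, b, hb, fun h => hna h.2, fun h => hnb h.2,
    fun h => hna (p.symm.jZ_le_cw h).2, fun h => hnb (p.jZ_le_cw h).2⟩

/-- The fixed points of `T` in the two four-groups coincide. -/
theorem fixed_eq (p : Pair T K₁ K₂ L₁ L₂) {a b w₁ w₂ : G} (ha : a ∈ Cfsg.wOf K₁)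
    (hb : b ∈ Cfsg.wOf K₂) (hac : a ∉ cw T K₂) (hbc : b ∉ cw T K₁) (haZ : a ∉ jZ T) (hbZ : b ∉ jZ T)
    (hw₁ : w₁ ∈ jZ T ⊓ Cfsg.wOf K₁) (hw₁1 : w₁ ≠ 1) (hw₂ : w₂ ∈ jZ T ⊓ Cfsg.wOf K₂) (hw₂1 : w₂ ≠ 1) :
    w₁ = w₂ := by
  have e1 := (p.one.conj_cases p.T_le_normalizer (p.two.wOf_le_T hb) hw₁ hw₁1 ha haZ).resolve_left
    (fun h => hbc (p.one.mem_cw_of_fix p.T_le_normalizer (p.two.wOf_le_T hb) ha haZ h))
  have e2 := (p.two.conj_cases p.symm.T_le_normalizer (p.one.wOf_le_T ha) hw₂ hw₂1 hb hbZ).resolve_left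
    (fun h => hac (p.two.mem_cw_of_fix p.symm.T_le_normalizer (p.one.wOf_le_T ha) hb hbZ h))
  have hc₁ := mem_centralizer_iff.mp (p.jZ_le_centralizer hw₁.1) a (p.one.wOf_le_T ha)
  have hc₂ := mem_centralizer_iff.mp (p.jZ_le_centralizer hw₂.1) b (p.two.wOf_le_T hb)
  have hw11 : w₁⁻¹ = w₁ := inv_eq_of_mul_eq_one_right (by
    simpa [pow_two] using (isElementaryAbelian_omegaCenterOf _).2 w₁ hw₁.1)
  calc w₁ = a * (b * a * b⁻¹)⁻¹ := by
        rw [e1, hc₁, mul_inv_rev, ← mul_assoc, mul_inv_cancel, one_mul, hw11]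
    _ = a * b * a⁻¹ * b⁻¹ := by group
    _ = w₂ := by rw [e2, hc₂, mul_inv_cancel_right]

/-- In a non-commuting pair `C_T(W₁)` has exponent `2`. -/
theorem sq_cw (p : Pair T K₁ K₂ L₁ L₂) {a b : G} (ha : a ∈ Cfsg.wOf K₁)
    (hb : b ∈ Cfsg.wOf K₂) (hac : a ∉ cw T K₂) (hbc : b ∉ cw T K₁) :
    ∀ x ∈ cw T K₁, x * x = 1 := by
  set C₁ := cw T K₁
  set C₂ := cw T K₂
  set Φ : Subgroup G := closure {y | ∃ x ∈ C₁ ⊓ C₂, y = x * x}
  have hgen : ∀ {K K' : Subgroup G} {L L' : Subgroup G}, Pair T K K' L L' →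
      ∀ {c : G}, c ∈ Cfsg.wOf K → c ∉ cw T K' → ∀ x ∈ cw T K, ∃ r ∈ cw T K ⊓ cw T K', x * x = r * r := by
    intro K K' L L' q c hc hcn x hx
    by_cases hxn : x ∈ cw T K'
    · exact ⟨x, ⟨hx, hxn⟩, rfl⟩
    · have hcT := q.one.wOf_le_T hc
      have hcC : c ∈ cw T K := by
        obtain ⟨S, k, d⟩ := exists_compData q.one.ctx.isPGroup q.one.comp
        exact ⟨hcT, le_centralizer_iff_isMulCommutative.mpr d.wOf_elem.1 hc⟩
      have hcc : c * c = 1 := q.one.comp.2.2.2.2.2 c hc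
      have hcomm : Commute c x := mem_centralizer_iff.mp hx.2 c hc
      refine ⟨c⁻¹ * x, ⟨(cw T K).mul_mem ((cw T K).inv_mem hcC) hx,
        q.two.inv_mul_mem_cw q.symm.T_le_normalizer hcT hx.1 hcn hxn⟩, ?_⟩
      rw [inv_eq_of_mul_eq_one_right hcc, ← pow_two, ← pow_two, hcomm.mul_pow, pow_two c, hcc, one_mul]
  have hΦ : ∀ {K K' : Subgroup G} {L L' : Subgroup G}, Pair T K K' L L' →
      ∀ {c : G}, c ∈ Cfsg.wOf K → c ∉ cw T K' → cw T K ⊓ cw T K' = C₁ ⊓ C₂ →
        K ⊔ T ≤ normalizer (Φ : Set G) := by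
    intro K K' L L' q c hc hcn he
    have hN : ∀ g ∈ K ⊔ T, ∀ y ∈ Φ, g * y * g⁻¹ ∈ Φ := by
      intro g hg y hy
      induction hy using Subgroup.closure_induction with
      | mem y hy =>
        obtain ⟨x, hx, rfl⟩ := hy
        obtain ⟨r, hr, hre⟩ := hgen q hc hcn (g * x * g⁻¹)
          ((mem_normalizer_iff.mp (q.one.sup_le_normalizer_cw q.T_le_normalizer hg) x).mp
            (he ▸ hx : x ∈ cw T K ⊓ cw T K').1)
        refine subset_closure ⟨r, he ▸ hr, ?_⟩
        rw [← hre]; group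
      | one => simp
      | mul u v _ _ iu iv => simpa [mul_assoc] using mul_mem iu iv
      | inv u _ iu => simpa [mul_assoc] using inv_mem iu
    intro g hg
    refine mem_normalizer_iff.mpr fun y => ⟨hN g hg y, fun h => ?_⟩
    have h1 := hN g⁻¹ (inv_mem hg) _ h
    simpa [mul_assoc] using h1
  have hΦT : Φ ≤ T := (closure_le _).mpr fun y ⟨x, hx, e⟩ => e ▸ T.mul_mem hx.1.1 hx.1.1
  have hΦ1 : Φ = ⊥ := by
    rw [← le_bot_iff, ← p.core_eq_bot]
    exact le_pCoreOf (hΦT.trans (le_sup_right.trans le_sup_left))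
      (sup_le (hΦ p ha hac rfl) (hΦ p.symm hb hbc (inf_comm _ _)))
      (p.one.ctx.isPGroup.to_le hΦT)
  intro x hx
  obtain ⟨r, hr, e⟩ := hgen p ha hac x hx
  rw [e]
  exact mem_bot.mp (hΦ1 ▸ subset_closure ⟨r, hr, rfl⟩)

theorem isElementaryAbelian_cw (p : Pair T K₁ K₂ L₁ L₂) {a b : G} (ha : a ∈ Cfsg.wOf K₁)
    (hb : b ∈ Cfsg.wOf K₂) (hac : a ∉ cw T K₂) (hbc : b ∉ cw T K₁) :
    Cfsg.IsElementaryAbelian 2 (cw T K₁) := by
  have hsq := p.sq_cw ha hb hac hbc
  refine ⟨isMulCommutative_iff.mpr fun x y => Subtype.ext ?_, fun x hx => by rw [pow_two]; exact hsq x hx⟩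
  have h1 : ∀ z ∈ cw T K₁, z⁻¹ = z := fun z hz => inv_eq_of_mul_eq_one_right (hsq z hz)
  show (x : G) * y = y * x
  calc (x : G) * y = ((x : G) * y)⁻¹ := (h1 _ (mul_mem x.2 y.2)).symm
    _ = y * x := by rw [mul_inv_rev, h1 _ x.2, h1 _ y.2]

/-- The structure of `T` for a non-commuting pair. -/
theorem b_one_structure (p : Pair T K₁ K₂ L₁ L₂) {a b : G} (ha : a ∈ Cfsg.wOf K₁)
    (hb : b ∈ Cfsg.wOf K₂) (hac : a ∉ cw T K₂) (hbc : b ∉ cw T K₁) :
    Nat.card ↥(cw T K₁) = 2 * Nat.card ↥(jZ T) ∧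
      (∀ t ∈ T, t ∈ cw T K₁ ⊔ cw T K₂) ∧
      (∀ t ∈ T, t * t = 1 → t ∈ cw T K₁ ∨ t ∈ cw T K₂) := by
  set C₁ := cw T K₁ with hC₁
  set C₂ := cw T K₂ with hC₂
  have he₁ := p.isElementaryAbelian_cw ha hb hac hbc
  have he₂ := p.symm.isElementaryAbelian_cw hb ha hbc hac
  have haC : a ∈ C₁ := ⟨p.one.wOf_le_T ha, by
    obtain ⟨S, k, d⟩ := exists_compData p.one.ctx.isPGroup p.one.comp
    exact le_centralizer_iff_isMulCommutative.mpr d.wOf_elem.1 ha⟩
  have hbC : b ∈ C₂ := ⟨p.two.wOf_le_T hb, by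
    obtain ⟨S, k, d⟩ := exists_compData p.two.ctx.isPGroup p.two.comp
    exact le_centralizer_iff_isMulCommutative.mpr d.wOf_elem.1 hb⟩
  have hdec : ∀ t ∈ T, t ∈ C₁ ∨ b⁻¹ * t ∈ C₁ := fun t ht => by
    by_cases h : t ∈ C₁
    · exact Or.inl h
    · exact Or.inr (p.one.inv_mul_mem_cw p.T_le_normalizer hbC.1 ht hbc h)
  have hjoin : ∀ t ∈ T, t ∈ C₁ ⊔ C₂ := fun t ht => by
    rcases hdec t ht with h | h
    · exact mem_sup_left h
    · have h1 := mul_mem (mem_sup_right hbC : b ∈ C₁ ⊔ C₂) (mem_sup_left h)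
      rwa [mul_inv_cancel_left] at h1
  have hR : C₁ ⊓ C₂ = jZ T := by
    refine le_antisymm (fun r hr => ?_) (le_inf p.jZ_le_cw p.symm.jZ_le_cw)
    rw [← p.facts.2.2.2]
    refine CfsgLib.PLocal.mem_omegaOne ⟨hr.1.1, ?_⟩ (he₁.2 r hr.1)
    have hle : C₁ ⊔ C₂ ≤ centralizer ({r} : Set G) := sup_le
      (fun g hg => mem_centralizer_singleton_iff.mpr
        (le_centralizer_iff_isMulCommutative.mpr he₁.1 hg r hr.1).symm)
      (fun g hg => mem_centralizer_singleton_iff.mpr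
        (le_centralizer_iff_isMulCommutative.mpr he₂.1 hg r hr.2).symm)
    exact mem_centralizer_iff.mpr fun t ht => mem_centralizer_singleton_iff.mp (hle (hjoin t ht))
  refine ⟨le_antisymm ?_ ?_, hjoin, fun t ht htt => ?_⟩
  · have hn : C₁ ≤ normalizer (C₂ : Set G) := fun x hx =>
      p.two.sup_le_normalizer_cw p.symm.T_le_normalizer (mem_sup_right hx.1)
    have h := Ctx.img_le_closure.card_sup_mul_card_inf C₁ C₂ hn
    rw [hR] at h
    have h1 := Subgroup.card_le_of_le (sup_le inf_le_left inf_le_left : C₁ ⊔ C₂ ≤ T)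
    have h2 := p.two.card_T p.symm.T_le_normalizer
    rw [← hC₂] at h2
    refine Nat.le_of_mul_le_mul_right ?_ (Nat.card_pos (α := C₂))
    rw [← h]
    exact (Nat.mul_le_mul_right _ (h1.trans h2.le)).trans (le_of_eq (by ring))
  · have h := CfsgLib.PLocal.card_mul_relIndex (p.jZ_le_cw : jZ T ≤ C₁)
    have h2 : (jZ T).relIndex C₁ ≠ 1 := fun e =>
      hac ((hR ▸ relIndex_eq_one.mp e haC : a ∈ C₁ ⊓ C₂).2)
    have h3 : (jZ T).relIndex C₁ ≠ 0 :=
      show ((jZ T).subgroupOf C₁).index ≠ 0 from index_ne_zero_of_finite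
    rw [← h, mul_comm 2]
    exact Nat.mul_le_mul_left _ (show 2 ≤ (jZ T).relIndex C₁ by omega)
  · rcases hdec t ht with h | h
    · exact Or.inl h
    · refine Or.inr ?_
      set y := b⁻¹ * t with hy
      have hbb : b * b = 1 := by simpa [pow_two] using he₂.2 b hbC
      have hyy : y * y = 1 := by simpa [pow_two] using he₁.2 y h
      by_cases hy2 : y ∈ C₂
      · rw [show t = b * y by rw [hy, mul_inv_cancel_left]]
        exact mul_mem hbC hy2
      · exfalso
        obtain ⟨w, hw, hw1⟩ := p.two.exists_w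
        have hbZ : b ∉ jZ T := fun h => hbc (p.jZ_le_cw h)
        have e := (p.two.conj_cases p.symm.T_le_normalizer h.1 hw hw1 hb hbZ).resolve_left
          (fun h' => hy2 (p.two.mem_cw_of_fix p.symm.T_le_normalizer h.1 hb hbZ h'))
        have ht' : t = b * y := by rw [hy, mul_inv_cancel_left]
        apply hw1
        calc w = b * (b * w) := by rw [← mul_assoc, hbb, one_mul]
          _ = b * (y * b * y⁻¹) := by rw [e]
          _ = t * t := by rw [ht', inv_eq_of_mul_eq_one_right hyy]; group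
          _ = 1 := htt

/-- The elementary abelian subgroups of `T` lie in one of the two centralisers. -/
theorem elementary_le (p : Pair T K₁ K₂ L₁ L₂) {a b : G} (ha : a ∈ Cfsg.wOf K₁)
    (hb : b ∈ Cfsg.wOf K₂) (hac : a ∉ cw T K₂) (hbc : b ∉ cw T K₁) {E : Subgroup G}
    (hE : Cfsg.IsElementaryAbelian 2 E) (hET : E ≤ T) : E ≤ cw T K₁ ∨ E ≤ cw T K₂ := by
  by_contra h
  push Not at h
  obtain ⟨x, hx, hxn⟩ := SetLike.not_le_iff_exists.mp h.1
  obtain ⟨y, hy, hyn⟩ := SetLike.not_le_iff_exists.mp h.2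
  have key : ∀ z ∈ E, z ∈ cw T K₁ ∨ z ∈ cw T K₂ := fun z hz =>
    (p.b_one_structure ha hb hac hbc).2.2 z (hET hz) (by simpa [pow_two] using hE.2 z hz)
  have hx2 := (key x hx).resolve_left hxn
  have hy1 := (key y hy).resolve_right hyn
  rcases key _ (mul_mem hx hy) with h1 | h1
  · exact hxn ((Subgroup.mul_mem_cancel_right _ hy1).mp h1)
  · exact hyn ((Subgroup.mul_mem_cancel_left _ hx2).mp h1)

/-- For a non-commuting pair the largest `2`-local subgroup is `⟨K₁, T⟩`. -/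
theorem L_eq (p : Pair T K₁ K₂ L₁ L₂) {a b : G} (ha : a ∈ Cfsg.wOf K₁)
    (hb : b ∈ Cfsg.wOf K₂) (hac : a ∉ cw T K₂) (hbc : b ∉ cw T K₁) :
    L₁ = K₁ ⊔ T ∧ Cfsg.pCoreOf 2 L₁ = cw T K₁ ∧
      normalizer (cw T K₁ : Set G) ≤ L₁ := by
  set C₁ := cw T K₁ with hC₁
  have he := p.isElementaryAbelian_cw ha hb hac hbc
  have hcard := (p.b_one_structure ha hb hac hbc).1
  have hQ : Cfsg.pCoreOf 2 L₁ = C₁ := le_antisymm p.one.pCoreOf_L_le_cw ((fun x hx => ?_ : C₁ ≤ _))
  rotate_left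
  · exact p.one.ctx.self (Subgroup.centralizer_le p.one.pCoreOf_L_le_cw
      (le_centralizer_iff_isMulCommutative.mpr he.1 hx))
  have hne : C₁ ≠ ⊥ := fun e => hac (by
    have : a ∈ C₁ := ⟨p.one.wOf_le_T ha, by
      obtain ⟨S, k, d⟩ := exists_compData p.one.ctx.isPGroup p.one.comp
      exact le_centralizer_iff_isMulCommutative.mpr d.wOf_elem.1 ha⟩
    rw [e, mem_bot] at this
    rw [this]
    exact one_mem _)
  have hN : normalizer (C₁ : Set G) ≤ L₁ := by
    refine (p.one.above.max.2 _ ⟨C₁, p.one.ctx.isPGroup.to_le inf_le_left, hne, rfl⟩ ?_).le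
    exact hQ ▸ le_normalizer_pCoreOf 2 L₁
  refine ⟨le_antisymm ?_ (sup_le p.one.K_le p.one.ctx.le), hQ, hN⟩
  obtain ⟨S, k, d⟩ := exists_compData p.one.ctx.isPGroup p.one.comp
  obtain ⟨w, hw, hw1⟩ := p.one.exists_w
  obtain ⟨v, hv, hvZ⟩ := p.one.exists_v
  set W := Cfsg.wOf K₁ with hWdef
  have hWC : W ≤ C₁ := le_inf p.one.wOf_le_T (le_centralizer_iff_isMulCommutative.mpr d.wOf_elem.1)
  have hC8 : Nat.card C₁ ≤ 2 * Nat.card W := by
    rw [hcard, show Nat.card W = 4 from p.one.comp.2.2.2.2.1]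
    have := p.facts.2.2.1
    omega
  have hLC : L₁ ≤ normalizer (C₁ : Set G) := hQ ▸ le_normalizer_pCoreOf 2 L₁
  have hLN : L₁ ≤ normalizer (K₁ : Set G) := by
    intro g hg
    obtain ⟨x, hx, hx1, hgx⟩ : ∃ x ∈ W, x ≠ 1 ∧ g * x * g⁻¹ ∈ W := by
      by_contra hno
      push Not at hno
      have hWg : W.map (MulAut.conj g).toMonoidHom ≤ C₁ := (map_mono hWC).trans
        (mem_normalizer_iff_map_conj_eq.mp (hLC hg)).le
      have hinf : W.map (MulAut.conj g).toMonoidHom ⊓ W = ⊥ :=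
        (Subgroup.eq_bot_iff_forall _).mpr fun y hy => by
          obtain ⟨⟨x, hx, rfl⟩, hy2⟩ := hy
          by_contra hne
          exact hno x hx (fun e => hne (by rw [e, map_one])) hy2
      have h := Ctx.img_le_closure.card_sup_mul_card_inf (W.map (MulAut.conj g).toMonoidHom) W
        (hWg.trans ((le_centralizer_iff_isMulCommutative.mpr he.1).trans
          ((Subgroup.centralizer_le hWC).trans (Subgroup.centralizer_le_normalizer _))))
      rw [hinf, Subgroup.card_bot, mul_one, card_map_of_injective (f := (MulAut.conj g).toMonoidHom)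
        (MulAut.conj g).injective, show Nat.card W = 4 from p.one.comp.2.2.2.2.1] at h
      have := Subgroup.card_le_of_le (sup_le hWg hWC)
      rw [show Nat.card W = 4 from p.one.comp.2.2.2.2.1] at hC8
      omega
    exact p.one.ctx.mem_normalizer_component p.one.comp p.one.K_le hg hx hx1 hgx
  -- `C_L(W) ≤ C₁`
  have hCL : L₁ ⊓ centralizer (W : Set G) ≤ C₁ := by
    have h4 : ∀ x ∈ L₁ ⊓ centralizer (W : Set G), (x * x) * (x * x) = 1 := by
      intro x hx
      have hx2 : x * x ∈ centralizer (C₁ : Set G) := by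
        refine mem_centralizer_iff.mpr fun u hu => ?_
        refine (mul_inv_eq_iff_eq_mul.mp ?_).symm
        have hux : x * u * x⁻¹ ∈ C₁ := (mem_normalizer_iff.mp (hLC hx.1) u).mp hu
        by_cases huW : u ∈ W
        · have hc := mem_centralizer_iff.mp hx.2 u huW
          rw [mul_assoc x x u, ← hc, ← mul_assoc, ← hc, mul_assoc u, mul_inv_cancel_right]
        · have hxuW : x * u * x⁻¹ ∉ W := fun h => huW (by
            have h1 := mem_centralizer_iff.mp hx.2 _ h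
            rw [inv_mul_cancel_right] at h1
            rw [mul_left_cancel h1]
            exact h)
          have hq := mem_of_card_le_double hWC hC8 hu hux huW hxuW
          set q := u⁻¹ * (x * u * x⁻¹) with hqdef
          have hqq : q * q = 1 := p.one.comp.2.2.2.2.2 q hq
          have hxq : x * q * x⁻¹ = q := by
            rw [← mem_centralizer_iff.mp hx.2 q hq, mul_inv_cancel_right]
          have e : x * u * x⁻¹ = u * q := by rw [hqdef]; group
          calc x * x * u * (x * x)⁻¹ = x * (x * u * x⁻¹) * x⁻¹ := by group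
            _ = x * (u * q) * x⁻¹ := by rw [e]
            _ = (x * u * x⁻¹) * (x * q * x⁻¹) := by group
            _ = u := by rw [hxq, e, mul_assoc, hqq, mul_one]
      simpa [pow_two] using he.2 _ (p.one.centralizer_cw_le hx2)
    rw [← hQ]
    refine le_pCoreOf inf_le_left ?_ fun x => ⟨2, Subtype.ext ?_⟩
    · intro g hg
      refine (inf_normalizer_le_normalizer_inf (H := L₁) ⟨le_normalizer hg, ?_⟩)
      exact CompData.centralizer_le_S.normalizer_le_normalizer_centralizer_wOf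
        (normalizer_le_normalizer_wOf K₁ (hLN hg))
    · show (x : G) ^ 4 = 1
      rw [show (x : G) ^ 4 = (x : G) * x * ((x : G) * x) by
        simp only [pow_succ, pow_zero, one_mul, mul_assoc]]
      exact h4 x x.2
  intro g hg
  have hTK := p.T_le_normalizer
  have hgW : ∀ {y : G}, y ∈ W → g * y * g⁻¹ ∈ W := fun {y} hy =>
    (mem_normalizer_iff.mp (normalizer_le_normalizer_wOf K₁ (hLN hg)) y).mp hy
  obtain ⟨i, hi⟩ := p.one.exists_conj_eq d.memk d.pow_three d.fpf hw.2 hw1 (hgW hw.2)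
    (fun e => hw1 (conj_eq_one_iff.mp e))
  set g₁ := (k ^ i)⁻¹ * g with hg₁
  have hkP : k ^ i ∈ K₁ ⊔ T := mem_sup_left (pow_mem d.memk i)
  have hg₁L : g₁ ∈ L₁ := mul_mem (inv_mem (p.one.K_le (pow_mem d.memk i))) hg
  have hg₁w : g₁ * w * g₁⁻¹ = w := by
    calc g₁ * w * g₁⁻¹ = (k ^ i)⁻¹ * (g * w * g⁻¹) * k ^ i := by rw [hg₁]; group
      _ = w := by rw [hi]; group
  have hg₁v : g₁ * v * g₁⁻¹ ∈ W :=
    (mem_normalizer_iff.mp (normalizer_le_normalizer_wOf K₁ (hLN hg₁L)) v).mp hv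
  suffices hg₁P : g₁ ∈ K₁ ⊔ T by
    have := mul_mem hkP hg₁P
    rwa [hg₁, mul_inv_cancel_left] at this
  have hfin : ∀ {y : G}, y ∈ L₁ → y * w * y⁻¹ = w → y * v * y⁻¹ = v → y ∈ K₁ ⊔ T := by
    intro y hy hyw hyv
    refine mem_sup_right (hCL ⟨hy, mem_centralizer_iff.mpr fun u hu => ?_⟩).1
    refine (mul_inv_eq_iff_eq_mul.mp ?_).symm
    rcases p.one.wOf_cases hw hw1 hv hvZ hu with rfl | rfl | rfl | rfl
    · group
    · exact hyw
    · exact hyv
    · rw [← hyw, ← hyv] ; rw [hyw, hyv]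
      calc y * (v * w) * y⁻¹ = (y * v * y⁻¹) * (y * w * y⁻¹) := by group
        _ = v * w := by rw [hyw, hyv]
  rcases p.one.wOf_cases hw hw1 hv hvZ hg₁v with e | e | e | e
  · exact absurd (conj_eq_one_iff.mp e) (fun h => hvZ (h ▸ one_mem _))
  · exact absurd (mul_left_cancel (mul_right_cancel (e.trans hg₁w.symm))) (fun h => hvZ (h ▸ hw.1))
  · exact hfin hg₁L hg₁w e
  · have hbT : b ∈ T := p.two.wOf_le_T hb
    have hbv := (p.one.conj_cases hTK hbT hw hw1 hv hvZ).resolve_left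
      (fun h => hbc (p.one.mem_cw_of_fix hTK hbT hv hvZ h))
    have hbw := p.one.T_fix hTK hbT hw
    have hy := hfin (y := b⁻¹ * g₁) (mul_mem (inv_mem (p.one.ctx.le hbT)) hg₁L) ?_ ?_
    · have := mul_mem (mem_sup_right hbT : b ∈ K₁ ⊔ T) hy
      rwa [mul_inv_cancel_left] at this
    · calc b⁻¹ * g₁ * w * (b⁻¹ * g₁)⁻¹ = b⁻¹ * (g₁ * w * g₁⁻¹) * b := by group
        _ = b⁻¹ * (b * w * b⁻¹) * b := by rw [hg₁w, hbw]
        _ = w := by group
    · calc b⁻¹ * g₁ * v * (b⁻¹ * g₁)⁻¹ = b⁻¹ * (g₁ * v * g₁⁻¹) * b := by group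
        _ = b⁻¹ * (b * v * b⁻¹) * b := by rw [e, hbv]
        _ = v := by group

/-- The isomorphism type. -/
theorem iso_of_noncommute (p : Pair T K₁ K₂ L₁ L₂)
    (hnc : ¬ Cfsg.wOf K₁ ≤ centralizer (Cfsg.wOf K₂ : Set G)) :
    (Nonempty (↥L₁ ≃* Equiv.Perm (Fin 4)) ∧ Nonempty (↥L₂ ≃* Equiv.Perm (Fin 4))) ∨
      (Nonempty (↥L₁ ≃* Equiv.Perm (Fin 4) × Multiplicative (ZMod 2)) ∧
        Nonempty (↥L₂ ≃* Equiv.Perm (Fin 4) × Multiplicative (ZMod 2))) := by
  obtain ⟨a, ha, b, hb, hac, hbc, -, -⟩ := p.exists_elems hnc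
  have key : ∀ {K K' L L' : Subgroup G}, Pair T K K' L L' → ∀ {a b : G}, a ∈ Cfsg.wOf K →
      b ∈ Cfsg.wOf K' → a ∉ cw T K' → b ∉ cw T K →
      (Nat.card ↥(jZ T) = 2 → Nonempty (↥L ≃* Equiv.Perm (Fin 4))) ∧
      (Nat.card ↥(jZ T) = 4 →
        Nonempty (↥L ≃* Equiv.Perm (Fin 4) × Multiplicative (ZMod 2))) := by
    intro K K' L L' q a b ha hb hac hbc
    obtain ⟨h2, h4⟩ := q.one.iso_symmetric q.T_le_normalizer (q.isElementaryAbelian_cw ha hb hac hbc)
      (q.b_one_structure ha hb hac hbc).1 (inf_le_left.trans q.jZ_le_centralizer) (q.two.wOf_le_T hb)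
      (q.two.comp.2.2.2.2.2 b hb) hbc
    rw [(q.L_eq ha hb hac hbc).1]
    exact ⟨h2, h4⟩
  have h2 : Nat.card ↥(jZ T) = 2 ∨ Nat.card ↥(jZ T) = 4 := by
    have h := card_jZ p.one.ctx.isPGroup p.one.comp
    have h' := p.facts.2.1
    have := Nat.card_pos (α := ↥(cen T K₁))
    omega
  rcases h2 with h | h
  · exact Or.inl ⟨(key p ha hb hac hbc).1 h, (key p.symm hb ha hbc hac).1 h⟩
  · exact Or.inr ⟨(key p ha hb hac hbc).2 h, (key p.symm hb ha hbc hac).2 h⟩

end Pair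

end CfsgLib.JComp
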