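import Cfsg.Agent.JComp.Setup

/-!
General facts on Thompson subgroups in the Sylow subgroups of a subgroup, and on subgroups `K` generated
by elements of odd order whose `2`-core has index `3`.
-/

set_option autoImplicit false

namespace CfsgLib.JComp

open Subgroup
open scoped IsMulCommutative commutatorElement

variable {G : Type*} [Group G]

/-- `N` absorbs a subgroup generated by elements of odd order lying in `N P` for a `2`-group `P`. -/
theorem le_of_odd_generated {N K P : Subgroup G} (hNK : N ≤ K) (hn : K ≤ normalizer (N : Set G))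
    (hgen : Subgroup.closure {g : G | g ∈ K ∧ Odd (orderOf g)} = K) (hP : IsPGroup 2 P)
    (hPK : P ≤ K) (hK : K ≤ N ⊔ P) : K ≤ N := by
  have hnorm : (N.subgroupOf K).Normal := (normal_subgroupOf_iff_le_normalizer hNK).mpr hn
  conv_lhs => rw [← hgen]
  rw [closure_le]
  intro g hg
  have hgK := hK hg.1
  rw [← SetLike.mem_coe, coe_mul_of_right_le_normalizer_left N P (hPK.trans hn)] at hgK
  obtain ⟨n, hn', x, hx, rfl⟩ := hgK
  obtain ⟨m, hm⟩ := hP ⟨x, hx⟩
  have hm' : x ^ 2 ^ m = 1 := by simpa using congrArg Subtype.val hm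
  have hpow : (⟨n * x, hg.1⟩ : K) ^ 2 ^ m ∈ N.subgroupOf K := by
    have e : (⟨n * x, hg.1⟩ : K) = ⟨n, hNK hn'⟩ * ⟨x, hPK hx⟩ := Subtype.ext rfl
    rw [e, ← QuotientGroup.eq_one_iff, QuotientGroup.mk_pow, QuotientGroup.mk_mul,
      (QuotientGroup.eq_one_iff (⟨n, hNK hn'⟩ : K)).2 hn', one_mul, ← QuotientGroup.mk_pow,
      show (⟨x, hPK hx⟩ : K) ^ 2 ^ m = 1 from Subtype.ext (by simpa using hm'), QuotientGroup.mk_one]
  exact CfsgLib.LocalStructure.mem_of_coprime_of_pow_mem (p := 2) (k := m) (K := N.subgroupOf K)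
    (b := (⟨n * x, hg.1⟩ : K)) (by rw [Subgroup.orderOf_mk]; exact Nat.coprime_two_right.2 hg.2) hpow

variable [Finite G]

/-- The conjugates of a Sylow subgroup of `L`. -/
theorem exists_conj_of_isSylowTwoIn {T T' L : Subgroup G} (hT : Cfsg.IsSylowTwoIn T L)
    (hT' : Cfsg.IsSylowTwoIn T' L) :
    ∃ g ∈ L, T.map (MulAut.conj g).toMonoidHom = T' := by
  have key : ∀ {U : Subgroup G}, Cfsg.IsSylowTwoIn U L →
      ∃ P : Sylow 2 L, (P : Subgroup L) = U.subgroupOf L := by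
    intro U hU
    obtain ⟨P, hP⟩ := (IsPGroup.comap_subtype hU.2.1 : IsPGroup 2 (U.subgroupOf L)).exists_le_sylow
    refine ⟨P, le_antisymm (fun x hx => ?_) hP⟩
    have hodd : Odd ((U.subgroupOf L).relIndex P) :=
      hU.2.2.of_dvd_nat (relIndex_dvd_index_of_le hP)
    obtain ⟨k, hk⟩ := IsPGroup.iff_card.mp P.isPGroup'
    have hdvd : (U.subgroupOf L).relIndex P ∣ 2 ^ k := by
      rw [← hk, ← CfsgLib.PLocal.card_mul_relIndex hP]; exact dvd_mul_left _ _
    exact relIndex_eq_one.mp (Nat.eq_one_of_dvd_coprimes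
      (Nat.Coprime.pow_right k (Nat.coprime_two_right.mpr hodd)) dvd_rfl hdvd) hx
  obtain ⟨P, hP⟩ := key hT
  obtain ⟨P', hP'⟩ := key hT'
  obtain ⟨g, hg⟩ := MulAction.exists_smul_eq L P P'
  refine ⟨g, g.2, ?_⟩
  have e : (P : Subgroup L).map (MulAut.conj g).toMonoidHom = (P' : Subgroup L) := by rw [← hg]; rfl
  have e' := congrArg (Subgroup.map L.subtype) e
  rw [map_map, hP, hP', map_subgroupOf_eq_of_le hT'.1] at e'
  conv_lhs => rw [← map_subgroupOf_eq_of_le hT.1]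
  rw [map_map]
  exact e'

/-- `J(T)` is the Thompson subgroup of every Sylow subgroup of `L` containing it. -/
theorem thompson_eq_of_isSylowTwoIn {T T' L : Subgroup G} (hT : Cfsg.IsSylowTwoIn T L)
    (hT' : Cfsg.IsSylowTwoIn T' L) (hJ : Cfsg.thompsonSubgroupOf 2 T ≤ T') :
    Cfsg.thompsonSubgroupOf 2 T' = Cfsg.thompsonSubgroupOf 2 T := by
  obtain ⟨g, -, rfl⟩ := exists_conj_of_isSylowTwoIn hT hT'
  set f := (MulAut.conj g).toMonoidHom
  have hf : Function.Injective f := (MulAut.conj g).injective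
  symm
  refine Subgroup.eq_of_le_of_card_ge ?_ (le_of_eq ?_)
  · rw [CfsgLib.PLocal.thompsonSubgroupOf_eq]
    refine sSup_le fun A hA => CfsgLib.PLocal.le_thompsonSubgroupOf ?_
    refine ⟨(CfsgLib.PLocal.le_thompsonSubgroupOf hA).trans hJ, hA.2.1, fun B hB hBe => ?_⟩
    have hB' : (B.comap f).map f = B := map_comap_eq_self (hB.trans (map_le_range f T))
    rw [← hB', card_map_of_injective hf]
    refine hA.2.2 _ ?_ ?_
    · rw [← comap_map_eq_self_of_injective hf T]; exact comap_mono hB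
    · rw [← CfsgLib.PLocal.isElementaryAbelian_map_iff hf, hB']; exact hBe
  · rw [← CfsgLib.PLocal.map_thompsonSubgroupOf hf, card_map_of_injective hf]

/-- `J(T)` is the Thompson subgroup of every `2`-subgroup of `L` containing it. -/
theorem thompson_eq_of_le {T S L : Subgroup G} (hT : Cfsg.IsSylowTwoIn T L) (hSL : S ≤ L)
    (hS : IsPGroup 2 S) (hJ : Cfsg.thompsonSubgroupOf 2 T ≤ S) :
    Cfsg.thompsonSubgroupOf 2 S = Cfsg.thompsonSubgroupOf 2 T := by
  obtain ⟨P, hP⟩ := (IsPGroup.comap_subtype hS : IsPGroup 2 (S.subgroupOf L)).exists_le_sylow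
  set T' := (P : Subgroup L).map L.subtype with hT'def
  have hST : S ≤ T' := fun x hx => ⟨⟨x, hSL hx⟩, hP hx, rfl⟩
  have hT' : Cfsg.IsSylowTwoIn T' L := by
    refine ⟨map_subtype_le _, P.isPGroup'.map _, ?_⟩
    rw [Subgroup.relIndex, hT'def, subgroupOf, comap_map_eq_self_of_injective L.subtype_injective]
    exact Nat.not_even_iff_odd.mp fun he => P.not_dvd_index (even_iff_two_dvd.mp he)
  have h1 := thompson_eq_of_isSylowTwoIn hT hT' (hJ.trans hST)
  rw [← h1]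
  exact CfsgLib.PLocal.thompsonSubgroupOf_eq_of_le hST (h1 ▸ hJ)

/-- The members of `maxEAIn` of `T` are those of any `2`-group containing `J(T)` with that Thompson subgroup. -/
theorem maxEAIn_eq_of_thompson_eq {T S : Subgroup G}
    (h : Cfsg.thompsonSubgroupOf 2 S = Cfsg.thompsonSubgroupOf 2 T) :
    CfsgLib.PLocal.maxEAIn 2 S = CfsgLib.PLocal.maxEAIn 2 T := by
  have key : ∀ {T S : Subgroup G},
      Cfsg.thompsonSubgroupOf 2 S = Cfsg.thompsonSubgroupOf 2 T →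
      CfsgLib.PLocal.maxEAIn 2 S ⊆ CfsgLib.PLocal.maxEAIn 2 T := by
    intro T S h A hA
    obtain ⟨A', hA'⟩ := CfsgLib.PLocal.maxEAIn_nonempty 2 T
    have hAT : A ≤ T := ((CfsgLib.PLocal.le_thompsonSubgroupOf hA).trans h.le).trans
      (CfsgLib.PLocal.thompsonSubgroupOf_le 2 T)
    have hA'S : A' ≤ S := ((CfsgLib.PLocal.le_thompsonSubgroupOf hA').trans h.ge).trans
      (CfsgLib.PLocal.thompsonSubgroupOf_le 2 S)
    exact ⟨hAT, hA.2.1, fun B hB hBe =>
      (hA'.2.2 B hB hBe).trans (hA.2.2 A' hA'S hA'.2.1)⟩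
  exact Set.Subset.antisymm (key h) (key h.symm)

/-! ### Subgroups with a `2`-core of index `3` generated by elements of odd order -/

/-- `K` is generated by elements of odd order and `|K : O₂(K)| = 3`. -/
structure IsThree (K : Subgroup G) : Prop where
  gen : Subgroup.closure {g : G | g ∈ K ∧ Odd (orderOf g)} = K
  index : (Cfsg.pCoreOf 2 K).relIndex K = 3

omit [Finite G] in
theorem IsThree.of_isJComponent {T K : Subgroup G} (hK : Cfsg.IsJComponent T K) : IsThree K :=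
  ⟨hK.1, hK.2.2.1⟩

omit [Finite G] in
theorem IsThree.le_normalizer_J {T K : Subgroup G} (hK : Cfsg.IsJComponent T K) :
    Cfsg.thompsonSubgroupOf 2 T ≤ normalizer (K : Set G) := by
  have h := Subgroup.normalizer_commutator_ge_right K (Cfsg.thompsonSubgroupOf 2 T)
  rwa [hK.2.1] at h

omit [Finite G] in
theorem subgroupOf_pCoreOf (K : Subgroup G) :
    (Cfsg.pCoreOf 2 K).subgroupOf K = Cfsg.pCore 2 K :=
  comap_map_eq_self_of_injective K.subtype_injective _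

theorem IsThree.exists_gen {K : Subgroup G} (h : IsThree K) :
    ∃ k ∈ K, orderOf k = 3 ∧ k ∉ Cfsg.pCoreOf 2 K ∧
      (∀ x ∈ K, ∃ i : ℕ, x * (k ^ i)⁻¹ ∈ Cfsg.pCoreOf 2 K) := by
  obtain ⟨k, hk, hkQ⟩ : ∃ k ∈ {g : G | g ∈ K ∧ Odd (orderOf g)}, k ∉ Cfsg.pCoreOf 2 K := by
    by_contra hno
    push_neg at hno
    have hle : K ≤ Cfsg.pCoreOf 2 K := by
      conv_lhs => rw [← h.gen]
      exact (closure_le _).mpr hno
    have := h.index
    rw [relIndex_eq_one.mpr hle] at this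
    omega
  have hidx : (Cfsg.pCore 2 K).index = 3 := by
    rw [← subgroupOf_pCoreOf]; exact h.index
  have h3 : Fact (Nat.Prime 3) := ⟨by norm_num⟩
  have hnq : (⟨k, hk.1⟩ : K) ∉ Cfsg.pCore 2 K := fun hh => hkQ ⟨⟨k, hk.1⟩, hh, rfl⟩
  have hgen : ∀ u : K ⧸ Cfsg.pCore 2 K, u ∈ zpowers ((⟨k, hk.1⟩ : K) : K ⧸ Cfsg.pCore 2 K) := by
    intro u
    exact mem_zpowers_of_prime_card (p := 3) (by rw [← Subgroup.index]; exact hidx)
      (fun e => hnq ((QuotientGroup.eq_one_iff _).mp e))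
  refine ⟨k, hk.1, ?_, hkQ, fun x hx => ?_⟩
  · have h1 : (⟨k, hk.1⟩ : K) ^ 3 ∈ Cfsg.pCore 2 K := hidx ▸ Subgroup.pow_index_mem _ _
    obtain ⟨m, hm⟩ := CfsgLib.PLocal.isPGroup_pCore 2 K ⟨_, h1⟩
    have hm' : (k ^ 3) ^ 2 ^ m = 1 := by
      simpa using congrArg Subtype.val (congrArg Subtype.val hm)
    refine orderOf_eq_prime ?_ (fun e => hkQ (e ▸ one_mem _))
    refine orderOf_eq_one_iff.mp (Nat.eq_one_of_dvd_coprimes
      (Nat.Coprime.pow_left m (Nat.coprime_two_left.mpr hk.2))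
      (orderOf_dvd_of_pow_eq_one hm') (orderOf_pow_dvd 3))
  · obtain ⟨i, hi⟩ := (mem_powers_iff_mem_zpowers).mpr (hgen ((⟨x, hx⟩ : K) : K ⧸ Cfsg.pCore 2 K))
    refine ⟨i, ⟨⟨x, hx⟩ * ((⟨k, hk.1⟩ : K) ^ i)⁻¹, ?_, by simp⟩⟩
    rw [SetLike.mem_coe, ← QuotientGroup.eq_one_iff, QuotientGroup.mk_mul, QuotientGroup.mk_inv,
      QuotientGroup.mk_pow]
    simp only at hi
    rw [hi, mul_inv_cancel]

omit [Finite G] in
theorem conj_mem_pCoreOf {K : Subgroup G} {g x : G} (hg : g ∈ normalizer (K : Set G))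
    (hx : x ∈ Cfsg.pCoreOf 2 K) : g * x * g⁻¹ ∈ Cfsg.pCoreOf 2 K := by
  obtain ⟨y, hy, rfl⟩ := hx
  let e : K ≃* K := normalizerMonoidHom K ⟨g, hg⟩
  have h : (Cfsg.pCore 2 K).map e.toMonoidHom = Cfsg.pCore 2 K :=
    characteristic_iff_map_eq.mp inferInstance _
  have h2 : e y ∈ Cfsg.pCore 2 K := h ▸ mem_map_of_mem e.toMonoidHom hy
  exact ⟨e y, h2, rfl⟩

omit [Finite G] in
theorem le_normalizer_pCoreOf' (K : Subgroup G) :
    normalizer (K : Set G) ≤ normalizer (Cfsg.pCoreOf 2 K : Set G) := fun g hg =>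
  mem_normalizer_iff.mpr fun x => ⟨conj_mem_pCoreOf hg, fun h => by
    have := conj_mem_pCoreOf (inv_mem hg) h
    simpa [mul_assoc] using this⟩

omit [Finite G] in
theorem normalizer_le_normalizer_wOf (K : Subgroup G) :
    normalizer (K : Set G) ≤ normalizer (Cfsg.wOf K : Set G) := by
  intro g hg
  have h1 := normalizer_le_normalizer_omegaCenterOf _ (le_normalizer_pCoreOf' K hg)
  rw [mem_normalizer_iff_map_conj_eq] at h1 hg ⊢
  show (⁅Cfsg.omegaCenterOf (Cfsg.pCoreOf 2 K), K⁆).map (MulAut.conj g).toMonoidHom =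
    ⁅Cfsg.omegaCenterOf (Cfsg.pCoreOf 2 K), K⁆
  rw [Subgroup.map_commutator]
  exact congrArg₂ _ h1 hg

/-- The kernel statement for `wOf`: `W_K` is `[Z, k]` and `k` has no fixed point on it. -/
theorem IsThree.wOf_spec {K : Subgroup G} (h : IsThree K) {k : G} (hk : k ∈ K)
    (hk3 : orderOf k = 3) (hgen : ∀ x ∈ K, ∃ i : ℕ, x * (k ^ i)⁻¹ ∈ Cfsg.pCoreOf 2 K) :
    (∀ v ∈ Cfsg.wOf K, ∃ z ∈ Cfsg.omegaCenterOf (Cfsg.pCoreOf 2 K), k * z * k⁻¹ * z⁻¹ = v) ∧
    (∀ z ∈ Cfsg.omegaCenterOf (Cfsg.pCoreOf 2 K), k * z * k⁻¹ * z⁻¹ ∈ Cfsg.wOf K) ∧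
    (∀ v ∈ Cfsg.wOf K, k * v * k⁻¹ = v → v = 1) := by
  set Z := Cfsg.omegaCenterOf (Cfsg.pCoreOf 2 K) with hZdef
  have hKZ : K ≤ normalizer (Z : Set G) :=
    le_normalizer.trans ((le_normalizer_pCoreOf' K).trans (normalizer_le_normalizer_omegaCenterOf _))
  let φ : K →* MulAut Z := (normalizerMonoidHom Z).comp (inclusion hKZ)
  let Γ := φ.range
  let κ : Γ := φ.rangeRestrict ⟨k, hk⟩
  have hval : ∀ (g : K) (z : Z), ((φ.rangeRestrict g • z : Z) : G) = (g : G) * z * (g : G)⁻¹ :=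
    fun g z => rfl
  have hsq : ∀ z : Z, z * z = 1 := fun z => Subtype.ext (by
    simpa [pow_two] using (isElementaryAbelian_omegaCenterOf (Cfsg.pCoreOf 2 K)).2 z z.2)
  have hodd : Odd (orderOf κ) := by
    refine Odd.of_dvd_nat (show Odd 3 by decide) ?_
    refine (orderOf_map_dvd φ.rangeRestrict _).trans ?_
    rw [Subgroup.orderOf_mk, hk3]
  -- everything in `K` acts as a power of `κ`
  have hpow : ∀ g : K, φ.rangeRestrict g ∈ zpowers κ := by
    intro g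
    obtain ⟨i, hi⟩ := hgen g g.2
    have hmemK : (g : G) * (k ^ i)⁻¹ ∈ K := K.mul_mem g.2 (K.inv_mem (K.pow_mem hk i))
    have h1 : φ.rangeRestrict ⟨_, hmemK⟩ = 1 := by
      refine Subtype.ext (MulEquiv.ext fun z => Subtype.ext ?_)
      show ((g : G) * (k ^ i)⁻¹) * (z : G) * ((g : G) * (k ^ i)⁻¹)⁻¹ = (z : G)
      have hc := mem_centralizer_iff.mp (omegaCenterOf_le_centralizer _ z.2) _ hi
      rw [hc, mul_inv_cancel_right]
    have e : (⟨(g : G) * (k ^ i)⁻¹, hmemK⟩ : K) * (⟨k, hk⟩ : K) ^ i = g :=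
      Subtype.ext (by simp)
    rw [← e, map_mul, h1, one_mul, map_pow]
    exact pow_mem (mem_zpowers κ) i
  have hrange : Cfsg.wOf K ≤ (modComm (V := Z) κ).map Z.subtype := by
    rw [Cfsg.wOf, commutator_le]
    intro z hz g hg
    have h1 : ((φ.rangeRestrict ⟨g, hg⟩) • (⟨z, hz⟩ : Z)) / (⟨z, hz⟩ : Z) ∈ modComm (V := Z) κ :=
      modComm_le_of_mem_zpowers (hpow ⟨g, hg⟩) (div_mem_modComm _ _)
    have h2 := (modComm (V := Z) κ).inv_mem h1
    refine ⟨_, h2, ?_⟩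
    simp only [inv_div, Subgroup.coe_subtype, div_eq_mul_inv, Subgroup.coe_mul, Subgroup.coe_inv,
      hval, commutatorElement_def]
    group
  refine ⟨fun v hv => ?_, fun z hz => ?_, fun v hv hfix => ?_⟩
  · obtain ⟨_, ⟨z, rfl⟩, rfl⟩ := hrange hv
    refine ⟨z, z.2, ?_⟩
    simp only [moved_apply, div_eq_mul_inv, Subgroup.coe_subtype, Subgroup.coe_mul, Subgroup.coe_inv]
    exact (congrArg (· * (z : G)⁻¹) (hval ⟨k, hk⟩ z)).symm
  · have h1 : ⁅z, k⁆⁻¹ ∈ Cfsg.wOf K := inv_mem (commutator_mem_commutator hz hk)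
    rwa [commutatorElement_inv, commutatorElement_def] at h1
  · obtain ⟨u, hu, rfl⟩ := hrange hv
    have := eq_one_of_fixed hsq hodd hu (Subtype.ext ((hval ⟨k, hk⟩ u).trans hfix))
    simp [this]

theorem IsThree.wOf_le {K : Subgroup G} (h : IsThree K) :
    Cfsg.wOf K ≤ Cfsg.omegaCenterOf (Cfsg.pCoreOf 2 K) := by
  obtain ⟨k, hk, hk3, -, hgen⟩ := h.exists_gen
  intro v hv
  obtain ⟨z, hz, rfl⟩ := (h.wOf_spec hk hk3 hgen).1 v hv
  have hn : k ∈ normalizer (Cfsg.omegaCenterOf (Cfsg.pCoreOf 2 K) : Set G) :=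
    normalizer_le_normalizer_omegaCenterOf _ (le_normalizer_pCoreOf' K (le_normalizer hk))
  exact Subgroup.mul_mem _ ((mem_normalizer_iff.mp hn z).mp hz) (Subgroup.inv_mem _ hz)

end CfsgLib.JComp
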