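import Cfsg.Agent.JComp.Offender

/-!
Transvections and their blocks.
-/

set_option autoImplicit false

namespace CfsgLib.JComp

open Subgroup

variable {Γ V : Type*} [Group Γ] [CommGroup V] [MulDistribMulAction Γ V]

/-- An element of order `3` of `F` moving only a four-group. -/
structure IsBlockElt (V : Type*) [CommGroup V] [MulDistribMulAction Γ V] (F : Subgroup Γ) (y : Γ) :
    Prop where
  mem : y ∈ F
  order : orderOf y = 3
  card : Nat.card (modComm (V := V) y) = 4

/-- The subgroup generated by the block elements. -/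
def blockGroup (V : Type*) [CommGroup V] [MulDistribMulAction Γ V] (F : Subgroup Γ) : Subgroup Γ :=
  Subgroup.closure {y | IsBlockElt V F y}

/-- The elements moving everything into `U`. -/
def movingInto (U : Subgroup V) : Subgroup Γ where
  carrier := {g | modComm (V := V) g ≤ U}
  one_mem' := by rintro _ ⟨v, rfl⟩; simp
  mul_mem' {a b} ha hb := (modComm_mul_le a b).trans (sup_le ha hb)
  inv_mem' {a} ha := by simpa [modComm_inv] using ha

theorem mem_movingInto {U : Subgroup V} {g : Γ} :
    g ∈ movingInto (Γ := Γ) U ↔ modComm (V := V) g ≤ U := Iff.rfl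

theorem modComm_le_of_mem_zpowers {g h : Γ} (hm : h ∈ zpowers g) :
    modComm (V := V) h ≤ modComm g :=
  (zpowers_le.mpr (mem_movingInto.mpr le_rfl) : zpowers g ≤ movingInto (modComm g)) hm

variable {F : Subgroup Γ}

theorem IsBlockElt.pow_three {y : Γ} (hy : IsBlockElt V F y) : y ^ 3 = 1 :=
  hy.order ▸ pow_orderOf_eq_one y

theorem IsBlockElt.odd {y : Γ} (hy : IsBlockElt V F y) : Odd (orderOf y) := hy.order ▸ by decide

theorem IsBlockElt.ne_one {y : Γ} (hy : IsBlockElt V F y) : y ≠ 1 := fun e => by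
  simpa [e] using hy.order

theorem IsBlockElt.inv {y : Γ} (hy : IsBlockElt V F y) : IsBlockElt V F y⁻¹ :=
  ⟨F.inv_mem hy.mem, by rw [orderOf_inv, hy.order], by rw [modComm_inv, hy.card]⟩

theorem IsBlockElt.conj (h : Setting Γ V F) {y : Γ} (hy : IsBlockElt V F y) (g : Γ) :
    IsBlockElt V F (g * y * g⁻¹) :=
  ⟨h.normal.conj_mem y hy.mem g, by rw [← MulAut.conj_apply, MulEquiv.orderOf_eq, hy.order],
    by rw [card_modComm_conj, hy.card]⟩

theorem eq_or_eq_inv_of_mem_zpowers {y z : Γ} (hy : orderOf y = 3) (hz : z ∈ zpowers y)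
    (hz1 : z ≠ 1) : z = y ∨ z = y⁻¹ := by
  have h3 : y ^ 3 = 1 := hy ▸ pow_orderOf_eq_one y
  obtain ⟨n, rfl⟩ := mem_zpowers_iff.mp hz
  rw [← zpow_mod_orderOf, hy] at hz1 ⊢
  have h0 := Int.emod_nonneg n (show ((3 : ℕ) : ℤ) ≠ 0 by norm_num)
  have h2 := Int.emod_lt_of_pos n (show (0 : ℤ) < (3 : ℕ) by norm_num)
  have : n % ((3 : ℕ) : ℤ) = 0 ∨ n % ((3 : ℕ) : ℤ) = 1 ∨ n % ((3 : ℕ) : ℤ) = 2 := by omega
  rcases this with e | e | e <;> rw [e] at hz1 ⊢
  · simp at hz1
  · left; simp
  · right
    symm
    refine inv_eq_of_mul_eq_one_right ?_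
    rw [← h3, zpow_ofNat, ← pow_succ']

theorem zpowers_eq_of_mem {y z : Γ} (hy : orderOf y = 3) (hz : z ∈ zpowers y) (hz1 : z ≠ 1) :
    zpowers z = zpowers y := by
  rcases eq_or_eq_inv_of_mem_zpowers hy hz hz1 with rfl | rfl <;> simp

theorem modComm_eq_of_mem {y z : Γ} (hy : orderOf y = 3) (hz : z ∈ zpowers y) (hz1 : z ≠ 1) :
    modComm (V := V) z = modComm y := by
  rcases eq_or_eq_inv_of_mem_zpowers hy hz hz1 with rfl | rfl <;> simp [modComm_inv]

/-- A subgroup of order `2` meeting `U` lies in `U`. -/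
theorem le_of_card_two {A U : Subgroup V} (hA : Nat.card A = 2) {x : V} (hxA : x ∈ A)
    (hxU : x ∈ U) (hx : x ≠ 1) : A ≤ U := by
  have : Finite A := Nat.finite_of_card_ne_zero (by rw [hA]; norm_num)
  have hinf : A ⊓ U = A := by
    refine Subgroup.eq_of_le_of_card_ge inf_le_left ?_
    have : Finite ↥(A ⊓ U) := Finite.of_injective _ (Subgroup.inclusion_injective inf_le_left)
    have h1 : 1 < Nat.card ↥(A ⊓ U) :=
      Finite.one_lt_card_iff_nontrivial.mpr
        ((Subgroup.nontrivial_iff_ne_bot _).mpr fun e => hx (mem_bot.mp (e ▸ ⟨hxA, hxU⟩)))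
    omega
  exact hinf ▸ inf_le_right

variable [Finite V]

/-- In a four-group moved without fixed points the elements form one orbit. -/
theorem four_cases (hV : ∀ v : V, v * v = 1) {y : Γ} (hy : Odd (orderOf y))
    (h4 : Nat.card (modComm (V := V) y) = 4) {w : V} (hw : w ∈ modComm (V := V) y) (hw1 : w ≠ 1) :
    (∀ u ∈ modComm (V := V) y, u = 1 ∨ u = w ∨ u = y • w ∨ u = y ^ 2 • w) ∧ y ^ 3 • w = w := by
  classical
  have hm : ∀ {u : V}, u ∈ modComm (V := V) y → y • u ∈ modComm (V := V) y := smul_mem_modComm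
  have hne1 : ∀ {u : V}, u ≠ 1 → y • u ≠ 1 := fun hu e =>
    hu ((smul_left_cancel_iff y).mp (e.trans (smul_one y).symm))
  have a1 : y • w ≠ w := fun e => hw1 (eq_one_of_fixed hV hy hw e)
  have a2 : y ^ 2 • w ≠ w := fun e => a1 (smul_eq_of_sq_fix hy e)
  have e2 : y ^ 2 • w = y • y • w := by rw [pow_two, mul_smul]
  have a3 : y ^ 2 • w ≠ y • w := by
    rw [e2]; exact fun e => a1 ((smul_left_cancel_iff y).mp e)
  have hs : ({1, w, y • w, y ^ 2 • w} : Finset V) = (modComm (V := V) y : Set V).toFinite.toFinset := by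
    apply Finset.eq_of_subset_of_card_le
    · intro u hu
      simp only [Finset.mem_insert, Finset.mem_singleton] at hu
      rw [Set.Finite.mem_toFinset]
      rcases hu with rfl | rfl | rfl | rfl
      · exact one_mem _
      · exact hw
      · exact hm hw
      · rw [e2]; exact hm (hm hw)
    · rw [← Nat.card_eq_card_finite_toFinset, SetLike.coe_sort_coe, h4,
        Finset.card_insert_of_notMem, Finset.card_insert_of_notMem, Finset.card_insert_of_notMem,
        Finset.card_singleton]
      · simpa using a3.symm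
      · simpa using ⟨a1.symm, a2.symm⟩
      · simp only [Finset.mem_insert, Finset.mem_singleton, not_or]
        exact ⟨hw1.symm, (hne1 hw1).symm, by rw [e2]; exact (hne1 (hne1 hw1)).symm⟩
  have hall : ∀ u ∈ modComm (V := V) y, u = 1 ∨ u = w ∨ u = y • w ∨ u = y ^ 2 • w := by
    intro u hu
    have : u ∈ ({1, w, y • w, y ^ 2 • w} : Finset V) := by
      rw [hs, Set.Finite.mem_toFinset]; exact hu
    simpa using this
  refine ⟨hall, ?_⟩
  have e3 : y ^ 3 • w = y • y ^ 2 • w := by rw [pow_succ' y 2, mul_smul]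
  have hm3 : y • y ^ 2 • w ∈ modComm (V := V) y := by
    rw [e2]; exact hm (hm (hm hw))
  rcases hall _ hm3 with e | e | e | e
  · exact absurd e (by rw [e2]; exact hne1 (hne1 (hne1 hw1)))
  · rw [e3, e]
  · exact absurd ((smul_left_cancel_iff y).mp e) a2
  · rw [e2] at e
    exact absurd ((smul_left_cancel_iff y).mp ((smul_left_cancel_iff y).mp e)) a1

theorem card_sup_of_disjoint {A B : Subgroup V} (h : A ⊓ B = ⊥) :
    Nat.card ↥(A ⊔ B) = Nat.card A * Nat.card B := by
  rw [← CfsgLib.PLocal.card_mul_relIndex (le_sup_right : B ≤ A ⊔ B), relIndex_sup_right,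
    ← inf_relIndex_left, h, relIndex_bot_left, mul_comm]

/-- An element commuting with a block element acts on its four-group as a power of it. -/
theorem IsBlockElt.exists_pow (h : Setting Γ V F) {y z : Γ} (hy : IsBlockElt V F y)
    (hc : Commute z y) : ∃ i : ℕ, ∀ u ∈ modComm (V := V) y, z • u = y ^ i • u := by
  obtain ⟨w, hw, hw1⟩ : ∃ w ∈ modComm (V := V) y, w ≠ 1 := by
    by_contra hno
    push_neg at hno
    have := hy.card
    rw [(Subgroup.eq_bot_iff_forall _).mpr hno, Subgroup.card_bot] at this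
    omega
  obtain ⟨hall, -⟩ := four_cases h.sq hy.odd hy.card hw hw1
  have hzw := hall _ (smul_modComm_of_commute hc hw)
  obtain ⟨i, hi⟩ : ∃ i : ℕ, z • w = y ^ i • w := by
    rcases hzw with e | e | e | e
    · exact absurd ((smul_left_cancel_iff z).mp (e.trans (smul_one z).symm)) hw1
    · exact ⟨0, by simpa using e⟩
    · exact ⟨1, by simpa using e⟩
    · exact ⟨2, e⟩
  have key : ∀ j : ℕ, z • y ^ j • w = y ^ i • y ^ j • w := fun j => by
    rw [← mul_smul, (hc.pow_right j).eq, mul_smul, hi, ← mul_smul, ← mul_smul, ← pow_add,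
      ← pow_add, add_comm]
  refine ⟨i, fun u hu => ?_⟩
  rcases hall u hu with rfl | rfl | rfl | rfl
  · simp
  · exact hi
  · simpa using key 1
  · exact key 2

variable [Finite Γ]

/-- Every transvection inverts a block element. -/
theorem Setting.exists_inverted (h : Setting Γ V F) {t : Γ} (ht : IsTransvection V t) :
    ∃ y, IsBlockElt V F y ∧ t * y * t = y⁻¹ := by
  have ht1 : t ≠ 1 := by
    rintro rfl
    have h2 := ht.2
    rw [(Subgroup.eq_bot_iff_forall _).mpr (fun u (hu : u ∈ modComm (V := V) (1 : Γ)) => by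
      obtain ⟨v, rfl⟩ := hu; simp), Subgroup.card_bot] at h2
    omega
  have hti : t⁻¹ = t := inv_eq_of_mul_eq_one_right ht.1
  obtain ⟨x, hxF, hxt⟩ : ∃ x ∈ F, t * x ≠ x * t := by
    by_contra hno
    push_neg at hno
    have htF : t ∈ F := h.self (mem_centralizer_iff.mpr fun x hx => (hno x hx).symm)
    exact ht1 (eq_one_of_inv_eq (odd_orderOf_mem h.odd htF) hti)
  set y := x⁻¹ * (t * x * t) with hydef
  have hyF : y ∈ F := by
    have h1 := h.normal.conj_mem x hxF t
    rw [hti] at h1
    exact F.mul_mem (F.inv_mem hxF) h1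
  have hyinv : t * y * t = y⁻¹ := by
    rw [hydef, mul_inv_rev, mul_inv_rev, mul_inv_rev, hti, inv_inv]
    simp only [mul_assoc]
    rw [ht.1, mul_one]
  have hodd := odd_orderOf_mem h.odd hyF
  have hsq : y ^ 2 = (y * t * y⁻¹) * t := by
    rw [← hyinv, pow_two]
    simp only [mul_assoc]
    rw [ht.1, mul_one, ← mul_assoc t t y, ht.1, one_mul]
  have hy1 : y ≠ 1 := by
    intro e
    rw [hydef, inv_mul_eq_one] at e
    apply hxt
    nth_rewrite 2 [e]
    rw [mul_assoc (t * x), ht.1, mul_one]
  have hle : modComm (V := V) y ≤ modComm (y * t * y⁻¹) ⊔ modComm t :=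
    (modComm_le_of_mem_zpowers (mem_zpowers_sq hodd)).trans
      (hsq ▸ modComm_mul_le _ _)
  have hdvd : Nat.card (modComm (V := V) y) ∣ 4 := by
    refine (card_dvd_of_le hle).trans ((CfsgLib.PLocal.card_sup_dvd_mul _ _).trans ?_)
    rw [card_modComm_conj, ht.2]
  have h4 : Nat.card (modComm (V := V) y) = 4 := by
    have hmem := Nat.mem_divisors.mpr ⟨hdvd, by norm_num⟩
    rw [show Nat.divisors 4 = {1, 2, 4} from by decide] at hmem
    simp only [Finset.mem_insert, Finset.mem_singleton] at hmem
    have hfp : ∀ u ∈ modComm (V := V) y, y • u = u → u = 1 := fun u hu =>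
      eq_one_of_fixed h.sq hodd hu
    rcases hmem with e | e | e
    · refine absurd (h.faith y fun v => ?_) hy1
      have := (Subgroup.card_eq_one).mp e ▸ div_mem_modComm y v
      rwa [mem_bot, div_eq_one] at this
    · exfalso
      obtain ⟨⟨u, hu⟩, hu1⟩ : ∃ u : modComm (V := V) y, (u : V) ≠ 1 := by
        by_contra hno
        push_neg at hno
        rw [(Subgroup.eq_bot_iff_forall _).mpr fun u hu => hno ⟨u, hu⟩, Subgroup.card_bot] at e
        omega
      obtain ⟨b, c, hbc, hbcall⟩ := Nat.card_eq_two_iff.mp e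
      have hyu : y • u ∈ modComm (V := V) y := smul_mem_modComm hu
      have hyu1 : y • u ≠ 1 := fun e' => hu1 ((smul_left_cancel_iff y).mp (e'.trans (smul_one y).symm))
      have h3 : ∀ p : modComm (V := V) y, p = b ∨ p = c := fun p => by
        have : p ∈ ({b, c} : Set _) := hbcall ▸ Set.mem_univ p
        simpa using this
      apply hu1
      apply hfp u hu
      rcases h3 1 with h1 | h1 <;> rcases h3 ⟨u, hu⟩ with h2 | h2 <;>
        rcases h3 ⟨y • u, hyu⟩ with h5 | h5 <;>
        first
          | exact congrArg Subtype.val (h5.trans h2.symm)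
          | exact absurd (congrArg Subtype.val (h2.trans h1.symm)) hu1
          | exact absurd (congrArg Subtype.val (h5.trans h1.symm)) hyu1
    · exact e
  refine ⟨y, ⟨hyF, ?_, h4⟩, hyinv⟩
  refine orderOf_eq_prime (h.faith _ fun v => ?_) hy1
  refine smul_eq_of_stab h.sq (hodd.of_dvd_nat (orderOf_pow_dvd 3))
    (modComm_le_of_mem_zpowers (pow_mem (mem_zpowers y) 3)) (fun u hu => ?_) v
  rcases eq_or_ne u 1 with rfl | hu1
  · simp
  · exact (four_cases h.sq hodd h4 hu hu1).2

/-- Block elements commute. -/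
theorem IsBlockElt.commute (h : Setting Γ V F) {y z : Γ} (hy : IsBlockElt V F y)
    (hz : IsBlockElt V F z) : Commute y z := by
  have h3 : Fact (Nat.Prime 3) := ⟨by norm_num⟩
  have hnil := h.nil
  obtain ⟨P⟩ : Nonempty (Sylow 3 F) := inferInstance
  have hPn : (P : Subgroup F).Normal := Sylow.normal_of_normalizerCondition
    Group.normalizerCondition_of_isNilpotent P
  have hin : ∀ {a : Γ} (ha : IsBlockElt V F a), (⟨a, ha.mem⟩ : F) ∈ (P : Subgroup F) := by
    intro a ha
    have hp : IsPGroup 3 (zpowers (⟨a, ha.mem⟩ : F)) := by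
      refine IsPGroup.of_card (n := 1) ?_
      rw [Nat.card_zpowers, Subgroup.orderOf_mk, ha.order, pow_one]
    obtain ⟨P', hP'⟩ := hp.exists_le_sylow
    have : Subsingleton (Sylow 3 F) := Sylow.unique_of_normal P hPn |>.instSubsingleton
    exact Subsingleton.elim P' P ▸ hP' (mem_zpowers _)
  set U := modComm (V := V) y ⊔ modComm z with hU
  set P₀ := Subgroup.closure ({y, z} : Set Γ) with hP₀
  have hP₀3 : IsPGroup 3 P₀ := by
    refine ((P.isPGroup'.map F.subtype)).to_le ?_
    rw [hP₀, closure_le]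
    rintro _ (rfl | rfl)
    · exact ⟨_, hin hy, rfl⟩
    · exact ⟨_, hin hz, rfl⟩
  have hPU : P₀ ≤ movingInto U := by
    rw [hP₀, closure_le]
    rintro _ (rfl | rfl)
    · exact mem_movingInto.mpr le_sup_left
    · exact mem_movingInto.mpr le_sup_right
  let φ : P₀ →* MulAut U :=
    { toFun := fun g =>
        { toFun := fun u => ⟨(g : Γ) • (u : V), smul_mem_of_modComm_le (hPU g.2) u.2⟩
          invFun := fun u => ⟨(g : Γ)⁻¹ • (u : V),
            smul_mem_of_modComm_le (hPU (P₀.inv_mem g.2)) u.2⟩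
          left_inv := fun u => by simp
          right_inv := fun u => by simp
          map_mul' := fun u v => Subtype.ext (smul_mul' _ _ _) }
      map_one' := by ext u; simp
      map_mul' := fun a b => by ext u; simp [mul_smul] }
  have hφ : Function.Injective φ := by
    refine (injective_iff_map_eq_one φ).mpr fun g hg => Subtype.ext (h.faith _ fun v => ?_)
    have hodd : Odd (orderOf (g : Γ)) := by
      obtain ⟨k, hk⟩ := (IsPGroup.iff_orderOf.mp hP₀3) g
      rw [Subgroup.orderOf_coe, hk]
      exact (by decide : Odd 3).pow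
    exact smul_eq_of_stab h.sq hodd (hPU g.2)
      (fun u hu => congrArg Subtype.val (congrArg (fun e : MulAut U => e ⟨u, hu⟩) hg)) v
  have hU16 : Nat.card U ≤ 16 := by
    refine Nat.le_of_dvd (by norm_num) ((CfsgLib.PLocal.card_sup_dvd_mul _ _).trans ?_)
    rw [hy.card, hz.card]
  have hUsq : ∀ x : U, x ^ 2 = 1 := fun x => Subtype.ext (by simpa [pow_two] using h.sq x)
  exact congrArg Subtype.val (commute_of_threeGroup_small hP₀3 hUsq hU16 φ hφ
    ⟨y, subset_closure (by simp)⟩ ⟨z, subset_closure (by simp)⟩)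

/-- Distinct blocks: `z` fixes the four-group of `y`, and the four-groups meet trivially. -/
theorem IsBlockElt.inf_eq_bot (h : Setting Γ V F) {y z : Γ} (hy : IsBlockElt V F y)
    (hz : IsBlockElt V F z) (hne : z ∉ zpowers y) :
    modComm (V := V) y ⊓ modComm z = ⊥ := by
  refine (Subgroup.eq_bot_iff_forall _).mpr fun v hv => ?_
  by_contra hv1
  apply hne
  have hc := (hy.commute h hz).symm
  have hyz : modComm (V := V) z ≤ modComm y := by
    obtain ⟨hall, -⟩ := four_cases h.sq hz.odd hz.card hv.2 hv1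
    intro u hu
    have h1 := smul_modComm_of_commute hc hv.1
    rcases hall u hu with rfl | rfl | rfl | rfl
    · exact one_mem _
    · exact hv.1
    · exact h1
    · rw [pow_two, mul_smul]; exact smul_modComm_of_commute hc h1
  obtain ⟨i, hi⟩ := hy.exists_pow h hc
  have : z = y ^ i := by
    refine h.eq_of_agree hy.odd hi fun u hu => ?_
    have h1 : (z • u) / u ∈ modComm (V := V) y ⊓ fix {y} :=
      ⟨hyz (div_mem_modComm z u), Subgroup.div_mem _ (smul_fix_of_commute hc hu) hu⟩
    rw [modComm_inf_fix h.sq hy.odd, mem_bot, div_eq_one] at h1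
    rw [h1, MulAction.mem_stabilizer_iff.mp
      (pow_mem (MulAction.mem_stabilizer_iff.mpr (mem_fix_singleton.mp hu)) i)]
  rw [this]
  exact pow_mem (mem_zpowers y) i

theorem IsBlockElt.smul_eq_self (h : Setting Γ V F) {y z : Γ} (hy : IsBlockElt V F y)
    (hz : IsBlockElt V F z) (hne : z ∉ zpowers y) {u : V} (hu : u ∈ modComm (V := V) y) :
    z • u = u := by
  have h1 : (z • u) / u ∈ modComm (V := V) y ⊓ modComm z :=
    ⟨Subgroup.div_mem _ (smul_modComm_of_commute (hy.commute h hz).symm hu) hu, div_mem_modComm z u⟩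
  rwa [hy.inf_eq_bot h hz hne, mem_bot, div_eq_one] at h1

/-! ### The transvection of a block -/

omit [Finite Γ] in
theorem conj_eq_of_inverted {t y : Γ} (ht : t * t = 1) (hinv : t * y * t = y⁻¹) :
    t * y * t⁻¹ = y⁻¹ := by
  rwa [inv_eq_of_mul_eq_one_right ht]

theorem IsBlockElt.smul_mem_of_inverted {t y : Γ} (ht : t * t = 1) (hinv : t * y * t = y⁻¹)
    {u : V} (hu : u ∈ modComm (V := V) y) : t • u ∈ modComm (V := V) y := by
  have := smul_modComm_mem (h := t) hu
  rwa [conj_eq_of_inverted ht hinv, modComm_inv] at this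

theorem IsBlockElt.modComm_transvection_le (h : Setting Γ V F) {t y : Γ} (hy : IsBlockElt V F y)
    (ht : IsTransvection V t) (hinv : t * y * t = y⁻¹) :
    modComm (V := V) t ≤ modComm y := by
  obtain ⟨u, hu, htu⟩ : ∃ u ∈ modComm (V := V) y, t • u ≠ u := by
    by_contra hno
    push_neg at hno
    apply hy.ne_one
    refine h.faith y fun v => smul_eq_of_stab h.sq hy.odd le_rfl (fun u hu => ?_) v
    apply smul_eq_of_sq_fix hy.odd
    have h1 : y⁻¹ • u = y • u := by
      rw [← hinv, mul_smul, mul_smul, hno u hu, hno _ (smul_mem_modComm hu)]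
    rw [pow_two, mul_smul, ← h1, smul_inv_smul]
  exact le_of_card_two ht.2 (div_mem_modComm t u)
    (Subgroup.div_mem _ (IsBlockElt.smul_mem_of_inverted ht.1 hinv hu) hu) (by rwa [Ne, div_eq_one])

theorem IsBlockElt.transvection_fix (h : Setting Γ V F) {t y : Γ} (hy : IsBlockElt V F y)
    (ht : IsTransvection V t) (hinv : t * y * t = y⁻¹) {u : V} (hu : u ∈ fix (V := V) {y}) :
    t • u = u := by
  have hm : t • u ∈ fix (V := V) {y} := by
    have := smul_fix_mem (h := t) hu
    rw [conj_eq_of_inverted ht.1 hinv, mem_fix_singleton, inv_smul_eq_iff] at this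
    exact mem_fix_singleton.mpr this.symm
  have h1 : (t • u) / u ∈ modComm (V := V) y ⊓ fix {y} :=
    ⟨hy.modComm_transvection_le h ht hinv (div_mem_modComm t u), Subgroup.div_mem _ hm hu⟩
  rwa [modComm_inf_fix h.sq hy.odd, mem_bot, div_eq_one] at h1

/-- A transvection centralises every other block element and its four-group. -/
theorem IsBlockElt.transvection_other (h : Setting Γ V F) {t y z : Γ} (hy : IsBlockElt V F y)
    (ht : IsTransvection V t) (hinv : t * y * t = y⁻¹) (hz : IsBlockElt V F z)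
    (hne : z ∉ zpowers y) :
    Commute t z ∧ ∀ u ∈ modComm (V := V) z, t • u = u := by
  have hti : t⁻¹ = t := inv_eq_of_mul_eq_one_right ht.1
  have hzy : modComm (V := V) y ⊓ modComm z = ⊥ := hy.inf_eq_bot h hz hne
  have hz' := hz.conj h t
  have hzz : t * z * t⁻¹ ∈ zpowers z := by
    by_contra hcon
    have h0 := hz.inf_eq_bot h hz' hcon
    have hle : modComm (V := V) (t * z * t⁻¹) ≤ modComm z ⊔ modComm t := by
      intro v hv
      have h1 := smul_modComm_mem (h := t⁻¹) hv
      rw [show t⁻¹ * (t * z * t⁻¹) * t⁻¹⁻¹ = z by group] at h1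
      have h2 := div_mem_modComm (V := V) t (t⁻¹ • v)
      rw [smul_inv_smul] at h2
      have h3 := mul_mem (mem_sup_right h2 : _ ∈ modComm (V := V) z ⊔ modComm t) (mem_sup_left h1)
      rwa [div_mul_cancel] at h3
    have h4 := card_sup_of_disjoint h0
    have h5 := card_dvd_of_le (sup_le (le_sup_left : modComm (V := V) z ≤ _) hle)
    rw [h4, hz.card, hz'.card] at h5
    have h6 := Nat.le_of_dvd (Nat.mul_pos Nat.card_pos Nat.card_pos)
      (h5.trans (CfsgLib.PLocal.card_sup_dvd_mul _ _))
    rw [hz.card, ht.2] at h6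
    omega
  have hW : modComm (V := V) (t * z * t⁻¹) = modComm z :=
    modComm_eq_of_mem hz.order hzz hz'.ne_one
  have hfix : ∀ u ∈ modComm (V := V) z, t • u = u := by
    intro u hu
    have h1 : (t • u) / u ∈ modComm (V := V) y ⊓ modComm z :=
      ⟨hy.modComm_transvection_le h ht hinv (div_mem_modComm t u),
        Subgroup.div_mem _ (hW ▸ smul_modComm_mem hu) hu⟩
    rwa [hzy, mem_bot, div_eq_one] at h1
  refine ⟨?_, hfix⟩
  refine h.eq_of_agree hz.odd (fun u hu => ?_) fun u hu => ?_
  · rw [mul_smul, mul_smul, hfix u hu, hfix _ (smul_mem_modComm hu)]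
  · have hz1 : z ∈ zpowers (t * z * t⁻¹) := by
      rw [zpowers_eq_of_mem hz.order hzz hz'.ne_one]; exact mem_zpowers z
    have hfz : z • (t • u) = t • u := MulAction.mem_stabilizer_iff.mp
      ((zpowers_le.mpr (MulAction.mem_stabilizer_iff.mpr
        (mem_fix_singleton.mp (smul_fix_mem hu)))) hz1)
    rw [mul_smul, mul_smul, mem_fix_singleton.mp hu, hfz]

theorem IsBlockElt.mem_zpowers_of_inverted (h : Setting Γ V F) {t y z : Γ}
    (hy : IsBlockElt V F y) (ht : IsTransvection V t) (hinv : t * y * t = y⁻¹)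
    (hz : IsBlockElt V F z) (hzinv : t * z * t = z⁻¹) : z ∈ zpowers y := by
  by_contra hne
  have hc := (hy.transvection_other h ht hinv hz hne).1
  apply hz.ne_one
  apply eq_one_of_inv_eq hz.odd
  rw [← hzinv, hc.eq, mul_assoc, ht.1, mul_one]

/-- Transvections of the same block differ by a power of the block element. -/
theorem IsBlockElt.mul_mem_zpowers (h : Setting Γ V F) {s t y : Γ} (hy : IsBlockElt V F y)
    (hs : IsTransvection V s) (hsinv : s * y * s = y⁻¹)
    (ht : IsTransvection V t) (htinv : t * y * t = y⁻¹) : s * t ∈ zpowers y := by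
  have hsi : s⁻¹ = s := inv_eq_of_mul_eq_one_right hs.1
  have hsinv' : s * y⁻¹ * s = y := by
    rw [← hsinv]
    simp only [mul_assoc]
    rw [hs.1, mul_one, ← mul_assoc s s y, hs.1, one_mul]
  have hc : Commute (s * t) y := by
    have hti : t⁻¹ = t := inv_eq_of_mul_eq_one_right ht.1
    have : (s * t) * y * (s * t)⁻¹ = y := by
      rw [mul_inv_rev, hsi, hti]
      calc s * t * y * (t * s) = s * (t * y * t) * s := by simp [mul_assoc]
        _ = y := by rw [htinv, hsinv']
    exact mul_inv_eq_iff_eq_mul.mp this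
  obtain ⟨i, hi⟩ := hy.exists_pow h hc
  have : s * t = y ^ i := by
    refine h.eq_of_agree hy.odd hi fun u hu => ?_
    rw [mul_smul, hy.transvection_fix h ht htinv hu, hy.transvection_fix h hs hsinv hu,
      MulAction.mem_stabilizer_iff.mp
        (pow_mem (MulAction.mem_stabilizer_iff.mpr (mem_fix_singleton.mp hu)) i)]
  rw [this]
  exact pow_mem (mem_zpowers y) i

/-- Two transvections of one block inside a `2`-group are equal. -/
theorem IsBlockElt.eq_of_twoGroup (h : Setting Γ V F) {s t y : Γ} (hy : IsBlockElt V F y)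
    (hs : IsTransvection V s) (hsinv : s * y * s = y⁻¹)
    (ht : IsTransvection V t) (htinv : t * y * t = y⁻¹) {P : Subgroup Γ} (hP : IsPGroup 2 P)
    (hsP : s ∈ P) (htP : t ∈ P) : s = t := by
  have h1 := hy.mul_mem_zpowers h hs hsinv ht htinv
  have h2 : zpowers y ⊓ P = ⊥ := by
    rw [inf_comm]
    refine CfsgLib.PLocal.disjoint_of_isPGroup_of_coprime hP ?_
    rw [Nat.card_zpowers, hy.order]; decide
  have h3 : s * t = 1 := mem_bot.mp (h2 ▸ ⟨h1, P.mul_mem hsP htP⟩)
  calc s = s * t * t := by rw [mul_assoc, ht.1, mul_one]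
    _ = t := by rw [h3, one_mul]

/-- Transvections of different blocks commute. -/
theorem IsBlockElt.transvection_commute (h : Setting Γ V F) {s t y z : Γ}
    (hy : IsBlockElt V F y) (ht : IsTransvection V t) (htinv : t * y * t = y⁻¹)
    (hz : IsBlockElt V F z) (hs : IsTransvection V s) (hsinv : s * z * s = z⁻¹)
    (hne : z ∉ zpowers y) : Commute s t := by
  obtain ⟨hc, hfix⟩ := hy.transvection_other h ht htinv hz hne
  refine h.eq_of_agree hz.odd (fun u hu => ?_) fun u hu => ?_
  · rw [mul_smul, mul_smul, hfix u hu, hfix _ (IsBlockElt.smul_mem_of_inverted hs.1 hsinv hu)]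
  · rw [mul_smul, mul_smul, hz.transvection_fix h hs hsinv (smul_fix_of_commute hc hu),
      hz.transvection_fix h hs hsinv hu]

/-! ### The block group -/

omit [Finite Γ] [Finite V] in
theorem IsBlockElt.mem_blockGroup {y : Γ} (hy : IsBlockElt V F y) : y ∈ blockGroup V F :=
  subset_closure hy

theorem Setting.isMulCommutative_blockGroup (h : Setting Γ V F) :
    IsMulCommutative (blockGroup V F) :=
  Subgroup.isMulCommutative_closure fun _ hy _ hz => (IsBlockElt.commute h hy hz).eq

theorem Setting.blockGroup_normal (h : Setting Γ V F) : (blockGroup V F).Normal := by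
  refine ⟨fun n hn g => ?_⟩
  induction hn using Subgroup.closure_induction with
  | mem x hx => exact (hx.conj h g).mem_blockGroup
  | one => simp
  | mul a b _ _ iha ihb => simpa using mul_mem iha ihb
  | inv a _ iha => simpa [mul_assoc] using inv_mem iha

/-- Elements of odd order in the transvection group lie in the block group. -/
theorem Setting.mem_blockGroup_of_odd (h : Setting Γ V F) {g : Γ}
    (hg : g ∈ Subgroup.closure {t | IsTransvection V t}) (hodd : Odd (orderOf g)) :
    g ∈ blockGroup V F := by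
  have := h.blockGroup_normal
  let π := QuotientGroup.mk' (blockGroup V F)
  have hel : Cfsg.IsElementaryAbelian 2 (Subgroup.closure (π '' {t | IsTransvection V t})) := by
    refine CfsgLib.PLocal.isElementaryAbelian_closure ?_ ?_
    · rintro _ ⟨s, hs, rfl⟩ _ ⟨t, ht, rfl⟩
      obtain ⟨y, hy, hyinv⟩ := h.exists_inverted ht
      obtain ⟨z, hz, hzinv⟩ := h.exists_inverted hs
      by_cases hzy : z ∈ zpowers y
      · have hsinv : s * y * s = y⁻¹ := by
          rcases eq_or_eq_inv_of_mem_zpowers hy.order hzy hz.ne_one with rfl | rfl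
          · exact hzinv
          · rw [inv_inv] at hzinv
            calc s * y * s = (s * y⁻¹ * s⁻¹)⁻¹ := by
                  rw [inv_eq_of_mul_eq_one_right hs.1]
                  simp [mul_assoc, inv_eq_of_mul_eq_one_right hs.1]
              _ = y⁻¹ := by rw [inv_eq_of_mul_eq_one_right hs.1, hzinv]
        have e1 : π (s * t) = 1 := (QuotientGroup.eq_one_iff _).mpr
          (zpowers_le.mpr hy.mem_blockGroup (hy.mul_mem_zpowers h hs hsinv ht hyinv))
        have e2 : π (t * s) = 1 := (QuotientGroup.eq_one_iff _).mpr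
          (zpowers_le.mpr hy.mem_blockGroup (hy.mul_mem_zpowers h ht hyinv hs hsinv))
        rw [← map_mul, ← map_mul, e1, e2]
      · rw [← map_mul, ← map_mul,
          (hy.transvection_commute h ht hyinv hz hs hzinv hzy).eq]
    · rintro _ ⟨s, hs, rfl⟩
      rw [← map_pow, pow_two, hs.1, map_one]
  have hmem : π g ∈ Subgroup.closure (π '' {t | IsTransvection V t}) := by
    rw [← MonoidHom.map_closure]; exact mem_map_of_mem π hg
  have h2 : π g ^ 2 = 1 := hel.2 _ hmem
  rw [← map_pow, show π (g ^ 2) = ((g ^ 2 : Γ) : Γ ⧸ blockGroup V F) from rfl,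
    QuotientGroup.eq_one_iff] at h2
  exact zpowers_le.mpr h2 (mem_zpowers_sq hodd)

/-- An element commuting with a block element and inverted by its transvection is a power of it. -/
theorem IsBlockElt.mem_zpowers_of_commute (h : Setting Γ V F) {t y k : Γ}
    (hy : IsBlockElt V F y) (ht : IsTransvection V t) (hinv : t * y * t = y⁻¹)
    (hc : Commute k y) (hk : Odd (orderOf k)) (hkinv : t * k * t = k⁻¹) : k ∈ zpowers y := by
  obtain ⟨i, hi⟩ := hy.exists_pow h hc
  have : k = y ^ i := by
    refine h.eq_of_agree hy.odd hi fun u hu => ?_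
    rw [MulAction.mem_stabilizer_iff.mp
      (pow_mem (MulAction.mem_stabilizer_iff.mpr (mem_fix_singleton.mp hu)) i)]
    apply smul_eq_of_sq_fix hk
    have h1 : k⁻¹ • u = k • u := by
      rw [← hkinv, mul_smul, mul_smul, hy.transvection_fix h ht hinv hu,
        hy.transvection_fix h ht hinv (smul_fix_of_commute hc hu)]
    rw [pow_two, mul_smul, ← h1, smul_inv_smul]
  rw [this]
  exact pow_mem (mem_zpowers y) i

/-- The transvection group fixes every block. -/
theorem Setting.conj_mem_zpowers (h : Setting Γ V F) {g y : Γ}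
    (hg : g ∈ Subgroup.closure {t | IsTransvection V t}) (hy : IsBlockElt V F y) :
    g * y * g⁻¹ ∈ zpowers y := by
  induction hg using Subgroup.closure_induction generalizing y with
  | mem t ht =>
    obtain ⟨z, hz, hzinv⟩ := h.exists_inverted ht
    by_cases hyz : y ∈ zpowers z
    · rw [zpowers_eq_of_mem hz.order hyz hy.ne_one]
      obtain ⟨n, rfl⟩ := mem_zpowers_iff.mp hyz
      rw [← conj_zpow, conj_eq_of_inverted ht.1 hzinv]
      exact zpow_mem (inv_mem (mem_zpowers z)) n
    · rw [(hz.transvection_other h ht hzinv hy hyz).1.eq, mul_inv_cancel_right]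
      exact mem_zpowers y
  | one => simp
  | mul a b _ _ iha ihb =>
    obtain ⟨n, hn⟩ := mem_zpowers_iff.mp (ihb hy)
    have : a * b * y * (a * b)⁻¹ = (a * y * a⁻¹) ^ n := by
      rw [conj_zpow, hn]; group
    rw [this]
    exact zpow_mem (iha hy) n
  | inv a _ iha =>
    have h1 := iha hy
    have hne : a * y * a⁻¹ ≠ 1 := by simpa using hy.ne_one
    rcases eq_or_eq_inv_of_mem_zpowers hy.order h1 hne with e | e
    · have : a⁻¹ * y * a⁻¹⁻¹ = y := by nth_rewrite 1 [← e]; group
      rw [this]; exact mem_zpowers y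
    · have : a⁻¹ * y * a⁻¹⁻¹ = y⁻¹ := by
        have e' : y = a * y⁻¹ * a⁻¹ := by rw [← conj_inv, e, inv_inv]
        nth_rewrite 1 [e']; group
      rw [this]; exact inv_mem (mem_zpowers y)

end CfsgLib.JComp
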