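import Cfsg.Agent.JComp.Unique

/-!
The bound `|Ω₁Z(J(T))| ≤ 4`, and `T ≤ N(K)`, for a component `K` with a second component outside its
largest `2`-local subgroup.
-/

set_option autoImplicit false

namespace CfsgLib.JComp

open Subgroup
open scoped IsMulCommutative

variable {G : Type*} [Group G]

/-- `Ω₁Z(J(T))`. -/
abbrev jZ (T : Subgroup G) : Subgroup G := Cfsg.omegaCenterOf (Cfsg.thompsonSubgroupOf 2 T)

/-- The part of `Ω₁Z(J(T))` centralised by `K` and `J(T)`. -/
abbrev cen (T K : Subgroup G) : Subgroup G :=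
  jZ T ⊓ centralizer ((K ⊔ Cfsg.thompsonSubgroupOf 2 T : Subgroup G) : Set G)

/-- `L` is the largest `2`-local subgroup containing `K` and `J(T)`. -/
structure Above (T K L : Subgroup G) : Prop where
  max : Cfsg.IsMaximalTwoLocal L
  le : K ⊔ Cfsg.thompsonSubgroupOf 2 T ≤ L
  top : ∀ Y, Cfsg.IsTwoLocal Y → K ⊔ Cfsg.thompsonSubgroupOf 2 T ≤ Y → Y ≤ L

/-- A component with its largest `2`-local subgroup, in which `T` is a Sylow subgroup. -/
structure Main (T K L : Subgroup G) : Prop where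
  comp : Cfsg.IsJComponent T K
  above : Above T K L
  ctx : Ctx T L

omit [Group G] in
theorem eq_one_or_eq_of_card_two [Group G] {H : Subgroup G} (hc : Nat.card H = 2) {x y : G}
    (hx : x ∈ H) (hx1 : x ≠ 1) (hy : y ∈ H) : y = 1 ∨ y = x := by
  obtain ⟨z, -, hz⟩ := (Nat.card_eq_two_iff' (1 : H)).mp hc
  by_cases h : y = 1
  · exact Or.inl h
  · exact Or.inr (congrArg Subtype.val ((hz ⟨y, hy⟩ fun e => h (congrArg Subtype.val e)).trans
      (hz ⟨x, hx⟩ fun e => hx1 (congrArg Subtype.val e)).symm))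

variable [Finite G] {T K K' L L' : Subgroup G}

/-- A Sylow subgroup of `L` is a maximal `2`-subgroup of `L`. -/
theorem eq_of_sylowTwoIn_le {P : Subgroup G} (hT : Cfsg.IsSylowTwoIn T L) (hTP : T ≤ P) (hPL : P ≤ L)
    (hP : IsPGroup 2 P) : P = T := by
  have h2 : Fact (Nat.Prime 2) := ⟨Nat.prime_two⟩
  obtain ⟨n, hn⟩ := IsPGroup.iff_card.mp hP
  refine le_antisymm (relIndex_eq_one.mp (Nat.eq_one_of_dvd_coprimes
    (Nat.Coprime.pow_right n (Nat.coprime_two_right.mpr hT.2.2)) ?_ ?_)) hTP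
  · exact ⟨P.relIndex L, (relIndex_mul_relIndex _ _ _ hTP hPL).symm⟩
  · rw [← hn, ← CfsgLib.PLocal.card_mul_relIndex hTP]; exact dvd_mul_left _ _

/-- An involution of `T` centralising `J(T)` lies in `Ω₁Z(J(T))`. -/
theorem mem_jZ_of_centralizer {x : G} (hxT : x ∈ T)
    (hxc : x ∈ centralizer (Cfsg.thompsonSubgroupOf 2 T : Set G)) (hx2 : x ^ 2 = 1) : x ∈ jZ T := by
  have h2 : Fact (Nat.Prime 2) := ⟨Nat.prime_two⟩
  obtain ⟨A, hA⟩ := CfsgLib.PLocal.maxEAIn_nonempty 2 T
  have hAJ := CfsgLib.PLocal.le_thompsonSubgroupOf hA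
  have hel := CfsgLib.PLocal.isElementaryAbelian_sup hA.2.1
    (CfsgLib.PLocal.isElementaryAbelian_zpowers (p := 2) (x := x) hx2)
    (fun a ha => mem_centralizer_iff.mpr fun y hy => by
      obtain ⟨n, rfl⟩ := mem_zpowers_iff.mp hy
      exact ((Commute.zpow_left (mem_centralizer_iff.mp hxc a (hAJ ha)).symm n)).eq)
  have hxA : x ∈ A := (Subgroup.eq_of_le_of_card_ge le_sup_left
    (hA.2.2 _ (sup_le hA.1 (zpowers_le.mpr hxT)) hel)).ge (mem_sup_right (mem_zpowers x))
  exact CfsgLib.PLocal.mem_omegaOne ⟨hAJ hxA, hxc⟩ hx2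

/-- `Ω₁Z(T) ≤ Ω₁Z(J(T))`. -/
theorem omegaCenterOf_le_jZ (T : Subgroup G) : Cfsg.omegaCenterOf T ≤ jZ T := fun _ hx =>
  mem_jZ_of_centralizer (omegaCenterOf_le T hx)
    (centralizer_le (CfsgLib.PLocal.thompsonSubgroupOf_le 2 T) (omegaCenterOf_le_centralizer T hx))
    ((isElementaryAbelian_omegaCenterOf T).2 _ hx)

theorem omegaCenterOf_ne_bot (hT : IsPGroup 2 T) (hT1 : T ≠ ⊥) : Cfsg.omegaCenterOf T ≠ ⊥ := by
  have h2 : Fact (Nat.Prime 2) := ⟨Nat.prime_two⟩
  have : Nontrivial T := (nontrivial_iff_ne_bot T).mpr hT1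
  have hZ := hT.center_nontrivial
  obtain ⟨n, hn⟩ := IsPGroup.iff_card.mp (hT.to_subgroup (center T))
  have hdvd : 2 ∣ Nat.card (center T) := by
    rw [hn]
    refine dvd_pow_self 2 fun e => ?_
    have := Finite.one_lt_card (α := center T)
    rw [hn, e] at this
    simp at this
  obtain ⟨x, hx⟩ := exists_prime_orderOf_dvd_card' 2 hdvd
  intro e
  have hmem : ((x : T) : G) ∈ Cfsg.omegaCenterOf T := by
    refine CfsgLib.PLocal.mem_omegaOne ⟨(x : T).2, mem_centralizer_iff.mpr fun y hy => ?_⟩ ?_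
    · exact congrArg Subtype.val (mem_center_iff.mp x.2 ⟨y, hy⟩)
    · rw [← Subgroup.coe_pow, ← Subgroup.coe_pow, ← hx, pow_orderOf_eq_one]; rfl
  rw [e, mem_bot] at hmem
  rw [show x = 1 from Subtype.ext (Subtype.ext hmem), orderOf_one] at hx
  omega

/-- A conjugate of a component by an element normalising `J(T)`. -/
theorem isJComponent_conj (hK : Cfsg.IsJComponent T K) {g : G}
    (hg : g ∈ normalizer (Cfsg.thompsonSubgroupOf 2 T : Set G)) :
    Cfsg.IsJComponent T (K.map (MulAut.conj g).toMonoidHom) :=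
  isJComponent_congr ((mem_normalizer_iff_map_conj_eq.mp hg).symm.trans (map_thompson _ T))
    (isJComponent_map (MulAut.conj g) hK)

/-- `Ω₁Z(J(T)) ∩ W` is the set of fixed points of `J(T)` in `W`. -/
theorem jZ_inf_wOf (hT : IsPGroup 2 T) (hK : Cfsg.IsJComponent T K) :
    jZ T ⊓ Cfsg.wOf K = Cfsg.wOf K ⊓ centralizer (Cfsg.thompsonSubgroupOf 2 T : Set G) := by
  obtain ⟨S, k, d⟩ := exists_compData hT hK
  exact le_antisymm (fun v hv => ⟨hv.2, omegaCenterOf_le_centralizer _ hv.1⟩) fun v hv =>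
    ⟨CfsgLib.PLocal.mem_omegaOne ⟨d.wOf_le_J hv.1, hv.2⟩ (d.wOf_elem.2 v hv.1), hv.1⟩

theorem card_jZ_inf_wOf (hT : IsPGroup 2 T) (hK : Cfsg.IsJComponent T K) :
    Nat.card ↥(jZ T ⊓ Cfsg.wOf K) = 2 := by
  obtain ⟨S, k, d⟩ := exists_compData hT hK
  rw [jZ_inf_wOf hT hK, d.card_fixed]

theorem cen_inf_wOf (hT : IsPGroup 2 T) (hK : Cfsg.IsJComponent T K) :
    cen T K ⊓ Cfsg.wOf K = ⊥ := by
  obtain ⟨S, k, d⟩ := exists_compData hT hK
  refine (Subgroup.eq_bot_iff_forall _).mpr fun v hv => d.fpf v hv.2 ?_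
  rw [mem_centralizer_iff.mp hv.1.2 k (mem_sup_left d.memk), mul_inv_cancel_right]

theorem cen_sup_eq (hT : IsPGroup 2 T) (hK : Cfsg.IsJComponent T K) :
    cen T K ⊔ (jZ T ⊓ Cfsg.wOf K) = jZ T := by
  obtain ⟨S, k, d⟩ := exists_compData hT hK
  refine le_antisymm (sup_le inf_le_left inf_le_left) fun u hu => ?_
  obtain ⟨v, hv, huv⟩ := d.exists_decomp hu
  rw [← jZ_inf_wOf hT hK] at hv
  have hvv : v * v = 1 := by simpa [pow_two] using d.wOf_elem.2 v hv.2
  rw [show u = u * v * v by rw [mul_assoc, hvv, mul_one]]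
  exact mul_mem_sup ⟨mul_mem hu hv.1, huv⟩ hv

/-- `|Ω₁Z(J(T))| = 2 |D|`. -/
theorem card_jZ (hT : IsPGroup 2 T) (hK : Cfsg.IsJComponent T K) :
    Nat.card ↥(jZ T) = 2 * Nat.card ↥(cen T K) := by
  have h := Ctx.img_le_closure.card_sup_mul_card_inf (cen T K) (jZ T ⊓ Cfsg.wOf K)
    ((le_centralizer_iff_isMulCommutative.mpr
      (isElementaryAbelian_omegaCenterOf _).1).trans' inf_le_left |>.trans
        ((centralizer_le inf_le_left).trans (Subgroup.centralizer_le_normalizer _)))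
  rw [cen_sup_eq hT hK, card_jZ_inf_wOf hT hK,
    le_bot_iff.mp ((inf_le_inf_left _ inf_le_right).trans (cen_inf_wOf hT hK).le),
    Subgroup.card_bot, mul_one] at h
  rw [h, mul_comm]

/-- If two components have `D ∩ D' = 1` then `|Ω₁Z(J(T))| ≤ 4`. -/
theorem card_le_four (hT : IsPGroup 2 T) (hK : Cfsg.IsJComponent T K)
    (hK' : Cfsg.IsJComponent T K') (h : cen T K ⊓ cen T K' = ⊥) :
    Nat.card ↥(cen T K) ≤ 2 ∧ Nat.card ↥(jZ T) ≤ 4 := by
  have hle : cen T K ≤ normalizer (cen T K' : Set G) :=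
    (le_centralizer_iff_isMulCommutative.mpr (isElementaryAbelian_omegaCenterOf _).1).trans'
      inf_le_left |>.trans ((centralizer_le inf_le_left).trans (Subgroup.centralizer_le_normalizer _))
  have h1 := Ctx.img_le_closure.card_sup_mul_card_inf _ _ hle
  rw [h, Subgroup.card_bot, mul_one] at h1
  have h2 : Nat.card ↥(cen T K ⊔ cen T K') ≤ Nat.card ↥(jZ T) :=
    Subgroup.card_le_of_le (sup_le inf_le_left inf_le_left)
  have e := card_jZ hT hK
  have e' := card_jZ hT hK'
  rw [h1, show Nat.card ↥(cen T K') = Nat.card ↥(cen T K) by omega, e] at h2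
  have := Nat.le_of_mul_le_mul_right h2 Nat.card_pos
  omega

/-! ### The largest `2`-local subgroup -/

namespace Above

theorem eq (h : Above T K L) (h' : Above T K L') : L = L' :=
  le_antisymm (h'.top L h.max.1 h.le) (h.top L' h'.max.1 h'.le)

theorem normalizer_le (h : Above T K L) : normalizer (L : Set G) ≤ L := by
  obtain ⟨R, hR, hR1, e⟩ := h.max.1
  have hne : Cfsg.pCoreOf 2 L ≠ ⊥ := fun e' => hR1 (le_bot_iff.mp
    (e' ▸ le_pCoreOf (e ▸ le_normalizer) (le_of_eq e) hR))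
  exact (le_normalizer_pCoreOf' L).trans
    (h.max.2 _ ⟨_, isPGroup_pCoreOf 2 L, hne, rfl⟩ (le_normalizer_pCoreOf 2 L)).le

/-- The centraliser of an involution centralised by `K` and `J(T)` lies in `L`. -/
theorem centralizer_le (h : Above T K L) {x : G} (hx1 : x ≠ 1) (hx2 : x * x = 1)
    (hx : x ∈ centralizer ((K ⊔ Cfsg.thompsonSubgroupOf 2 T : Subgroup G) : Set G)) :
    centralizer ({x} : Set G) ≤ L := by
  have h2 : Fact (Nat.Prime 2) := ⟨Nat.prime_two⟩
  have hC : centralizer ({x} : Set G) ≤ normalizer (zpowers x : Set G) := fun g hg => by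
    rw [mem_normalizer_iff_map_conj_eq, MonoidHom.map_zpowers]
    congr 1
    show g * x * g⁻¹ = x
    rw [mem_centralizer_singleton_iff.mp hg, mul_inv_cancel_right]
  refine hC.trans (h.top _ ⟨zpowers x, CfsgLib.PLocal.isPGroup_of_isElementaryAbelian
    (CfsgLib.PLocal.isElementaryAbelian_zpowers (by rw [pow_two]; exact hx2)),
    fun e => hx1 (zpowers_eq_bot.mp e), rfl⟩ ((fun g hg => ?_ : _ ≤ _).trans hC))
  exact mem_centralizer_singleton_iff.mpr (mem_centralizer_iff.mp hx g hg)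

/-- The subgroups centralised by `⟨K, J⟩` and by `⟨K', J⟩` meet trivially if `K' ≰ L`. -/
theorem cen_inf (h : Above T K L) (hK' : ¬ K' ≤ L) : cen T K ⊓ cen T K' = ⊥ := by
  refine (Subgroup.eq_bot_iff_forall _).mpr fun x hx => ?_
  by_contra hx1
  refine hK' (le_trans (fun g hg => ?_) (h.centralizer_le hx1 ?_ hx.1.2))
  · exact mem_centralizer_singleton_iff.mpr (mem_centralizer_iff.mp hx.2.2 g (mem_sup_left hg))
  · simpa [pow_two] using (isElementaryAbelian_omegaCenterOf _).2 x hx.1.1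

theorem map (h : Above T K L) (g : G) :
    Above (T.map (MulAut.conj g).toMonoidHom) (K.map (MulAut.conj g).toMonoidHom)
      (L.map (MulAut.conj g).toMonoidHom) := by
  set c := MulAut.conj g with hc
  have hloc : ∀ (e : G ≃* G) {Y : Subgroup G}, Cfsg.IsTwoLocal Y →
      Cfsg.IsTwoLocal (Y.map e.toMonoidHom) := by
    rintro e Y ⟨R, hR, hR1, rfl⟩
    exact ⟨_, hR.map _, (map_eq_bot_iff_of_injective _ (f := e.toMonoidHom) e.injective).not.mpr hR1,
      map_equiv_normalizer_eq R e⟩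
  have key : ∀ {Y : Subgroup G}, Cfsg.IsTwoLocal Y →
      K.map c.toMonoidHom ⊔ Cfsg.thompsonSubgroupOf 2 (T.map c.toMonoidHom) ≤ Y →
        Y ≤ L.map c.toMonoidHom := by
    intro Y hY hKY
    rw [← map_symm_map c Y]
    refine map_mono (h.top _ (hloc c.symm hY) ?_)
    rw [← map_thompson, ← Subgroup.map_sup] at hKY
    have h1 := map_mono (f := c.symm.toMonoidHom) hKY
    rwa [show ((K ⊔ Cfsg.thompsonSubgroupOf 2 T).map c.toMonoidHom).map c.symm.toMonoidHom =
      K ⊔ Cfsg.thompsonSubgroupOf 2 T from map_symm_map c.symm _] at h1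
  refine ⟨⟨hloc c h.max.1, fun Y hY hLY => le_antisymm (key hY ?_) hLY⟩, ?_, fun Y => key⟩
  · refine le_trans ?_ hLY
    rw [← map_thompson, ← Subgroup.map_sup]
    exact map_mono h.le
  · rw [← map_thompson, ← Subgroup.map_sup]
    exact map_mono h.le

theorem conj (h : Above T K L) {g : G}
    (hg : g ∈ normalizer (Cfsg.thompsonSubgroupOf 2 T : Set G)) :
    Above T (K.map (MulAut.conj g).toMonoidHom) (L.map (MulAut.conj g).toMonoidHom) := by
  have hJ : Cfsg.thompsonSubgroupOf 2 (T.map (MulAut.conj g).toMonoidHom) =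
      Cfsg.thompsonSubgroupOf 2 T :=
    (map_thompson _ T).symm.trans (mem_normalizer_iff_map_conj_eq.mp hg)
  obtain ⟨h1, h2, h3⟩ := h.map g
  exact ⟨h1, hJ ▸ h2, fun Y hY => hJ ▸ h3 Y hY⟩

theorem not_le_conj (h : Above T K L) {g : G}
    (hg : g ∈ normalizer (Cfsg.thompsonSubgroupOf 2 T : Set G)) (hgL : g ∉ L) :
    ¬ K.map (MulAut.conj g).toMonoidHom ≤ L := by
  intro hle
  have h' := h.conj hg
  have h1 := h'.top L h.max.1 (sup_le hle (le_sup_right.trans h.le))
  refine hgL (h.normalizer_le (mem_normalizer_iff_map_conj_eq.mpr ?_))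
  exact (Subgroup.eq_of_le_of_card_ge h1
    (card_map_of_injective (f := (MulAut.conj g).toMonoidHom) (MulAut.conj g).injective).le).symm

end Above

/-- The centraliser of a central involution of a Sylow subgroup contains no component. -/
theorem not_le_centralizer (hT : IsPGroup 2 T) (hK : Cfsg.IsJComponent T K)
    (hZ : ∀ S : Sylow 2 G, centralizer (Cfsg.omegaCenterOf (S : Subgroup G) : Set G) ≤
      normalizer ((S : Subgroup G) : Set G)) (S : Sylow 2 G) :
    ¬ K ⊔ Cfsg.thompsonSubgroupOf 2 T ≤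
      centralizer (Cfsg.omegaCenterOf (S : Subgroup G) : Set G) := by
  have h2 : Fact (Nat.Prime 2) := ⟨Nat.prime_two⟩
  intro h
  have hN := h.trans (hZ S)
  have hJS : Cfsg.thompsonSubgroupOf 2 T ≤ (S : Subgroup G) :=
    (S.is_maximal' (IsPGroup.to_sup_of_normal_left' S.isPGroup'
      (hT.to_le (CfsgLib.PLocal.thompsonSubgroupOf_le 2 T)) (le_sup_right.trans hN)) le_sup_left) ▸
      le_sup_right
  have hKS : K ≤ (S : Subgroup G) := by
    conv_lhs => rw [← hK.2.1]
    rw [commutator_le]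
    intro x hx j hj
    exact mul_mem ((mem_normalizer_iff.mp (hN (mem_sup_left hx)) j).mp (hJS hj)) (inv_mem (hJS hj))
  obtain ⟨S₀, k, d⟩ := exists_compData hT hK
  obtain ⟨n, hn⟩ := S.isPGroup' ⟨k, hKS d.memk⟩
  have := orderOf_eq_one_iff.mpr (show k = 1 from orderOf_eq_one_iff.mp (Nat.eq_one_of_dvd_coprimes
    (Nat.Coprime.pow_left n (show Nat.Coprime 2 3 by decide))
    (orderOf_dvd_of_pow_eq_one (by simpa using congrArg Subtype.val hn)) d.ordk.dvd))
  rw [d.ordk] at this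
  omega

/-- A component centralises the four-groups of the other components. -/
theorem Ctx.component_le_centralizer {T' : Subgroup G} (h : Ctx T L) (h' : Ctx T' L)
    (hK : Cfsg.IsJComponent T K) (hKL : K ≤ L) (hK' : Cfsg.IsJComponent T' K') (hKL' : K' ≤ L)
    (hne : K ≠ K') : K ≤ centralizer (Cfsg.wOf K' : Set G) := by
  obtain ⟨a, k, -, hp, rfl, -⟩ := h.classify hK hKL
  obtain ⟨a', k', -, hp', rfl, hW⟩ := h'.classify hK' hKL'
  intro x hx
  obtain ⟨q, hq, i, hxe⟩ := h.exists_eq_mul (oddGen_le _ hx)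
  obtain ⟨z, hz, rfl⟩ := hq
  have hb : bar L (z * k ^ i) = bar L k ^ i := by
    rw [map_mul, map_zpow, show bar L z = 1 from bar_eq_one_iff.mpr (mem_centralizer_iff.mpr
      fun v hv => (mem_centralizer_iff.mp (omegaCenterOf_le_centralizer _ hv) z ⟨z, hz, rfl⟩).symm),
      one_mul]
  refine mem_centralizer_iff.mpr fun v hv => ?_
  rw [hW] at hv
  obtain ⟨u, hu, rfl⟩ := hv
  have hfix : bar L k • u = u := hp'.block.smul_eq_self h.setting hp.block
    (fun hmem => hne (h.compK_eq_of_block hp' hp hmem)) hu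
  have h1 : bar L (z * k ^ i) • u = u := by
    rw [hb]
    exact MulAction.mem_stabilizer_iff.mp
      (zpow_mem (show bar L k ∈ MulAction.stabilizer _ u from hfix) i)
  have h2' := congrArg Subtype.val h1
  rw [coe_bar_smul, show ((z * k ^ i : L) : G) = x by rw [hxe]; simp] at h2'
  exact (mul_inv_eq_iff_eq_mul.mp h2').symm

namespace Main

variable {S : Sylow 2 G}

theorem K_le (m : Main T K L) : K ≤ L := le_sup_left.trans m.above.le

theorem omega_S_le_T (m : Main T K L) (hTS : T ≤ (S : Subgroup G)) :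
    Cfsg.omegaCenterOf (S : Subgroup G) ≤ T := fun _ hx =>
  m.ctx.pCoreOf_le_T (m.ctx.self
    (Subgroup.centralizer_le (m.ctx.pCoreOf_le_T.trans hTS) (omegaCenterOf_le_centralizer _ hx)))

theorem omega_S_le (m : Main T K L) (hTS : T ≤ (S : Subgroup G)) :
    Cfsg.omegaCenterOf (S : Subgroup G) ≤ Cfsg.omegaCenterOf T := fun _ hx =>
  CfsgLib.PLocal.mem_omegaOne ⟨m.omega_S_le_T hTS hx,
    Subgroup.centralizer_le hTS (omegaCenterOf_le_centralizer _ hx)⟩
    ((isElementaryAbelian_omegaCenterOf _).2 _ hx)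

/-- A second component outside `L` forces `T ≤ N(K)`, `|Ω₁Z(J)| ≤ 4` and `Ω₁Z(T) = Ω₁Z(J)`. -/
theorem of_other (m : Main T K L) (hTS : T ≤ (S : Subgroup G)) (hK' : Cfsg.IsJComponent T K')
    (hK'L : ¬ K' ≤ L) : T ≤ normalizer (K : Set G) ∧ Nat.card ↥(cen T K) ≤ 2 ∧
      Nat.card ↥(jZ T) ≤ 4 ∧ Cfsg.omegaCenterOf T = jZ T := by
  have hT := m.ctx.isPGroup
  obtain ⟨hD, hZ4⟩ := card_le_four hT m.comp hK' (m.above.cen_inf hK'L)
  have hTJ : T ≤ normalizer (Cfsg.thompsonSubgroupOf 2 T : Set G) :=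
    le_normalizer.trans (CfsgLib.PLocal.normalizer_le_normalizer_thompsonSubgroupOf 2 T)
  have hTK : T ≤ normalizer (K : Set G) := by
    intro t ht
    by_contra htK
    obtain ⟨w, hwW, hw1⟩ : ∃ w ∈ jZ T ⊓ Cfsg.wOf K, w ≠ 1 := by
      by_contra hno
      push_neg at hno
      have h := card_jZ_inf_wOf hT m.comp
      rw [(Subgroup.eq_bot_iff_forall _).mpr hno, Subgroup.card_bot] at h
      omega
    have htJ := hTJ ht
    set K₂ := K.map (MulAut.conj t).toMonoidHom with hK₂def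
    have hK₂ : Cfsg.IsJComponent T K₂ := isJComponent_conj m.comp htJ
    have hLt : L.map (MulAut.conj t).toMonoidHom = L :=
      mem_normalizer_iff_map_conj_eq.mp (le_normalizer (m.ctx.le ht))
    have hA₂ : Above T K₂ L := hLt ▸ m.above.conj htJ
    have hK₂L : K₂ ≤ L := le_sup_left.trans hA₂.le
    have hne : K ≠ K₂ := fun e => htK (mem_normalizer_iff_map_conj_eq.mpr e.symm)
    set w₂ := t * w * t⁻¹ with hw₂def
    have htZ : ∀ u ∈ jZ T, t * u * t⁻¹ ∈ jZ T := fun u hu =>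
      (mem_normalizer_iff.mp (normalizer_le_normalizer_omegaCenterOf _ htJ) u).mp hu
    have hw₂Z : w₂ ∈ jZ T := htZ w hwW.1
    have hw₂W : w₂ ∈ Cfsg.wOf K₂ := by rw [hK₂def, ← map_wOf]; exact ⟨w, hwW.2, rfl⟩
    have hw₂1 : w₂ ≠ 1 := fun e => hw1 (by simpa [hw₂def] using e)
    have hw₂D : w₂ ∈ cen T K := by
      refine ⟨hw₂Z, ?_⟩
      have hle : K ⊔ Cfsg.thompsonSubgroupOf 2 T ≤ centralizer ({w₂} : Set G) := sup_le
        ((m.ctx.component_le_centralizer m.ctx m.comp m.K_le hK₂ hK₂L hne).trans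
          (Subgroup.centralizer_le (Set.singleton_subset_iff.mpr hw₂W)))
        (fun j hj => mem_centralizer_singleton_iff.mpr
          (mem_centralizer_iff.mp (omegaCenterOf_le_centralizer _ hw₂Z) j hj))
      exact mem_centralizer_iff.mpr fun g hg => mem_centralizer_singleton_iff.mp (hle hg)
    have hwD₂ : w ∈ cen T K₂ := by
      refine ⟨hwW.1, ?_⟩
      have hle : K₂ ⊔ Cfsg.thompsonSubgroupOf 2 T ≤ centralizer ({w} : Set G) := sup_le
        ((m.ctx.component_le_centralizer m.ctx hK₂ hK₂L m.comp m.K_le hne.symm).trans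
          (Subgroup.centralizer_le (Set.singleton_subset_iff.mpr hwW.2)))
        (fun j hj => mem_centralizer_singleton_iff.mpr
          (mem_centralizer_iff.mp (omegaCenterOf_le_centralizer _ hwW.1) j hj))
      exact mem_centralizer_iff.mpr fun g hg => mem_centralizer_singleton_iff.mp (hle hg)
    have hD2 : Nat.card ↥(cen T K) = 2 := by
      have : Nontrivial ↥(cen T K) :=
        ⟨⟨w₂, hw₂D⟩, 1, fun e => hw₂1 (congrArg Subtype.val e)⟩
      exact le_antisymm hD (Finite.one_lt_card (α := ↥(cen T K)))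
    have hall : ∀ u ∈ jZ T, u = 1 ∨ u = w ∨ u = w₂ ∨ u = w₂ * w := by
      intro u hu
      rw [← cen_sup_eq hT m.comp, ← SetLike.mem_coe, coe_mul_of_left_le_normalizer_right _ _
        ((inf_le_left.trans (le_centralizer_iff_isMulCommutative.mpr
          (isElementaryAbelian_omegaCenterOf _).1)).trans
          ((Subgroup.centralizer_le inf_le_left).trans (Subgroup.centralizer_le_normalizer _)))] at hu
      obtain ⟨a, ha, b, hb, rfl⟩ := hu
      rcases eq_one_or_eq_of_card_two hD2 hw₂D hw₂1 ha with rfl | rfl <;>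
        rcases eq_one_or_eq_of_card_two (card_jZ_inf_wOf hT m.comp) hwW hw1 hb with rfl | rfl <;>
        simp
    -- `Ω₁Z(S) = ⟨w₂ w⟩`
    have hZS : ∀ z ∈ Cfsg.omegaCenterOf (S : Subgroup G), z = 1 ∨ z = w₂ * w := by
      intro z hz
      have hzc : t * z * t⁻¹ = z := by
        rw [mem_centralizer_iff.mp (omegaCenterOf_le_centralizer _ hz) t (hTS ht),
          mul_inv_cancel_right]
      have hww : w₂ ≠ w := fun e => by
        have h1 : w ∈ cen T K ⊓ Cfsg.wOf K := ⟨e ▸ hw₂D, hwW.2⟩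
        rw [cen_inf_wOf hT m.comp] at h1
        exact hw1 h1
      rcases hall z (omegaCenterOf_le_jZ T (m.omega_S_le hTS hz)) with h | h | h | h
      · exact Or.inl h
      · rw [h] at hzc; exact absurd hzc hww
      · rw [h, hw₂def] at hzc
        exact absurd (mul_left_cancel (mul_right_cancel hzc)) hww
      · exact Or.inr h
    obtain ⟨d', hd', hd'1⟩ : ∃ d' ∈ cen T K', d' ≠ 1 := by
      by_contra hno
      push_neg at hno
      have h := card_jZ hT hK'
      have h' := card_jZ hT m.comp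
      rw [(Subgroup.eq_bot_iff_forall _).mpr hno, Subgroup.card_bot] at h
      omega
    rcases hall d' hd'.1 with h | h | h | h
    · exact hd'1 h
    · exact hd'1 (mem_bot.mp (hA₂.cen_inf hK'L ▸ mem_inf.mpr ⟨h ▸ hwD₂, hd'⟩))
    · exact hd'1 (mem_bot.mp (m.above.cen_inf hK'L ▸ mem_inf.mpr ⟨h ▸ hw₂D, hd'⟩))
    · refine not_le_centralizer hT hK' m.ctx.znorm S fun g hg => mem_centralizer_iff.mpr fun z hz => ?_
      rcases hZS z hz with rfl | rfl
      · simp
      · rw [← h]; exact (mem_centralizer_iff.mp hd'.2 g hg).symm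
  refine ⟨hTK, hD, hZ4, le_antisymm (omegaCenterOf_le_jZ T) fun u hu => ?_⟩
  refine CfsgLib.PLocal.mem_omegaOne
    ⟨CfsgLib.PLocal.thompsonSubgroupOf_le 2 T (omegaCenterOf_le _ hu), ?_⟩
    ((isElementaryAbelian_omegaCenterOf _).2 u hu)
  have hfix : ∀ {U : Subgroup G}, Nat.card U ≤ 2 → T ≤ normalizer (U : Set G) →
      U ≤ centralizer (T : Set G) := by
    intro U hU hn x hx
    by_cases hx1 : x = 1
    · rw [hx1]; exact one_mem _
    · refine mem_centralizer_iff.mpr fun t ht => ?_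
      have : Nontrivial U := ⟨⟨x, hx⟩, 1, fun e => hx1 (congrArg Subtype.val e)⟩
      have hU2 := le_antisymm hU (Finite.one_lt_card (α := U))
      rcases eq_one_or_eq_of_card_two hU2 hx hx1 ((mem_normalizer_iff.mp (hn ht) x).mp hx) with e | e
      · exact absurd (conj_eq_one_iff.mp e) hx1
      · exact mul_inv_eq_iff_eq_mul.mp e
  have hTZ : T ≤ normalizer (jZ T : Set G) :=
    hTJ.trans (normalizer_le_normalizer_omegaCenterOf _)
  have hW : jZ T ⊓ Cfsg.wOf K ≤ centralizer (T : Set G) := by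
    refine hfix (card_jZ_inf_wOf hT m.comp).le ?_
    exact (le_inf hTZ (hTK.trans (normalizer_le_normalizer_wOf K))).trans inf_normalizer_le_normalizer_inf
  have hDC : cen T K ≤ centralizer (T : Set G) := by
    refine hfix hD fun t ht => ?_
    have h1 : t ∈ normalizer ((K ⊔ Cfsg.thompsonSubgroupOf 2 T : Subgroup G) : Set G) := by
      refine mem_normalizer_iff_map_conj_eq.mpr ?_
      show (K ⊔ Cfsg.thompsonSubgroupOf 2 T).map (MulAut.conj t).toMonoidHom = _
      rw [Subgroup.map_sup]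
      exact congrArg₂ _ (mem_normalizer_iff_map_conj_eq.mp (hTK ht))
        (mem_normalizer_iff_map_conj_eq.mp (hTJ ht))
    exact inf_normalizer_le_normalizer_inf ⟨hTZ ht, CompData.centralizer_le_S.normalizer_le_normalizer_centralizer_wOf h1⟩
  rw [← cen_sup_eq hT m.comp] at hu
  exact sup_le hDC hW hu



theorem _root_.CfsgLib.JComp.Ctx.map (h : Ctx T L) (g : G) :
    Ctx (T.map (MulAut.conj g).toMonoidHom) (L.map (MulAut.conj g).toMonoidHom) := by
  obtain ⟨hsyl, hJ, hself⟩ := h.mem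
  have := h.solv
  refine ⟨Group.isSolvable_of_surjective ((MulAut.conj g).subgroupMap L).surjective
    (f := ((MulAut.conj g).subgroupMap L).toMonoidHom), ⟨isSylowTwoIn_map _ hsyl, ?_, ?_⟩, h.znorm⟩
  · rw [← map_thompson, ← map_pCoreOf, map_le_map_iff_of_injective (MulAut.conj g).injective]
    exact hJ
  · rw [← map_pCoreOf]
    intro x hx
    obtain ⟨y, rfl⟩ := (MulAut.conj g).surjective x
    refine ⟨y, hself (mem_centralizer_iff.mpr fun q hq => (MulAut.conj g).injective ?_), rfl⟩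
    rw [map_mul, map_mul]
    exact mem_centralizer_iff.mp hx _ ⟨q, hq, rfl⟩

theorem conj (m : Main T K L) {g : G} (hg : g ∈ normalizer (T : Set G)) :
    Main T (K.map (MulAut.conj g).toMonoidHom) (L.map (MulAut.conj g).toMonoidHom) := by
  have hgJ := CfsgLib.PLocal.normalizer_le_normalizer_thompsonSubgroupOf 2 T hg
  refine ⟨isJComponent_conj m.comp hgJ, m.above.conj hgJ, ?_⟩
  have h := m.ctx.map g
  rwa [show T.map (MulAut.conj g).toMonoidHom = T from mem_normalizer_iff_map_conj_eq.mp hg] at h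

end Main

/-- Two components with different largest `2`-local subgroups. -/
structure Pair (T K₁ K₂ L₁ L₂ : Subgroup G) : Prop where
  one : Main T K₁ L₁
  two : Main T K₂ L₂
  ne : L₁ ≠ L₂

namespace Straddle

variable {S : Sylow 2 G} {M : Subgroup G}

/-- `T` lies in a Sylow subgroup satisfying the hypotheses. -/
theorem exists_le_sylow (d : Straddle S M T) :
    ∃ S' : Sylow 2 G, Straddle S' M T ∧ T ≤ (S' : Subgroup G) := by
  have h2 : Fact (Nat.Prime 2) := ⟨Nat.prime_two⟩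
  have hSM : (S : Subgroup G) ≤ M := (le_normalizer.trans
    (CfsgLib.PLocal.normalizer_le_normalizer_thompsonSubgroupOf 2 _)).trans d.nJ
  obtain ⟨P, hP⟩ :=
    (IsPGroup.comap_subtype d.isPGroup : IsPGroup 2 (T.subgroupOf M)).exists_le_sylow
  obtain ⟨m, hm⟩ := MulAction.exists_smul_eq M (S.subtype hSM) P
  refine ⟨(m : G) • S, ⟨d.char2, d.locSolv, d.znorm, ?_, d.max⟩, fun x hx => ?_⟩
  · show normalizer (Cfsg.thompsonSubgroupOf 2
      ((S : Subgroup G).map (MulAut.conj (m : G)).toMonoidHom) : Set G) ≤ M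
    rw [← map_thompson, ← map_equiv_normalizer_eq]
    exact (map_mono d.nJ).trans (mem_normalizer_iff_map_conj_eq.mp (le_normalizer m.2)).le
  · have h1 : (⟨x, d.le hx⟩ : M) ∈
        ((S.subtype hSM : Sylow 2 M) : Subgroup M).map (MulAut.conj m).toMonoidHom := by
      have h3 := hP (show (⟨x, d.le hx⟩ : M) ∈ T.subgroupOf M from hx)
      rw [← hm] at h3
      exact h3
    obtain ⟨y, hy, e⟩ := h1
    rw [SetLike.mem_coe, Sylow.coe_subtype, mem_subgroupOf] at hy
    exact ⟨y, hy, congrArg Subtype.val e⟩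

/-- The largest `2`-local subgroup of a component outside `M` whose join with `T` has non-trivial core. -/
theorem exists_main (d : Straddle S M T) (hK : Outside M T K)
    (hP : Cfsg.pCoreOf 2 (K ⊔ T) ≠ ⊥) : ∃ L, Main T K L := by
  obtain ⟨L, hL, hKL, htop⟩ := d.exists_max hK
  exact ⟨L, hK.comp, ⟨hL, hKL, htop⟩, (d.ctx_of_pCoreOf_ne_bot hK hL.1 hKL htop hP).1⟩

end Straddle

/-- If `T < S` a component is accompanied by its conjugate under an element of `N_S(T)`. -/
theorem Main.exists_pair_of_lt {S : Sylow 2 G} (m : Main T K L) (hTS : T ≤ (S : Subgroup G))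
    (hne : T ≠ (S : Subgroup G)) :
    ∃ τ ∈ (S : Subgroup G), τ ∈ normalizer (T : Set G) ∧ τ ∉ L ∧
      Pair T K (K.map (MulAut.conj τ).toMonoidHom) L (L.map (MulAut.conj τ).toMonoidHom) := by
  have h2 : Fact (Nat.Prime 2) := ⟨Nat.prime_two⟩
  obtain ⟨τ, hτ, hτS, hτT⟩ : ∃ τ, τ ∈ normalizer (T : Set G) ∧ τ ∈ (S : Subgroup G) ∧ τ ∉ T := by
    by_contra hno
    push Not at hno
    exact hne (Straddle.normalizer_J_le.eq_of_normalizer_inf_le S.isPGroup' hTS
      fun x hx => hno x hx.1 hx.2)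
  have hτL : τ ∉ L := by
    intro hL
    have h := eq_of_sylowTwoIn_le (P := (S : Subgroup G) ⊓ L) m.ctx.mem.1 (le_inf hTS m.ctx.le)
      inf_le_right (S.isPGroup'.to_le inf_le_left)
    exact hτT (h ▸ ⟨hτS, hL⟩)
  refine ⟨τ, hτS, hτ, hτL, m, m.conj hτ, fun e => hτL (m.above.normalizer_le ?_)⟩
  exact mem_normalizer_iff_map_conj_eq.mpr e.symm

end CfsgLib.JComp
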