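import Cfsg.Agent.JComp.Interface

/-!
The centre of `J(T)` and the four-group of a `J(T)`-component.
-/

set_option autoImplicit false

namespace CfsgLib.JComp

open Subgroup
open scoped IsMulCommutative commutatorElement

variable {G : Type*} [Group G] [Finite G]

/-- The data of a component, unpacked. -/
structure CompData (T K S : Subgroup G) (k : G) : Prop where
  comp : Cfsg.IsJComponent T K
  memk : k ∈ K
  ordk : orderOf k = 3
  notO : k ∉ Cfsg.pCoreOf 2 K
  gen : ∀ x ∈ K, ∃ i : ℕ, x * (k ^ i)⁻¹ ∈ Cfsg.pCoreOf 2 K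
  syl : Cfsg.IsSylowTwoIn S (K ⊔ Cfsg.thompsonSubgroupOf 2 T)
  leS : Cfsg.pCoreOf 2 K ⊔ Cfsg.thompsonSubgroupOf 2 T ≤ S

theorem exists_compData {T K : Subgroup G} (hT : IsPGroup 2 T) (hK : Cfsg.IsJComponent T K) :
    ∃ S k, CompData T K S k := by
  obtain ⟨k, hk, hk3, hkO, hgen⟩ := (IsThree.of_isJComponent hK).exists_gen
  set J := Cfsg.thompsonSubgroupOf 2 T
  set H := K ⊔ J
  have hP : IsPGroup 2 ↥(Cfsg.pCoreOf 2 K ⊔ J) :=
    IsPGroup.to_sup_of_normal_left' (isPGroup_pCoreOf 2 K)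
      (hT.to_le (CfsgLib.PLocal.thompsonSubgroupOf_le 2 T))
      ((IsThree.le_normalizer_J hK).trans (le_normalizer_pCoreOf' K))
  have hPH : Cfsg.pCoreOf 2 K ⊔ J ≤ H :=
    sup_le ((pCoreOf_le 2 K).trans le_sup_left) le_sup_right
  obtain ⟨P, hP'⟩ := (IsPGroup.comap_subtype hP :
    IsPGroup 2 ((Cfsg.pCoreOf 2 K ⊔ J).subgroupOf H)).exists_le_sylow
  refine ⟨(P : Subgroup H).map H.subtype, k, hK, hk, hk3, hkO, hgen,
    ⟨map_subtype_le _, P.isPGroup'.map _, ?_⟩, fun x hx => ⟨⟨x, hPH hx⟩, hP' hx, rfl⟩⟩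
  rw [Subgroup.relIndex, subgroupOf, comap_map_eq_self_of_injective H.subtype_injective]
  exact Nat.not_even_iff_odd.mp fun he => P.not_dvd_index (even_iff_two_dvd.mp he)

namespace CompData

variable {T K S : Subgroup G} {k : G}

theorem isThree (d : CompData T K S k) : IsThree K := IsThree.of_isJComponent d.comp

theorem thompson_eq (d : CompData T K S k) :
    Cfsg.thompsonSubgroupOf 2 S = Cfsg.thompsonSubgroupOf 2 T :=
  d.comp.2.2.2.1 S d.syl (le_sup_right.trans d.leS)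

theorem mem_iff (d : CompData T K S k) {A : Subgroup G} :
    A ∈ CfsgLib.PLocal.maxEAIn 2 S ↔ A ∈ CfsgLib.PLocal.maxEAIn 2 T := by
  rw [maxEAIn_eq_of_thompson_eq d.thompson_eq]

theorem J_le_normalizer (d : CompData T K S k) :
    Cfsg.thompsonSubgroupOf 2 T ≤ normalizer (Cfsg.wOf K : Set G) :=
  (IsThree.le_normalizer_J d.comp).trans (normalizer_le_normalizer_wOf K)

theorem H_le_normalizer (d : CompData T K S k) :
    K ⊔ Cfsg.thompsonSubgroupOf 2 T ≤ normalizer (Cfsg.wOf K : Set G) :=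
  sup_le (le_normalizer.trans (normalizer_le_normalizer_wOf K)) d.J_le_normalizer

theorem wOf_le_S (d : CompData T K S k) : Cfsg.wOf K ≤ S :=
  (d.isThree.wOf_le.trans (omegaCenterOf_le _)).trans (le_sup_left.trans d.leS)

theorem wOf_elem (d : CompData T K S k) : Cfsg.IsElementaryAbelian 2 (Cfsg.wOf K) :=
  CfsgLib.PLocal.isElementaryAbelian_of_le (isElementaryAbelian_omegaCenterOf _) d.isThree.wOf_le

theorem wOf_ne_bot (d : CompData T K S k) : Cfsg.wOf K ≠ ⊥ := by
  intro e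
  have h := d.comp.2.2.2.2.1
  rw [e, Subgroup.card_bot] at h
  omega

theorem pow_three (d : CompData T K S k) : k ^ 3 = 1 := d.ordk ▸ pow_orderOf_eq_one k

theorem fpf (d : CompData T K S k) : ∀ v ∈ Cfsg.wOf K, k * v * k⁻¹ = v → v = 1 :=
  (d.isThree.wOf_spec d.memk d.ordk d.gen).2.2

theorem dich' (d : CompData T K S k) {g : G} (hg : g ∈ Cfsg.thompsonSubgroupOf 2 T) :
    (∀ v ∈ Cfsg.wOf K, g * (k * v * k⁻¹) * g⁻¹ = k * (g * v * g⁻¹) * k⁻¹) ∨
      (∀ v ∈ Cfsg.wOf K, g * (k * v * k⁻¹) * g⁻¹ = k⁻¹ * (g * v * g⁻¹) * k) :=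
  d.isThree.dich d.ordk d.memk d.notO d.gen (IsThree.le_normalizer_J d.comp hg)

theorem mem_conj_wOf (d : CompData T K S k) {g v : G}
    (hg : g ∈ K ⊔ Cfsg.thompsonSubgroupOf 2 T) (hv : v ∈ Cfsg.wOf K) :
    g * v * g⁻¹ ∈ Cfsg.wOf K :=
  (mem_normalizer_iff.mp (d.H_le_normalizer hg) v).mp hv

/-- A member of `maxEAIn 2 T` centralises `W` or has only two fixed points and index `2` over its
centralising part. -/
theorem member (d : CompData T K S k) {A : Subgroup G} (hA : A ∈ CfsgLib.PLocal.maxEAIn 2 T) :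
    A ≤ centralizer (Cfsg.wOf K : Set G) ∨
      (Nat.card ↥(Cfsg.wOf K ⊓ centralizer (A : Set G)) = 2 ∧
        (A ⊓ centralizer (Cfsg.wOf K : Set G)).relIndex A = 2) := by
  set W := Cfsg.wOf K with hWdef
  have hAJ : A ≤ Cfsg.thompsonSubgroupOf 2 T := CfsgLib.PLocal.le_thompsonSubgroupOf hA
  by_cases hall : ∀ a ∈ A, ∀ v ∈ W, a * (k * v * k⁻¹) * a⁻¹ = k * (a * v * a⁻¹) * k⁻¹
  · left
    intro a ha
    -- an involution commuting with a fixed-point-free element of order `3` is trivial on `W`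
    have hkW : ∀ v ∈ W, k * v * k⁻¹ ∈ W := fun v hv => d.mem_conj_wOf (mem_sup_left d.memk) hv
    have haW : ∀ v ∈ W, a * v * a⁻¹ ∈ W := fun v hv => d.mem_conj_wOf (mem_sup_right (hAJ ha)) hv
    obtain ⟨⟨v, hv⟩, hv1⟩ : ∃ v : W, (v : G) ≠ 1 := by
      by_contra hno
      push_neg at hno
      exact d.wOf_ne_bot ((Subgroup.eq_bot_iff_forall _).mpr fun x hx => hno ⟨x, hx⟩)
    have haa : a * a = 1 := by simpa [pow_two] using hA.2.1.2 a ha
    -- `v * a v` is a fixed point
    have hcm : ∀ x ∈ W, ∀ y ∈ W, x * y = y * x := fun x hx y hy =>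
      le_centralizer_iff_isMulCommutative.mpr d.wOf_elem.1 hy x hx
    have hai : a⁻¹ = a := inv_eq_of_mul_eq_one_right haa
    obtain ⟨w, hw, hw1, hwfix⟩ : ∃ w ∈ W, w ≠ 1 ∧ a * w * a⁻¹ = w := by
      by_cases he : a * v * a⁻¹ = v
      · exact ⟨v, hv, hv1, he⟩
      · refine ⟨v * (a * v * a⁻¹), mul_mem hv (haW v hv), fun e => he ?_, ?_⟩
        · have hvv : v * v = 1 := by simpa [pow_two] using d.wOf_elem.2 v hv
          exact mul_left_cancel (e.trans hvv.symm)
        · calc a * (v * (a * v * a⁻¹)) * a⁻¹ = (a * v * a⁻¹) * ((a * a) * v * (a * a)⁻¹) := by group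
            _ = (a * v * a⁻¹) * v := by rw [haa]; group
            _ = _ := hcm _ (haW v hv) _ hv
    have hw2 : a * (k * w * k⁻¹) * a⁻¹ = k * w * k⁻¹ := by rw [hall a ha w hw, hwfix]
    have h4 : W ≤ W ⊓ centralizer ({a} : Set G) := by
      have hmem : ∀ x ∈ W, a * x * a⁻¹ = x → x ∈ W ⊓ centralizer ({a} : Set G) := fun x hx hfix =>
        ⟨hx, mem_centralizer_singleton_iff.mpr (mul_inv_eq_iff_eq_mul.mp hfix).symm⟩
      have h5 := hmem w hw hwfix
      have h6 := hmem _ (hkW w hw) hw2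
      have hsub := Subgroup.card_dvd_of_le (inf_le_left : W ⊓ centralizer ({a} : Set G) ≤ W)
      rw [show Nat.card W = 4 from d.comp.2.2.2.2.1] at hsub
      have h7 : 2 < Nat.card ↥(W ⊓ centralizer ({a} : Set G)) := by
        classical
        have hinj : Function.Injective
            ![(1 : ↥(W ⊓ centralizer ({a} : Set G))), ⟨w, h5⟩, ⟨_, h6⟩] := by
          intro i j hij
          fin_cases i <;> fin_cases j <;> simp [Subtype.ext_iff] at hij ⊢
          all_goals
            first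
              | exact hw1 hij
              | exact hw1 hij.symm
              | exact hw1 (by simpa using hij)
              | exact hw1 (d.fpf w hw hij)
              | exact hw1 (conj_eq_one_iff.mp hij.symm)
              | exact hw1 (d.fpf w hw hij.symm)
        have := Nat.card_le_card_of_injective _ hinj
        rw [Nat.card_fin] at this
        omega
      refine (Subgroup.eq_of_le_of_card_ge inf_le_left ?_).ge
      rw [show Nat.card W = 4 from d.comp.2.2.2.2.1]
      have := Nat.le_of_dvd (by norm_num) hsub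
      interval_cases hc : Nat.card ↥(W ⊓ centralizer ({a} : Set G)) <;> omega
    exact mem_centralizer_iff.mpr fun x hx => mem_centralizer_singleton_iff.mp (h4 hx).2
  · right
    push_neg at hall
    obtain ⟨τ, hτA, v, hv, hne⟩ := hall
    have hτ := (d.dich' (hAJ hτA)).resolve_left (fun h => hne (h v hv))
    have h := card_eq_four ((d.mem_iff).mpr hA) d.wOf_le_S d.wOf_elem d.wOf_ne_bot
      (hAJ.trans d.J_le_normalizer)
      (d.H_le_normalizer (mem_sup_left d.memk)) (fun v _ => by rw [d.pow_three]; simp) d.fpf hτA hτ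
      (fun a ha => d.dich' (hAJ ha))
    exact ⟨h.2.1, h.2.2⟩

/-- Some member of `maxEAIn 2 T` moves `W`. -/
theorem exists_moving (d : CompData T K S k) :
    ∃ A ∈ CfsgLib.PLocal.maxEAIn 2 T, ¬ A ≤ centralizer (Cfsg.wOf K : Set G) := by
  by_contra hno
  push_neg at hno
  set W := Cfsg.wOf K
  have hJ : Cfsg.thompsonSubgroupOf 2 T ≤ centralizer (W : Set G) := by
    rw [CfsgLib.PLocal.thompsonSubgroupOf_eq]; exact sSup_le hno
  have hK : K ≤ centralizer (W : Set G) := by
    conv_lhs => rw [← d.comp.2.1]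
    rw [commutator_le]
    intro g hg j hj
    refine mem_centralizer_iff.mpr fun v hv => ?_
    have key : ∀ {x y : G}, y ∈ W → x ∈ centralizer (W : Set G) → x * y * x⁻¹ = y :=
      fun {x y} hy hx => by rw [← mem_centralizer_iff.mp hx y hy, mul_inv_cancel_right]
    have h1 : g⁻¹ * v * g ∈ W := by
      simpa using d.mem_conj_wOf (mem_sup_left (K.inv_mem hg)) hv
    have h2 : j⁻¹ * v * j = v := by
      simpa using key hv ((centralizer (W : Set G)).inv_mem (hJ hj))
    rw [eq_comm, ← mul_inv_eq_iff_eq_mul]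
    calc ⁅g, j⁆ * v * ⁅g, j⁆⁻¹ = g * (j * (g⁻¹ * (j⁻¹ * v * j) * g) * j⁻¹) * g⁻¹ := by
          rw [commutatorElement_def]; group
      _ = v := by rw [h2, key h1 (hJ hj)]; group
  apply d.wOf_ne_bot
  refine (Subgroup.eq_bot_iff_forall _).mpr fun v hv => d.fpf v hv ?_
  rw [← mem_centralizer_iff.mp (hK d.memk) v hv, mul_inv_cancel_right]

/-- A member moving `W` gives one inside `C(W)` containing `W`. -/
theorem sup_mem (d : CompData T K S k) {A : Subgroup G} (hA : A ∈ CfsgLib.PLocal.maxEAIn 2 T)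
    (hmove : ¬ A ≤ centralizer (Cfsg.wOf K : Set G)) :
    A ⊓ centralizer (Cfsg.wOf K : Set G) ⊔ Cfsg.wOf K ∈ CfsgLib.PLocal.maxEAIn 2 T := by
  obtain ⟨h2, hB2⟩ := (d.member hA).resolve_left hmove
  set W := Cfsg.wOf K
  set B := A ⊓ centralizer (W : Set G)
  have hAS := (d.mem_iff).mpr hA
  have hBe := CfsgLib.PLocal.isElementaryAbelian_of_le hA.2.1 (inf_le_left : B ≤ A)
  have hXe := CfsgLib.PLocal.isElementaryAbelian_sup hBe d.wOf_elem
    (inf_le_right : B ≤ centralizer (W : Set G))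
  have hXS : B ⊔ W ≤ S := sup_le (inf_le_left.trans hAS.1) d.wOf_le_S
  refine (d.mem_iff).mp ⟨hXS, hXe, fun C hC hCe => (hAS.2.2 C hC hCe).trans ?_⟩
  have hprod := Ctx.img_le_closure.card_sup_mul_card_inf B W
    ((inf_le_right : B ≤ centralizer (W : Set G)).trans (Subgroup.centralizer_le_normalizer _))
  have hinf : Nat.card ↥(B ⊓ W) ≤ 2 := by
    rw [← h2]
    refine Subgroup.card_le_of_le fun x hx => ⟨hx.2, mem_centralizer_iff.mpr fun a ha => ?_⟩
    exact le_centralizer_iff_isMulCommutative.mpr hA.2.1.1 hx.1.1 a ha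
  have hA2 := CfsgLib.PLocal.card_mul_relIndex (inf_le_left : B ≤ A)
  rw [hB2] at hA2
  rw [show Nat.card W = 4 from d.comp.2.2.2.2.1] at hprod
  have hmul : Nat.card ↥(B ⊔ W) * Nat.card ↥(B ⊓ W) ≤ Nat.card ↥(B ⊔ W) * 2 :=
    Nat.mul_le_mul le_rfl hinf
  have hA2' : Nat.card ↥B * 2 = Nat.card A := hA2
  omega

/-- `W ≤ J(T)`. -/
theorem wOf_le_J (d : CompData T K S k) : Cfsg.wOf K ≤ Cfsg.thompsonSubgroupOf 2 T := by
  obtain ⟨A, hA, hmove⟩ := d.exists_moving
  exact le_sup_right.trans (CfsgLib.PLocal.le_thompsonSubgroupOf (d.sup_mem hA hmove))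

theorem card_fixed (d : CompData T K S k) :
    Nat.card ↥(Cfsg.wOf K ⊓ centralizer (Cfsg.thompsonSubgroupOf 2 T : Set G)) = 2 := by
  set W := Cfsg.wOf K
  set J := Cfsg.thompsonSubgroupOf 2 T
  obtain ⟨A, hA, hmove⟩ := d.exists_moving
  refine le_antisymm (((d.member hA).resolve_left hmove).1 ▸ Subgroup.card_le_of_le
    (inf_le_inf_left _ (centralizer_le (CfsgLib.PLocal.le_thompsonSubgroupOf hA)))) ?_
  let act : MulAction J W := MulAction.compHom W
    ((normalizerMonoidHom W).comp (inclusion d.J_le_normalizer))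
  have hJp : IsPGroup 2 J := d.syl.2.1.to_le (le_sup_right.trans d.leS)
  have h2 : Fact (Nat.Prime 2) := ⟨Nat.prime_two⟩
  obtain ⟨b, hb, hb1⟩ := hJp.exists_fixed_point_of_prime_dvd_card_of_fixed_point W
    (a := (1 : W)) (by rw [show Nat.card W = 4 from d.comp.2.2.2.2.1]; norm_num)
    (fun r => Subtype.ext (show (r : G) * 1 * (r : G)⁻¹ = 1 by simp))
  have hmem : (b : G) ∈ W ⊓ centralizer (J : Set G) := by
    refine ⟨b.2, mem_centralizer_iff.mpr fun j hj => ?_⟩
    exact mul_inv_eq_iff_eq_mul.mp (congrArg Subtype.val (hb ⟨j, hj⟩))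
  have : Nontrivial ↥(W ⊓ centralizer (J : Set G)) :=
    ⟨⟨_, hmem⟩, 1, fun e => hb1 (Subtype.ext (congrArg Subtype.val e).symm)⟩
  exact Finite.one_lt_card (α := ↥(W ⊓ centralizer (J : Set G)))

/-- `H ∩ C(W)` lies in `S`. -/
theorem centralizer_le_S (d : CompData T K S k) :
    (K ⊔ Cfsg.thompsonSubgroupOf 2 T) ⊓ centralizer (Cfsg.wOf K : Set G) ≤ S := by
  set W := Cfsg.wOf K
  set J := Cfsg.thompsonSubgroupOf 2 T
  set H := K ⊔ J
  set D := H ⊓ centralizer (W : Set G)
  have hJp : IsPGroup 2 J := d.syl.2.1.to_le (le_sup_right.trans d.leS)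
  have hKn : H ≤ normalizer (K : Set G) := sup_le le_normalizer (IsThree.le_normalizer_J d.comp)
  have hDp : IsPGroup 2 D := by
    have h2 : Fact (Nat.Prime 2) := ⟨Nat.prime_two⟩
    refine CfsgLib.LocalStructure.isPGroup_of_coprime_eq_one fun x hx hcop => ?_
    -- `x` lies in `K`
    have hxK : x ∈ K := by
      have hxH : x ∈ H := hx.1
      rw [← SetLike.mem_coe, coe_mul_of_right_le_normalizer_left K J
        (IsThree.le_normalizer_J d.comp)] at hxH
      obtain ⟨a, ha, j, hj, rfl⟩ := hxH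
      have : (K.subgroupOf H).Normal := (normal_subgroupOf_iff_le_normalizer le_sup_left).mpr hKn
      obtain ⟨m, hm⟩ := hJp ⟨j, hj⟩
      have hm' : j ^ 2 ^ m = 1 := by simpa using congrArg Subtype.val hm
      have hpow : (⟨a * j, hx.1⟩ : H) ^ 2 ^ m ∈ K.subgroupOf H := by
        rw [← QuotientGroup.eq_one_iff, QuotientGroup.mk_pow,
          show (⟨a * j, hx.1⟩ : H) = ⟨a, mem_sup_left ha⟩ * ⟨j, mem_sup_right hj⟩ from rfl,
          QuotientGroup.mk_mul, (QuotientGroup.eq_one_iff (⟨a, mem_sup_left ha⟩ : H)).2 ha, one_mul,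
          ← QuotientGroup.mk_pow,
          show (⟨j, mem_sup_right hj⟩ : H) ^ 2 ^ m = 1 from Subtype.ext (by simpa using hm'),
          QuotientGroup.mk_one]
      exact CfsgLib.LocalStructure.mem_of_coprime_of_pow_mem (p := 2) (k := m) (K := K.subgroupOf H)
        (b := (⟨a * j, hx.1⟩ : H)) (by rw [Subgroup.orderOf_mk]; exact hcop) hpow
    obtain ⟨i, hi⟩ := d.gen x hxK
    have hki : k ^ i = 1 := by
      by_contra hne
      obtain ⟨⟨v, hv⟩, hv1⟩ : ∃ v : W, (v : G) ≠ 1 := by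
        by_contra hno
        push_neg at hno
        exact d.wOf_ne_bot ((Subgroup.eq_bot_iff_forall _).mpr fun y hy => hno ⟨y, hy⟩)
      apply hv1
      refine d.fpf v hv ?_
      have hkc : k ^ i ∈ centralizer (W : Set G) := by
        have h1 : x * (k ^ i)⁻¹ ∈ centralizer (W : Set G) := by
          refine mem_centralizer_iff.mpr fun y hy => ?_
          exact (mem_centralizer_iff.mp (omegaCenterOf_le_centralizer _ (d.isThree.wOf_le hy)) _ hi).symm
        have h2 := mul_mem (inv_mem h1) hx.2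
        simpa [mul_assoc] using h2
      have hle : zpowers (k ^ i) = zpowers k :=
        zpowers_eq_of_mem d.ordk (pow_mem (mem_zpowers k) i) hne
      have hk' : k ∈ centralizer (W : Set G) :=
        zpowers_le.mpr hkc (hle ▸ mem_zpowers k)
      rw [← mem_centralizer_iff.mp hk' v hv, mul_inv_cancel_right]
    rw [hki, inv_one, mul_one] at hi
    obtain ⟨m, hm⟩ := isPGroup_pCoreOf 2 K ⟨x, hi⟩
    exact orderOf_eq_one_iff.mp (Nat.eq_one_of_dvd_coprimes (Nat.Coprime.pow_left m hcop.symm)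
      (orderOf_dvd_of_pow_eq_one (by simpa using congrArg Subtype.val hm)) dvd_rfl)
  have hDn : H ≤ normalizer (D : Set G) := by
    intro g hg
    refine mem_normalizer_iff.mpr fun x => ?_
    have h1 : g ∈ normalizer (W : Set G) := d.H_le_normalizer hg
    have h2 := mem_normalizer_iff.mp
      (normalizer_le_normalizer_centralizer_wOf h1 : g ∈ normalizer (centralizer (W : Set G) : Set G)) x
    rw [Subgroup.mem_inf, Subgroup.mem_inf, h2, mem_normalizer_iff.mp (le_normalizer hg) x]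
  have hsup : IsPGroup 2 ↥(S ⊔ D) :=
    IsPGroup.to_sup_of_normal_right' d.syl.2.1 hDp (d.syl.1.trans hDn)
  have hle : S ⊔ D ≤ H := sup_le d.syl.1 inf_le_left
  have h2 : Fact (Nat.Prime 2) := ⟨Nat.prime_two⟩
  obtain ⟨n, hn⟩ := IsPGroup.iff_card.mp hsup
  have h1 : S.relIndex (S ⊔ D) = 1 := by
    refine Nat.eq_one_of_dvd_coprimes
      (Nat.Coprime.pow_right n (Nat.coprime_two_right.mpr d.syl.2.2)) ?_ ?_
    · exact ⟨(S ⊔ D).relIndex H, (relIndex_mul_relIndex _ _ _ le_sup_left hle).symm⟩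
    · rw [← hn, ← CfsgLib.PLocal.card_mul_relIndex (le_sup_left : S ≤ S ⊔ D)]
      exact dvd_mul_left _ _
  exact (le_sup_right : D ≤ S ⊔ D).trans (relIndex_eq_one.mp h1)
where
  normalizer_le_normalizer_centralizer_wOf {W : Subgroup G} {g : G}
      (hg : g ∈ normalizer (W : Set G)) : g ∈ normalizer (centralizer (W : Set G) : Set G) := by
    have key : ∀ g ∈ normalizer (W : Set G), ∀ x ∈ centralizer (W : Set G),
        g * x * g⁻¹ ∈ centralizer (W : Set G) := by
      intro g hg x hx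
      refine mem_centralizer_iff.mpr fun v hv => ?_
      have hv' : g⁻¹ * v * g ∈ W := by
        simpa using (mem_normalizer_iff.mp (inv_mem hg) v).mp hv
      have h := mem_centralizer_iff.mp hx _ hv'
      calc v * (g * x * g⁻¹) = g * ((g⁻¹ * v * g) * x) * g⁻¹ := by group
        _ = _ := by rw [h]; group
    refine mem_normalizer_iff.mpr fun x => ⟨key g hg x, fun h => ?_⟩
    have := key g⁻¹ (inv_mem hg) _ h
    simpa [mul_assoc] using this

/-- `Z₀ = (Z₀ ∩ Z(H)) (Z₀ ∩ W)`. -/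
theorem exists_decomp (d : CompData T K S k) {u : G}
    (hu : u ∈ Cfsg.omegaCenterOf (Cfsg.thompsonSubgroupOf 2 T)) :
    ∃ v ∈ Cfsg.wOf K ⊓ centralizer (Cfsg.thompsonSubgroupOf 2 T : Set G),
      u * v ∈ centralizer ((K ⊔ Cfsg.thompsonSubgroupOf 2 T : Subgroup G) : Set G) := by
  set W := Cfsg.wOf K with hWdef
  set J := Cfsg.thompsonSubgroupOf 2 T with hJdef
  set H := K ⊔ J with hHdef
  set Z₀ := Cfsg.omegaCenterOf J with hZ₀
  have hZJ : Z₀ ≤ J := omegaCenterOf_le _
  have hZc : Z₀ ≤ centralizer (J : Set G) := omegaCenterOf_le_centralizer _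
  have huW : u ∈ centralizer (W : Set G) :=
    mem_centralizer_iff.mpr fun w hw => mem_centralizer_iff.mp (hZc hu) w (d.wOf_le_J hw)
  have hDn : ∀ g ∈ H, ∀ x ∈ centralizer (W : Set G), g * x * g⁻¹ ∈ centralizer (W : Set G) :=
    fun g hg x hx => (mem_normalizer_iff.mp
      (centralizer_le_S.normalizer_le_normalizer_centralizer_wOf (d.H_le_normalizer hg)) x).mp hx
  -- conjugates of `u` are fixed by `J` modulo `W`
  have hmod : ∀ g ∈ K, ∀ j ∈ J, j * (g * u * g⁻¹) * j⁻¹ * (g * u * g⁻¹)⁻¹ ∈ W := by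
    intro g hg
    set v := g * u * g⁻¹ with hv
    have hgH : g ∈ H := mem_sup_left hg
    have hvH : v ∈ H := H.mul_mem (H.mul_mem hgH (mem_sup_right (hZJ hu))) (H.inv_mem hgH)
    have hvW : v ∈ centralizer (W : Set G) := hDn g hgH u huW
    have hvS : v ∈ S := d.centralizer_le_S ⟨hvH, hvW⟩
    have hcentral : ∀ A ∈ CfsgLib.PLocal.maxEAIn 2 T, A ≤ centralizer (W : Set G) →
        A ≤ centralizer ({v} : Set G) := by
      intro A hA hAW a ha
      set f := (MulAut.conj g⁻¹).toMonoidHom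
      have hAS : A.map f ≤ S := by
        rintro _ ⟨x, hx, rfl⟩
        refine d.centralizer_le_S ⟨?_, hDn _ (H.inv_mem hgH) x (hAW hx)⟩
        exact H.mul_mem (H.mul_mem (H.inv_mem hgH)
          (mem_sup_right (CfsgLib.PLocal.le_thompsonSubgroupOf hA hx))) (H.inv_mem (H.inv_mem hgH))
      have hmem : A.map f ∈ CfsgLib.PLocal.maxEAIn 2 T := (d.mem_iff).mp
        ⟨hAS, CfsgLib.PLocal.isElementaryAbelian_map hA.2.1 f, fun C hC hCe => by
          rw [card_map_of_injective (f := f) (MulAut.conj g⁻¹).injective]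
          exact ((d.mem_iff).mpr hA).2.2 C hC hCe⟩
      have h1 : g⁻¹ * a * g⁻¹⁻¹ ∈ J := CfsgLib.PLocal.le_thompsonSubgroupOf hmem ⟨a, ha, rfl⟩
      have h2 := mem_centralizer_iff.mp (hZc hu) _ h1
      refine mem_centralizer_singleton_iff.mpr ?_
      calc a * v = g * ((g⁻¹ * a * g⁻¹⁻¹) * u) * g⁻¹ := by rw [hv]; group
        _ = v * a := by rw [h2, hv]; group
    have hvv : v * v = 1 := by
      have huu : u * u = 1 := by
        simpa [pow_two] using (isElementaryAbelian_omegaCenterOf J).2 u hu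
      calc v * v = g * (u * u) * g⁻¹ := by rw [hv]; group
        _ = 1 := by rw [huu]; group
    let St : Subgroup G :=
      { carrier := {x | x ∈ normalizer (W : Set G) ∧ x * v * x⁻¹ * v⁻¹ ∈ W}
        one_mem' := ⟨one_mem _, by simp⟩
        mul_mem' := by
          intro a b ⟨ha, ha'⟩ ⟨hb, hb'⟩
          refine ⟨mul_mem ha hb, ?_⟩
          have h := W.mul_mem ((mem_normalizer_iff.mp ha _).mp hb') ha'
          have e : a * b * v * (a * b)⁻¹ * v⁻¹ =
              a * (b * v * b⁻¹ * v⁻¹) * a⁻¹ * (a * v * a⁻¹ * v⁻¹) := by group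
          rwa [e]
        inv_mem' := by
          intro a ⟨ha, ha'⟩
          refine ⟨inv_mem ha, ?_⟩
          have h := W.inv_mem ((mem_normalizer_iff.mp (inv_mem ha) _).mp ha')
          have e : a⁻¹ * v * a⁻¹⁻¹ * v⁻¹ = (a⁻¹ * (a * v * a⁻¹ * v⁻¹) * a⁻¹⁻¹)⁻¹ := by group
          rwa [e] }
    suffices hJ : J ≤ St from fun j hj => (hJ hj).2
    rw [hJdef, CfsgLib.PLocal.thompsonSubgroupOf_eq]
    refine sSup_le fun A hA a ha => ⟨d.J_le_normalizer (CfsgLib.PLocal.le_thompsonSubgroupOf hA ha), ?_⟩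
    by_cases hAW : A ≤ centralizer (W : Set G)
    · rw [mem_centralizer_singleton_iff.mp (hcentral A hA hAW ha), mul_inv_cancel_right,
        mul_inv_cancel]
      exact W.one_mem
    · set B := A ⊓ centralizer (W : Set G)
      have hX := d.sup_mem hA hAW
      have hXW : B ⊔ W ≤ centralizer (W : Set G) :=
        sup_le inf_le_right (le_centralizer_iff_isMulCommutative.mpr d.wOf_elem.1)
      have hXv := hcentral _ hX hXW
      have hvX : v ∈ B ⊔ W := by
        have hXS := (d.mem_iff).mpr hX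
        have hel := CfsgLib.PLocal.isElementaryAbelian_sup hX.2.1
          (CfsgLib.PLocal.isElementaryAbelian_zpowers (p := 2) (x := v) (by rw [pow_two]; exact hvv))
          (fun x hx => mem_centralizer_iff.mpr fun y hy => by
            obtain ⟨n, rfl⟩ := mem_zpowers_iff.mp hy
            exact (Commute.zpow_left (mem_centralizer_singleton_iff.mp (hXv hx)).symm n).eq)
        have h1 := hXS.2.2 _ (sup_le hXS.1 (zpowers_le.mpr hvS)) hel
        exact (Subgroup.eq_of_le_of_card_ge le_sup_left h1).ge (mem_sup_right (mem_zpowers v))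
      rw [← SetLike.mem_coe, coe_mul_of_left_le_normalizer_right B W
        ((inf_le_right : B ≤ centralizer (W : Set G)).trans (Subgroup.centralizer_le_normalizer _))]
        at hvX
      obtain ⟨b, hb, w, hw, hbw⟩ := hvX
      replace hbw : b * w = v := hbw
      have hab : a * b * a⁻¹ = b := by
        rw [le_centralizer_iff_isMulCommutative.mpr hA.2.1.1 hb.1 a ha, mul_inv_cancel_right]
      have haw : a * w * a⁻¹ * w⁻¹ ∈ W := W.mul_mem
        (d.mem_conj_wOf (mem_sup_right (CfsgLib.PLocal.le_thompsonSubgroupOf hA ha)) hw)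
        (W.inv_mem hw)
      have e : a * v * a⁻¹ * v⁻¹ = b * (a * w * a⁻¹ * w⁻¹) * b⁻¹ := by
        rw [← hbw]
        calc a * (b * w) * a⁻¹ * (b * w)⁻¹ = (a * b * a⁻¹) * (a * w * a⁻¹ * w⁻¹) * b⁻¹ := by group
          _ = _ := by rw [hab]
      rw [e]
      exact (mem_normalizer_iff.mp (Subgroup.centralizer_le_normalizer _ hb.2) _).mp haw
  -- hence `K` fixes `u` modulo `W`
  have hKu : ∀ g ∈ K, g * u * g⁻¹ * u⁻¹ ∈ W := by
    let St : Subgroup G :=
      { carrier := {x | x ∈ normalizer (W : Set G) ∧ x * u * x⁻¹ * u⁻¹ ∈ W}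
        one_mem' := ⟨one_mem _, by simp⟩
        mul_mem' := by
          intro a b ⟨ha, ha'⟩ ⟨hb, hb'⟩
          refine ⟨mul_mem ha hb, ?_⟩
          have h := W.mul_mem ((mem_normalizer_iff.mp ha _).mp hb') ha'
          have e : a * b * u * (a * b)⁻¹ * u⁻¹ =
              a * (b * u * b⁻¹ * u⁻¹) * a⁻¹ * (a * u * a⁻¹ * u⁻¹) := by group
          rwa [e]
        inv_mem' := by
          intro a ⟨ha, ha'⟩
          refine ⟨inv_mem ha, ?_⟩
          have h := W.inv_mem ((mem_normalizer_iff.mp (inv_mem ha) _).mp ha')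
          have e : a⁻¹ * u * a⁻¹⁻¹ * u⁻¹ = (a⁻¹ * (a * u * a⁻¹ * u⁻¹) * a⁻¹⁻¹)⁻¹ := by group
          rwa [e] }
    have hconj : ∀ g ∈ K, ∀ j ∈ J, g * j * g⁻¹ ∈ St := by
      intro g hg j hj
      have hgH : g ∈ H := mem_sup_left hg
      refine ⟨d.H_le_normalizer (H.mul_mem (H.mul_mem hgH (mem_sup_right hj)) (H.inv_mem hgH)), ?_⟩
      have h := d.mem_conj_wOf hgH (hmod g⁻¹ (K.inv_mem hg) j hj)
      have e : g * j * g⁻¹ * u * (g * j * g⁻¹)⁻¹ * u⁻¹ =
          g * (j * (g⁻¹ * u * g⁻¹⁻¹) * j⁻¹ * (g⁻¹ * u * g⁻¹⁻¹)⁻¹) * g⁻¹ := by group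
      rwa [e]
    have hK : K ≤ St := by
      conv_lhs => rw [← d.comp.2.1]
      rw [commutator_le]
      intro g hg j hj
      rw [commutatorElement_def]
      have h1 := hconj 1 K.one_mem j⁻¹ (J.inv_mem hj)
      rw [one_mul, inv_one, mul_one] at h1
      exact St.mul_mem (hconj g hg j hj) h1
    exact fun g hg => (hK hg).2
  set w := k * u * k⁻¹ * u⁻¹ with hwdef
  have hw : w ∈ W := hKu k d.memk
  have hcm : ∀ x ∈ W, ∀ y ∈ W, x * y = y * x := fun x hx y hy =>
    le_centralizer_iff_isMulCommutative.mpr d.wOf_elem.1 hy x hx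
  -- `O₂(K)` centralises `u`
  have hOu : ∀ q ∈ Cfsg.pCoreOf 2 K, q * u * q⁻¹ = u := by
    have hZq : ∀ q ∈ Cfsg.pCoreOf 2 K, q * u * q⁻¹ * u⁻¹ ∈ W ⊓ centralizer (J : Set G) := by
      intro q hq
      refine ⟨hKu q (pCoreOf_le 2 K hq), ?_⟩
      have hqS : q ∈ normalizer (J : Set G) := by
        have h := CfsgLib.PLocal.normalizer_le_normalizer_thompsonSubgroupOf 2 S
          (le_normalizer (d.leS (mem_sup_left hq)))
        rwa [d.thompson_eq] at h
      have h1 : q * u * q⁻¹ ∈ Z₀ :=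
        (mem_normalizer_iff.mp (normalizer_le_normalizer_omegaCenterOf _ hqS) u).mp hu
      exact (centralizer (J : Set G)).mul_mem (hZc h1) (inv_mem (hZc hu))
    intro q hq
    set e := q * u * q⁻¹ * u⁻¹ with hedef
    have he := hZq q hq
    have hkq : k * q * k⁻¹ ∈ Cfsg.pCoreOf 2 K := conj_mem_pCoreOf (le_normalizer d.memk) hq
    have he' := hZq _ hkq
    have hwc : (k * q * k⁻¹) * w * (k * q * k⁻¹)⁻¹ = w := by
      rw [mem_centralizer_iff.mp (omegaCenterOf_le_centralizer _ (d.isThree.wOf_le hw)) _ hkq,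
        mul_inv_cancel_right]
    have hek : k * e * k⁻¹ = k * q * k⁻¹ * u * (k * q * k⁻¹)⁻¹ * u⁻¹ := by
      have hke : k * e * k⁻¹ ∈ W := d.mem_conj_wOf (mem_sup_left d.memk) he.1
      have h1 : k * e * k⁻¹ * w = w * (k * q * k⁻¹ * u * (k * q * k⁻¹)⁻¹ * u⁻¹) := by
        calc k * e * k⁻¹ * w = (k * q * k⁻¹) * (w * u) * (k * q * k⁻¹)⁻¹ * u⁻¹ := by
              rw [hwdef, hedef]; group
          _ = (k * q * k⁻¹) * w * (k * q * k⁻¹)⁻¹ *
              (k * q * k⁻¹ * u * (k * q * k⁻¹)⁻¹ * u⁻¹) := by group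
          _ = _ := by rw [hwc]
      rw [hcm _ hke _ hw] at h1
      exact mul_left_cancel h1
    have h1 : e = 1 := by
      by_contra hne
      apply hne
      refine d.fpf e he.1 ?_
      have hmem : k * e * k⁻¹ ∈ W ⊓ centralizer (J : Set G) := hek ▸ he'
      obtain ⟨x, y, -, hxy⟩ := Nat.card_eq_two_iff.mp d.card_fixed
      have hall : ∀ z : ↥(W ⊓ centralizer (J : Set G)), z = x ∨ z = y := fun z => by
        have : z ∈ ({x, y} : Set _) := hxy ▸ Set.mem_univ z
        simpa using this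
      have hne' : k * e * k⁻¹ ≠ 1 := fun h => hne (by simpa using h)
      rcases hall ⟨_, hmem⟩ with h | h <;> rcases hall ⟨e, he⟩ with h' | h' <;>
        rcases hall 1 with h'' | h'' <;>
        first
          | exact congrArg Subtype.val (h.trans h'.symm)
          | exact absurd (congrArg Subtype.val (h'.trans h''.symm)) hne
          | exact absurd (congrArg Subtype.val (h.trans h''.symm)) hne'
    exact mul_inv_eq_one.mp h1
  -- solve `[k, v] = w` in `W`
  let φ : W → W := fun v => ⟨k * v * k⁻¹ * (v : G)⁻¹,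
    W.mul_mem (d.mem_conj_wOf (mem_sup_left d.memk) v.2) (W.inv_mem v.2)⟩
  have hinj : Function.Injective φ := by
    intro a b h
    have h0 : k * (a : G) * k⁻¹ * (a : G)⁻¹ = k * b * k⁻¹ * (b : G)⁻¹ := congrArg Subtype.val h
    refine Subtype.ext (inv_mul_eq_one.mp (d.fpf _ (W.mul_mem (W.inv_mem a.2) b.2) ?_))
    have h1 : k * (a : G) * k⁻¹ = k * b * k⁻¹ * ((b : G)⁻¹ * a) := by
      rw [← mul_assoc, ← h0, inv_mul_cancel_right]
    calc k * ((a : G)⁻¹ * b) * k⁻¹ = (k * a * k⁻¹)⁻¹ * (k * b * k⁻¹) := by group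
      _ = ((b : G)⁻¹ * a)⁻¹ := by rw [h1]; group
      _ = (a : G)⁻¹ * b := by group
  obtain ⟨⟨v, hv⟩, hφ⟩ := Finite.surjective_of_injective hinj ⟨w, hw⟩
  have hvw : k * v * k⁻¹ * v⁻¹ = w := congrArg Subtype.val hφ
  have hsq : ∀ x ∈ W, x * x = 1 := fun x hx => by simpa [pow_two] using d.wOf_elem.2 x hx
  have huvK : K ≤ centralizer ({u * v} : Set G) := by
    have hku : k * (u * v) * k⁻¹ = u * v := by
      calc k * (u * v) * k⁻¹ = (k * u * k⁻¹ * u⁻¹) * u * (k * v * k⁻¹ * v⁻¹) * v := by group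
        _ = w * u * w * v := by rw [hvw]
        _ = u * v := by
            rw [mem_centralizer_iff.mp huW w hw, mul_assoc u, hsq w hw, mul_one]
    intro x hx
    obtain ⟨i, hi⟩ := d.gen x hx
    have hq : x * (k ^ i)⁻¹ ∈ centralizer ({u * v} : Set G) := by
      refine mem_centralizer_singleton_iff.mpr ((mul_inv_eq_iff_eq_mul).mp ?_)
      calc x * (k ^ i)⁻¹ * (u * v) * (x * (k ^ i)⁻¹)⁻¹
          = (x * (k ^ i)⁻¹ * u * (x * (k ^ i)⁻¹)⁻¹) * (x * (k ^ i)⁻¹ * v * (x * (k ^ i)⁻¹)⁻¹) := by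
            group
        _ = u * v := by
          rw [hOu _ hi, mem_centralizer_iff.mp
            (omegaCenterOf_le_centralizer _ (d.isThree.wOf_le hv)) _ hi, mul_inv_cancel_right]
    have hk' : k ∈ centralizer ({u * v} : Set G) :=
      mem_centralizer_singleton_iff.mpr (mul_inv_eq_iff_eq_mul.mp hku)
    have := mul_mem hq (pow_mem hk' i)
    rwa [inv_mul_cancel_right] at this
  have hJv : ∀ j ∈ J, j * v * j⁻¹ = v := by
    intro j hj
    have hju : j * u * j⁻¹ = u := by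
      rw [mem_centralizer_iff.mp (hZc hu) j hj, mul_inv_cancel_right]
    have hjv : j * v * j⁻¹ ∈ W := d.mem_conj_wOf (mem_sup_right hj) hv
    have hjuv : j * (u * v) * j⁻¹ = u * (j * v * j⁻¹) := by
      calc j * (u * v) * j⁻¹ = (j * u * j⁻¹) * (j * v * j⁻¹) := by group
        _ = _ := by rw [hju]
    have hk2 : k * (u * (j * v * j⁻¹)) * k⁻¹ = u * (j * v * j⁻¹) := by
      have h1 : j⁻¹ * k * j ∈ K := by
        simpa using (mem_normalizer_iff.mp (IsThree.le_normalizer_J d.comp (J.inv_mem hj)) k).mp d.memk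
      have h2 := mem_centralizer_singleton_iff.mp (huvK h1)
      rw [← hjuv]
      calc k * (j * (u * v) * j⁻¹) * k⁻¹
          = j * ((j⁻¹ * k * j) * (u * v)) * (j⁻¹ * k⁻¹) := by group
        _ = j * (u * v) * j⁻¹ := by rw [h2]; group
    have hk1 : k * (u * v) * k⁻¹ = u * v := by
      rw [mem_centralizer_singleton_iff.mp (huvK d.memk), mul_inv_cancel_right]
    refine (inv_mul_eq_one.mp (d.fpf (v⁻¹ * (j * v * j⁻¹)) (W.mul_mem (W.inv_mem hv) hjv) ?_)).symm
    calc k * (v⁻¹ * (j * v * j⁻¹)) * k⁻¹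
        = (k * (u * v) * k⁻¹)⁻¹ * (k * (u * (j * v * j⁻¹)) * k⁻¹) := by group
      _ = v⁻¹ * (j * v * j⁻¹) := by rw [hk1, hk2]; group
  refine ⟨v, ⟨hv, mem_centralizer_iff.mpr fun j hj => mul_inv_eq_iff_eq_mul.mp (hJv j hj)⟩, ?_⟩
  have : K ⊔ J ≤ centralizer ({u * v} : Set G) := by
    refine sup_le huvK fun j hj => mem_centralizer_singleton_iff.mpr (mul_inv_eq_iff_eq_mul.mp ?_)
    calc j * (u * v) * j⁻¹ = (j * u * j⁻¹) * (j * v * j⁻¹) := by group
      _ = u * v := by rw [hJv j hj, mem_centralizer_iff.mp (hZc hu) j hj, mul_inv_cancel_right]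
  exact mem_centralizer_iff.mpr fun x hx => mem_centralizer_singleton_iff.mp (this hx)

end CompData

end CfsgLib.JComp
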