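import Cfsg.Agent.JComp.Basic

/-!
The four-group lemma: a group `W` moved without fixed points by an element `k` of order `3`, inside `T`,
and normalised by a member `A` of `maxEAIn 2 T` inverting `k`, has order `4`.
-/

set_option autoImplicit false

namespace CfsgLib.JComp

open Subgroup
open scoped IsMulCommutative

theorem zmod_two_eq_zero : ∀ x : ZMod 2, x ≠ 1 → x = 0 := by decide

theorem zmod_two_one_add : (1 : ZMod 2) + 1 ≠ 1 := by decide

/-- An abelian `2`-group acting faithfully on an elementary abelian `2`-group with only two fixed points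
has order at most half the order of the latter. -/
theorem two_mul_card_le {P W : Type*} [Group P] [Finite P] [CommGroup W] [Finite W]
    [MulDistribMulAction P W] (hW : ∀ v : W, v * v = 1) (hP : IsPGroup 2 P)
    (hcomm : ∀ a b : P, a * b = b * a) (hfaith : ∀ p : P, (∀ v : W, p • v = v) → p = 1)
    {w : W} (hw : w ≠ 1) (hfix : ∀ v : W, (∀ p : P, p • v = v) → v = 1 ∨ v = w) :
    2 * Nat.card P ≤ Nat.card W := by
  classical
  have h2 : Fact (Nat.Prime 2) := ⟨Nat.prime_two⟩
  obtain ⟨d, hd⟩ := IsPGroup.iff_card.mp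
    (fun x : W => ⟨1, by rw [pow_one, pow_two]; exact hW x⟩ : IsPGroup 2 W)
  obtain ⟨f⟩ := CfsgLib.FusionEssential.exists_mulEquiv_fin_of_elementary
    (fun a b : W => mul_comm a b) (fun x : W => by rw [pow_two]; exact hW x) hd
  set c := (f w).toAdd with hc
  obtain ⟨j, hj⟩ : ∃ j, c j = 1 := by
    by_contra hno
    push_neg at hno
    apply hw
    apply f.injective
    rw [map_one]
    apply Multiplicative.toAdd.injective
    funext i
    have h1 := hno i
    rw [toAdd_one, Pi.zero_apply]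
    change c i = 0
    exact zmod_two_eq_zero _ h1
  let φ : P → Module.Dual (ZMod 2) (Fin d → ZMod 2) := fun p =>
    (AddMonoidHom.mk' (fun v => (f (p • f.symm (Multiplicative.ofAdd v))).toAdd j)
      (fun u v => by simp [smul_mul'])).toZModLinearMap 2
  have hφ : ∀ p v, φ p v = (f (p • f.symm (Multiplicative.ofAdd v))).toAdd j := fun _ _ => rfl
  -- `w` is fixed
  have hwfix : ∀ p : P, p • w = w := by
    obtain ⟨b, hb, hb1⟩ := hP.exists_fixed_point_of_prime_dvd_card_of_fixed_point W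
      (a := (1 : W)) (by
        rw [hd]
        refine dvd_pow_self 2 fun e => ?_
        rw [e, pow_zero] at hd
        have := (Nat.card_eq_one_iff_unique.mp hd).1
        exact hw (Subsingleton.elim _ _))
      (fun p => smul_one p)
    rcases hfix b hb with e | e
    · exact absurd e.symm hb1
    · exact e ▸ hb
  have hinj : Function.Injective φ := by
    intro p q hpq
    have hkey : ∀ v : W, (f (p • v)).toAdd j = (f (q • v)).toAdd j := fun v => by
      have := congrArg (fun g : Module.Dual (ZMod 2) (Fin d → ZMod 2) => g (f v).toAdd) hpq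
      simpa [hφ] using this
    -- `[W, q⁻¹ p]` lies in the kernel and is invariant
    let K : Subgroup W := modComm (V := W) (q⁻¹ * p)
    have hK : ∀ u ∈ K, (f u).toAdd j = 0 := by
      rintro _ ⟨v, rfl⟩
      rw [moved_apply, mul_smul, map_div, toAdd_div, Pi.sub_apply]
      have h1 := hkey (q⁻¹ • v)
      rw [smul_inv_smul] at h1
      rw [← mul_smul, hcomm q⁻¹ p, mul_smul, h1, sub_self]
    rw [eq_comm, ← inv_mul_eq_one]
    refine hfaith _ fun v => ?_
    by_contra hne
    let act : MulAction P K :=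
      { smul := fun r u => ⟨r • (u : W), smul_modComm_of_commute (hcomm r _) u.2⟩
        one_smul := fun u => Subtype.ext (one_smul P (u : W))
        mul_smul := fun r s u => Subtype.ext (mul_smul r s (u : W)) }
    obtain ⟨n, hn⟩ := IsPGroup.iff_card.mp
      (fun x : K => ⟨1, Subtype.ext (by simp [pow_two, hW])⟩ : IsPGroup 2 K)
    obtain ⟨b, hb, hb1⟩ := hP.exists_fixed_point_of_prime_dvd_card_of_fixed_point K
      (a := (1 : K)) (by
        rw [hn]
        refine dvd_pow_self 2 fun e => ?_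
        rw [e, pow_zero] at hn
        have := (Nat.card_eq_one_iff_unique.mp hn).1
        have h1 := congrArg Subtype.val
          (Subsingleton.elim (⟨_, div_mem_modComm (q⁻¹ * p) v⟩ : K) 1)
        exact hne (div_eq_one.mp h1))
      (fun r => Subtype.ext (smul_one r))
    have hbW : (b : W) = w := by
      refine (hfix (b : W) fun r => congrArg Subtype.val (hb r)).resolve_left fun e => ?_
      exact hb1 (Subtype.ext e.symm)
    have := hK _ b.2
    rw [hbW] at this
    rw [← hc] at this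
    exact one_ne_zero (hj.symm.trans this)
  let D := {g : Module.Dual (ZMod 2) (Fin d → ZMod 2) // g c = 1}
  have hDmem : ∀ p, φ p c = 1 := fun p => by
    rw [hφ, hc, ofAdd_toAdd, f.symm_apply_apply, hwfix, ← hc, hj]
  let e : (Fin d → ZMod 2) ≃ₗ[ZMod 2] Module.Dual (ZMod 2) (Fin d → ZMod 2) :=
    (Pi.basisFun (ZMod 2) (Fin d)).constr (ZMod 2)
  have hcardDual : Nat.card (Module.Dual (ZMod 2) (Fin d → ZMod 2)) = 2 ^ d := by
    rw [← Nat.card_congr e.toEquiv, Nat.card_fun, Nat.card_fin, Nat.card_zmod]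
  have : Finite (Module.Dual (ZMod 2) (Fin d → ZMod 2)) := Finite.of_equiv _ e.toEquiv
  have h1 : Nat.card P ≤ Nat.card D :=
    Nat.card_le_card_of_injective (fun p => (⟨φ p, hDmem p⟩ : D))
      fun p q h => hinj (congrArg Subtype.val h)
  let g₀ : Module.Dual (ZMod 2) (Fin d → ZMod 2) := LinearMap.proj j
  have hg₀ : g₀ c = 1 := hj
  have h2' : Nat.card (Bool × D) ≤ Nat.card (Module.Dual (ZMod 2) (Fin d → ZMod 2)) := by
    refine Nat.card_le_card_of_injective
      (fun p => cond p.1 (p.2.1 + g₀) p.2.1) ?_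
    rintro ⟨b, g⟩ ⟨b', g'⟩ h
    have hne : ∀ a a' : D, a.1 + g₀ ≠ a'.1 := by
      intro a a' e'
      have := congrArg (fun x : Module.Dual (ZMod 2) (Fin d → ZMod 2) => x c) e'
      simp only [LinearMap.add_apply, a.2, a'.2, hg₀] at this
      exact zmod_two_one_add this
    cases b <;> cases b' <;> simp only [cond] at h
    · rw [Subtype.ext h]
    · exact absurd h.symm (hne g' g)
    · exact absurd h (hne g g')
    · rw [Subtype.ext (add_right_cancel h)]
  rw [Nat.card_prod, hcardDual, ← hd] at h2'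
  simp at h2'
  omega

variable {G : Type*} [Group G] [Finite G]

/-- The four-group lemma. -/
theorem card_eq_four {T W A : Subgroup G} {τ k : G} (hA : A ∈ CfsgLib.PLocal.maxEAIn 2 T)
    (hWT : W ≤ T) (hWe : Cfsg.IsElementaryAbelian 2 W) (hW1 : W ≠ ⊥)
    (hAW : A ≤ normalizer (W : Set G)) (hkW : k ∈ normalizer (W : Set G))
    (hk3 : ∀ v ∈ W, k ^ 3 * v * (k ^ 3)⁻¹ = v) (hfpf : ∀ v ∈ W, k * v * k⁻¹ = v → v = 1)
    (hτA : τ ∈ A) (hτ : ∀ v ∈ W, τ * (k * v * k⁻¹) * τ⁻¹ = k⁻¹ * (τ * v * τ⁻¹) * k)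
    (hdich : ∀ a ∈ A, (∀ v ∈ W, a * (k * v * k⁻¹) * a⁻¹ = k * (a * v * a⁻¹) * k⁻¹) ∨
      (∀ v ∈ W, a * (k * v * k⁻¹) * a⁻¹ = k⁻¹ * (a * v * a⁻¹) * k)) :
    Nat.card W = 4 ∧ Nat.card ↥(W ⊓ centralizer (A : Set G)) = 2 ∧
      (A ⊓ centralizer (W : Set G)).relIndex A = 2 := by
  classical
  have : IsMulCommutative W := hWe.1
  let N := normalizer (W : Set G)
  let α : N →* MulAut W := normalizerMonoidHom W
  let κ : MulAut W := α ⟨k, hkW⟩
  let ρ : A →* MulAut W := α.comp (inclusion hAW)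
  have hα : ∀ (g : N) (v : W), ((α g • v : W) : G) = (g : G) * v * (g : G)⁻¹ := fun g v => rfl
  have hext : ∀ {x y : MulAut W}, (∀ v : W, x • v = y • v) → x = y := fun h => MulEquiv.ext h
  have hκ3 : κ ^ 3 = 1 := by
    rw [← map_pow]
    exact hext fun v => Subtype.ext (by
      rw [hα, SubgroupClass.coe_pow, hk3 v v.2, one_smul])
  have hκfix : ∀ v : W, κ • v = v → v = 1 := fun v hv =>
    Subtype.ext (hfpf v v.2 (congrArg Subtype.val hv))
  set t : MulAut W := ρ ⟨τ, hτA⟩ with ht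
  have hρcomm : ∀ a b : A, Commute (ρ a) (ρ b) := fun a b => by
    have h0 : Commute a b := Subtype.ext (le_centralizer_iff_isMulCommutative.mpr hA.2.1.1 b.2 a a.2)
    exact h0.map ρ
  have hρsq : ∀ a : A, ρ a * ρ a = 1 := fun a => by
    rw [← map_mul, ← map_one ρ]
    exact congrArg ρ (Subtype.ext (by simpa [pow_two] using hA.2.1.2 a a.2))
  have htκ : t * κ = κ⁻¹ * t := hext fun v => Subtype.ext (by
    rw [mul_smul, mul_smul]
    show τ * (k * (v : G) * k⁻¹) * τ⁻¹ = _
    rw [hτ v v.2, ← map_inv, hα]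
    simp only [Subgroup.coe_inv, inv_inv]
    rfl)
  have hdich' : ∀ a : A, ρ a * κ = κ * ρ a ∨ ρ a * κ = κ⁻¹ * ρ a := by
    intro a
    rcases hdich a a.2 with h | h
    · left
      exact hext fun v => Subtype.ext (by
        rw [mul_smul, mul_smul]
        exact h v v.2)
    · right
      exact hext fun v => Subtype.ext (by
        rw [mul_smul, mul_smul]
        show (a : G) * (k * (v : G) * k⁻¹) * (a : G)⁻¹ = _
        rw [h v v.2, ← map_inv, hα]
        simp only [Subgroup.coe_inv, inv_inv]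
        rfl)
  have hWsq : ∀ v : W, v * v = 1 := fun v => Subtype.ext (by simpa [pow_two] using hWe.2 v v.2)
  have hκne : κ⁻¹ ≠ κ := by
    intro e
    obtain ⟨⟨v, hv⟩, hv1⟩ : ∃ v : W, (v : G) ≠ 1 := by
      by_contra hno
      push_neg at hno
      exact hW1 ((Subgroup.eq_bot_iff_forall W).mpr fun x hx => hno ⟨x, hx⟩)
    apply hv1
    have e2 : κ ^ 2 = 1 := by rw [pow_two]; nth_rewrite 1 [← e]; rw [inv_mul_cancel]
    have e3 : κ = 1 := by rw [← hκ3, pow_succ κ 2, e2, one_mul]
    exact congrArg Subtype.val (hκfix ⟨v, hv⟩ (by rw [e3, one_smul]))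
  -- `A₀`: the part of `A` commuting with `κ`
  let A₀ : Subgroup A := (Subgroup.centralizer ({κ} : Set (MulAut W))).comap ρ
  have hA₀ : ∀ a : A, a ∈ A₀ ↔ ρ a * κ = κ * ρ a := fun a =>
    mem_comap.trans (mem_centralizer_singleton_iff)
  have hτ0 : (⟨τ, hτA⟩ : A) ∉ A₀ := by
    rw [hA₀, ← ht, htκ]
    exact fun e => hκne (mul_right_cancel e)
  have hidx : A₀.index = 2 := by
    rw [index_eq_two_iff]
    refine ⟨⟨τ, hτA⟩, fun b => ?_⟩
    by_cases hb : b ∈ A₀
    · exact Or.inr ⟨hb, fun h => hτ0 ((mul_mem_cancel_left hb).mp h)⟩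
    · refine Or.inl ⟨?_, hb⟩
      have hbinv := (hdich' b).resolve_left (fun e => hb ((hA₀ b).mpr e))
      rw [hA₀, map_mul, ← ht, mul_assoc, htκ]
      have : ρ b * κ⁻¹ = κ * ρ b := by
        rw [eq_comm, eq_mul_inv_iff_mul_eq, mul_assoc, hbinv, mul_inv_cancel_left]
      rw [← mul_assoc, this, mul_assoc]
  have hA₀card : Nat.card A = 2 * Nat.card A₀ := by
    rw [← Subgroup.card_mul_index A₀, hidx, mul_comm]
  -- the inequality for subgroups `A₁` of `A`
  let C : Subgroup A → Subgroup W := fun A₁ => fix (V := W) (A₁.map ρ : Set (MulAut W))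
  have hmemC : ∀ (A₁ : Subgroup A) (v : W), v ∈ C A₁ ↔ ∀ a ∈ A₁, ρ a • v = v := fun A₁ v =>
    ⟨fun h a ha => h _ (mem_map_of_mem ρ ha), fun h _ ⟨a, ha, e⟩ => e ▸ h a ha⟩
  have hineq : ∀ A₁ : Subgroup A, Nat.card A₁ * Nat.card (C A₁) ≤ Nat.card A * Nat.card (C ⊤) := by
    intro A₁
    set X := A₁.map A.subtype
    set Y := (C A₁).map W.subtype
    have hXY : X ≤ centralizer (Y : Set G) := by
      rintro _ ⟨a, ha, rfl⟩
      refine mem_centralizer_iff.mpr ?_
      rintro _ ⟨v, hv, rfl⟩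
      have h1 := congrArg Subtype.val ((hmemC A₁ v).mp hv a ha)
      exact (mul_inv_eq_iff_eq_mul.mp h1).symm
    have hXe : Cfsg.IsElementaryAbelian 2 X :=
      CfsgLib.PLocal.isElementaryAbelian_of_le hA.2.1 (map_subtype_le _)
    have hYe : Cfsg.IsElementaryAbelian 2 Y :=
      CfsgLib.PLocal.isElementaryAbelian_of_le hWe (map_subtype_le _)
    have hmax := hA.2.2 _ (sup_le ((map_subtype_le _).trans hA.1) ((map_subtype_le _).trans hWT))
      (CfsgLib.PLocal.isElementaryAbelian_sup hXe hYe hXY)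
    have hprod := Ctx.img_le_closure.card_sup_mul_card_inf X Y
      (hXY.trans (Subgroup.centralizer_le_normalizer _))
    have hinf : X ⊓ Y ≤ (C ⊤).map W.subtype := by
      intro x hx
      obtain ⟨v, -, rfl⟩ := hx.2
      refine ⟨v, (hmemC ⊤ v).mpr fun a _ => Subtype.ext ?_, rfl⟩
      obtain ⟨b, -, e⟩ := hx.1
      have hvA : (v : G) ∈ A := by
        have e' : (b : G) = (v : G) := e
        rw [← e']; exact b.2
      show (a : G) * (v : G) * (a : G)⁻¹ = v
      rw [le_centralizer_iff_isMulCommutative.mpr hA.2.1.1 hvA a a.2, mul_inv_cancel_right]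
    have hc := Subgroup.card_le_of_le hinf
    rw [card_map_of_injective W.subtype_injective] at hc
    rw [card_map_of_injective A.subtype_injective, card_map_of_injective W.subtype_injective] at hprod
    calc _ = Nat.card ↥(X ⊔ Y) * Nat.card ↥(X ⊓ Y) := hprod.symm
      _ ≤ _ := Nat.mul_le_mul hmax hc
  have h2 : Fact (Nat.Prime 2) := ⟨Nat.prime_two⟩
  -- squares bound: `|X|² ≤ |U|` for the `t`-fixed part `X` of a `κ`-invariant `U`
  have hsquare : ∀ U : Subgroup W, (∀ u ∈ U, κ • u ∈ U) →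
      Nat.card ↥(U ⊓ fix (V := W) {t}) ^ 2 ≤ Nat.card U := by
    intro U hU
    rw [pow_two, ← Nat.card_prod]
    refine Nat.card_le_card_of_injective
      (fun p => (⟨(p.1 : W) * κ • (p.2 : W), U.mul_mem p.1.2.1 (hU _ p.2.2.1)⟩ : U)) ?_
    rintro ⟨⟨a, ha⟩, ⟨b, hb⟩⟩ ⟨⟨a', ha'⟩, ⟨b', hb'⟩⟩ h
    simp only [Subtype.mk.injEq] at h
    have h1 : a'⁻¹ * a = κ • (b' * b⁻¹) := by
      rw [smul_mul', smul_inv', eq_mul_inv_iff_mul_eq, mul_assoc, h, inv_mul_cancel_left]
    have hta : t • (a'⁻¹ * a) = a'⁻¹ * a := by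
      rw [smul_mul', smul_inv', mem_fix_singleton.mp ha'.2, mem_fix_singleton.mp ha.2]
    have htb : t • (b' * b⁻¹) = b' * b⁻¹ := by
      rw [smul_mul', smul_inv', mem_fix_singleton.mp hb'.2, mem_fix_singleton.mp hb.2]
    rw [h1, ← mul_smul, htκ, mul_smul, htb] at hta
    have h4 : κ • (b' * b⁻¹) = b' * b⁻¹ := by
      have h5 : κ ^ 2 • (b' * b⁻¹) = b' * b⁻¹ := by
        rw [pow_two, mul_smul]; nth_rewrite 1 [← hta]; rw [smul_inv_smul]
      have h6 : κ ^ 3 • (b' * b⁻¹) = κ • (b' * b⁻¹) := by rw [pow_succ' κ 2, mul_smul, h5]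
      rw [← h6, hκ3, one_smul]
    have h7 := hκfix _ h4
    rw [h7, smul_one] at h1
    rw [mul_inv_eq_one] at h7
    rw [inv_mul_eq_one] at h1
    subst h7 h1
    rfl
  -- `|W| ≤ |C_W(t)|²`
  let W₀ : Subgroup W := fix (V := W) {t}
  have htt : t * t = 1 := hρsq _
  have hlarge : Nat.card W ≤ Nat.card W₀ ^ 2 := by
    have h1 := Subgroup.card_mul_index W₀
    have h3 : W₀.index ≤ Nat.card W₀ := by
      rw [← card_modComm]
      refine Subgroup.card_le_of_le ?_
      rintro _ ⟨v, rfl⟩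
      refine mem_fix_singleton.mpr ?_
      rw [moved_apply, smul_div', ← mul_smul, htt, one_smul, div_eq_mul' hWsq, div_eq_mul' hWsq,
        mul_comm]
    calc Nat.card W = Nat.card W₀ * W₀.index := h1.symm
      _ ≤ Nat.card W₀ * Nat.card W₀ := Nat.mul_le_mul le_rfl h3
      _ = _ := (pow_two _).symm
  have hinvariant : ∀ u ∈ C A₀, κ • u ∈ C A₀ := fun u hu => by
    rw [hmemC] at hu ⊢
    intro a ha
    rw [← mul_smul, (hA₀ a).mp ha, mul_smul, hu a ha]
  -- `|C_W(A)| = 2`
  have hCtop : C A₀ ⊓ W₀ = C ⊤ := by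
    ext v
    rw [Subgroup.mem_inf, hmemC, hmemC]
    constructor
    · rintro ⟨h0, htv⟩ a -
      by_cases ha : a ∈ A₀
      · exact h0 a ha
      · have : ⟨τ, hτA⟩ * a ∈ A₀ := by
          have h' := (index_eq_two_iff.mp hidx)
          exact (Subgroup.mul_mem_iff_of_index_two hidx).mpr ⟨fun h => absurd h hτ0,
            fun h => absurd h ha⟩
        have h1 := h0 _ this
        rw [map_mul, ← ht, mul_smul] at h1
        calc ρ a • v = t • (t • ρ a • v) := by rw [← mul_smul t t, htt, one_smul]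
          _ = v := by rw [h1, mem_fix_singleton.mp htv]
    · intro h
      exact ⟨fun a _ => h a trivial, mem_fix_singleton.mpr (h _ trivial)⟩
  have hWpow : IsPGroup 2 W := fun x => ⟨1, by rw [pow_one, pow_two]; exact hWsq x⟩
  have hC2 : Nat.card (C ⊤) = 2 := by
    have hpos : 1 < Nat.card (C ⊤) := by
      let act : MulAction A W := MulAction.compHom W ρ
      have hAp : IsPGroup 2 A := CfsgLib.PLocal.isPGroup_of_isElementaryAbelian hA.2.1
      obtain ⟨n, hn⟩ := IsPGroup.iff_card.mp hWpow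
      obtain ⟨b, hb, hb1⟩ := hAp.exists_fixed_point_of_prime_dvd_card_of_fixed_point W
        (a := (1 : W)) (by
          rw [hn]
          refine dvd_pow_self 2 fun e => ?_
          rw [e, pow_zero] at hn
          exact hW1 (Subgroup.card_eq_one.mp hn))
        (fun r => smul_one (ρ r))
      have : Nontrivial (C ⊤) :=
        ⟨⟨⟨b, (hmemC ⊤ b).mpr fun a _ => hb a⟩, 1, fun e => hb1 (congrArg Subtype.val e).symm⟩⟩
      exact Finite.one_lt_card (α := C ⊤)
    have h1 := hineq A₀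
    rw [hA₀card] at h1
    have h2' := hsquare (C A₀) hinvariant
    rw [hCtop, pow_two] at h2'
    have h3 : Nat.card (C A₀) ≤ 2 * Nat.card (C ⊤) := by
      refine Nat.le_of_mul_le_mul_left ?_ (Nat.card_pos : 0 < Nat.card A₀)
      linarith
    have h4 : Nat.card (C ⊤) ≤ 2 :=
      Nat.le_of_mul_le_mul_left ((h2'.trans h3).trans_eq (mul_comm 2 _))
        (show 0 < Nat.card (C ⊤) by omega)
    omega
  -- the action of `A₀` on `W₀`
  have hW₀A : ∀ (a : A), ∀ v ∈ W₀, ρ a • v ∈ W₀ := fun a v hv => by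
    rw [mem_fix_singleton] at hv ⊢
    rw [← mul_smul, ht, (hρcomm ⟨τ, hτA⟩ a).eq, mul_smul, hv]
  let σ : A₀ →* MulAut W₀ :=
    { toFun := fun a =>
        { toFun := fun v => ⟨ρ a • (v : W), hW₀A a v v.2⟩
          invFun := fun v => ⟨ρ a • (v : W), hW₀A a v v.2⟩
          left_inv := fun v => Subtype.ext (show ρ (a : A) • ρ (a : A) • (v : W) = v by
            rw [← mul_smul, hρsq, one_smul])
          right_inv := fun v => Subtype.ext (show ρ (a : A) • ρ (a : A) • (v : W) = v by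
            rw [← mul_smul, hρsq, one_smul])
          map_mul' := fun u v => Subtype.ext (by simp [smul_mul']) }
      map_one' := by ext v; simp
      map_mul' := fun a b => by ext v; simp [mul_smul] }
  -- its kernel centralises `W`
  let B : Subgroup A := ρ.ker
  have hWgen : ∀ v : W, ∃ x ∈ W₀, ∃ y ∈ W₀, x * κ • y = v := by
    have hinjf : Function.Injective (fun p : W₀ × W₀ => (p.1 : W) * κ • (p.2 : W)) := by
      rintro ⟨⟨a, ha⟩, ⟨b, hb⟩⟩ ⟨⟨a', ha'⟩, ⟨b', hb'⟩⟩ h
      have hs := hsquare ⊤ (fun _ _ => trivial)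
      rw [top_inf_eq, Subgroup.card_top, pow_two] at hs
      have h1 : a'⁻¹ * a = κ • (b' * b⁻¹) := by
        rw [smul_mul', smul_inv', eq_mul_inv_iff_mul_eq, mul_assoc]
        exact (congrArg (a'⁻¹ * ·) h).trans (inv_mul_cancel_left _ _)
      have hta : t • (a'⁻¹ * a) = a'⁻¹ * a := by
        rw [smul_mul', smul_inv', mem_fix_singleton.mp ha', mem_fix_singleton.mp ha]
      have htb : t • (b' * b⁻¹) = b' * b⁻¹ := by
        rw [smul_mul', smul_inv', mem_fix_singleton.mp hb', mem_fix_singleton.mp hb]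
      rw [h1, ← mul_smul, htκ, mul_smul, htb] at hta
      have h4 : κ • (b' * b⁻¹) = b' * b⁻¹ := by
        have h5 : κ ^ 2 • (b' * b⁻¹) = b' * b⁻¹ := by
          rw [pow_two, mul_smul]; nth_rewrite 1 [← hta]; rw [smul_inv_smul]
        have h6 : κ ^ 3 • (b' * b⁻¹) = κ • (b' * b⁻¹) := by rw [pow_succ' κ 2, mul_smul, h5]
        rw [← h6, hκ3, one_smul]
      have h7 := hκfix _ h4
      rw [h7, smul_one] at h1
      rw [mul_inv_eq_one] at h7
      rw [inv_mul_eq_one] at h1
      subst h7 h1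
      rfl
    have hbij := (Nat.bijective_iff_injective_and_card _).mpr ⟨hinjf,
      le_antisymm (Nat.card_le_card_of_injective _ hinjf)
        (by rw [Nat.card_prod, ← pow_two]; exact hlarge)⟩
    intro v
    obtain ⟨⟨x, y⟩, e⟩ := hbij.2 v
    exact ⟨x, x.2, y, y.2, e⟩
  have hker : σ.ker.map A₀.subtype = B := by
    ext a
    constructor
    · rintro ⟨a, ha, rfl⟩
      refine MonoidHom.mem_ker.mpr (hext fun v => ?_)
      have hfixW₀ : ∀ x ∈ W₀, ρ (a : A) • x = x := fun x hx =>
        congrArg Subtype.val (congrArg (fun e : MulAut W₀ => e ⟨x, hx⟩) ha)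
      obtain ⟨x, hx, y, hy, rfl⟩ := hWgen v
      rw [one_smul, smul_mul', A₀.coe_subtype, hfixW₀ x hx, ← mul_smul, (hA₀ _).mp a.2, mul_smul,
        hfixW₀ y hy]
    · intro ha
      have h1 : ρ a = 1 := MonoidHom.mem_ker.mp ha
      refine ⟨⟨a, (hA₀ a).mpr (by rw [h1, one_mul, mul_one])⟩, ?_, rfl⟩
      refine MonoidHom.mem_ker.mpr (MulEquiv.ext fun v => Subtype.ext ?_)
      show ρ a • (v : W) = v
      rw [h1, one_smul]
  have hσ : Nat.card σ.range * Nat.card B = Nat.card A₀ := by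
    rw [← hker, card_map_of_injective A₀.subtype_injective, ← index_ker, mul_comm,
      Subgroup.card_mul_index]
  -- bound on the image
  obtain ⟨w, w1, hw1', hwall⟩ := Nat.card_eq_two_iff.mp hC2
  obtain ⟨w₀, hw₀C, hw₀1⟩ : ∃ x : W, x ∈ C ⊤ ∧ x ≠ 1 := by
    by_cases e : (w : W) = 1
    · exact ⟨w1, w1.2, fun e' => hw1' (Subtype.ext (e.trans e'.symm))⟩
    · exact ⟨w, w.2, e⟩
  have hw₀W : w₀ ∈ W₀ := mem_fix_singleton.mpr ((hmemC ⊤ w₀).mp hw₀C _ trivial)
  have hbound : 2 * Nat.card σ.range ≤ Nat.card W₀ := by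
    refine two_mul_card_le (W := W₀) (w := ⟨w₀, hw₀W⟩)
      (fun v => Subtype.ext (hWsq v)) ?_ ?_ (fun p h => Subtype.ext (MulEquiv.ext h))
      (fun e => hw₀1 (congrArg Subtype.val e)) ?_
    · exact ((CfsgLib.PLocal.isPGroup_of_isElementaryAbelian hA.2.1).to_subgroup A₀).of_surjective
        σ.rangeRestrict σ.rangeRestrict_surjective
    · rintro ⟨_, a, rfl⟩ ⟨_, b, rfl⟩
      refine Subtype.ext (MulEquiv.ext fun v => Subtype.ext ?_)
      show ρ (a : A) • ρ (b : A) • (v : W) = ρ (b : A) • ρ (a : A) • (v : W)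
      rw [← mul_smul, ← mul_smul, (hρcomm _ _).eq]
    · intro v hv
      have hvC : (v : W) ∈ C ⊤ := by
        rw [← hCtop, Subgroup.mem_inf, hmemC]
        exact ⟨fun a ha => congrArg Subtype.val (hv ⟨σ ⟨a, ha⟩, ⟨a, ha⟩, rfl⟩), v.2⟩
      have hall : ∀ x : C ⊤, x = w ∨ x = w1 := fun x => by
        have : x ∈ ({w, w1} : Set _) := hwall ▸ Set.mem_univ x
        simpa using this
      rcases hall ⟨v, hvC⟩ with e | e <;> rcases hall ⟨1, one_mem _⟩ with e' | e' <;>
        rcases hall ⟨w₀, hw₀C⟩ with e'' | e'' <;>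
        first
          | exact absurd (congrArg Subtype.val (e''.trans e'.symm)) hw₀1
          | exact Or.inl (Subtype.ext (show (v : W) = 1 from congrArg Subtype.val (e.trans e'.symm)))
          | exact Or.inr (Subtype.ext (show (v : W) = w₀ from congrArg Subtype.val (e.trans e''.symm)))
  -- conclusion
  have hmain := hineq B
  have hCB : C B = ⊤ := eq_top_iff.mpr fun v _ => (hmemC B v).mpr fun a ha => by
    rw [MonoidHom.mem_ker.mp ha, one_smul]
  rw [hCB, Subgroup.card_top, hC2, hA₀card, ← hσ] at hmain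
  have hW4 : Nat.card W ≤ 4 * Nat.card σ.range := by
    refine Nat.le_of_mul_le_mul_left ?_ (Nat.card_pos : 0 < Nat.card B)
    linarith
  have hsq₀ := hsquare ⊤ (fun _ _ => trivial)
  rw [top_inf_eq, Subgroup.card_top] at hsq₀
  have hW₀2 : Nat.card W₀ = 2 := by
    have hge : 2 ≤ Nat.card W₀ := hC2 ▸ Subgroup.card_le_of_le (hCtop ▸ inf_le_right)
    have h5 : Nat.card W₀ * Nat.card W₀ ≤ Nat.card W₀ * 2 := by
      calc _ = Nat.card W₀ ^ 2 := (pow_two _).symm
        _ ≤ Nat.card W := hsq₀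
        _ ≤ 4 * Nat.card σ.range := hW4
        _ ≤ _ := by omega
    have := Nat.le_of_mul_le_mul_left h5 Nat.card_pos
    omega
  have hWcard : Nat.card W = 4 := by
    refine le_antisymm (hlarge.trans_eq (by rw [hW₀2]; rfl)) ?_
    exact le_trans (by rw [hW₀2]; norm_num) hsq₀
  refine ⟨hWcard, ?_, ?_⟩
  · have : (C ⊤).map W.subtype = W ⊓ centralizer (A : Set G) := by
      ext x
      constructor
      · rintro ⟨v, hv, rfl⟩
        refine ⟨v.2, mem_centralizer_iff.mpr fun a ha => ?_⟩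
        have h1 := congrArg Subtype.val ((hmemC ⊤ v).mp hv ⟨a, ha⟩ trivial)
        exact mul_inv_eq_iff_eq_mul.mp h1
      · rintro ⟨hx, hxc⟩
        refine ⟨⟨x, hx⟩, (hmemC ⊤ _).mpr fun a _ => Subtype.ext ?_, rfl⟩
        show (a : G) * x * (a : G)⁻¹ = x
        rw [mem_centralizer_iff.mp hxc a a.2, mul_inv_cancel_right]
    rw [← this, card_map_of_injective W.subtype_injective, hC2]
  · have hσ1 : Nat.card σ.range = 1 := by omega
    have hBA : B = (A ⊓ centralizer (W : Set G)).subgroupOf A := by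
      ext a
      rw [MonoidHom.mem_ker, mem_subgroupOf, Subgroup.mem_inf, and_iff_right a.2, mem_centralizer_iff]
      constructor
      · intro h v hv
        have h1 := congrArg Subtype.val (congrArg (fun e : MulAut W => e • (⟨v, hv⟩ : W)) h)
        simp only [one_smul] at h1
        exact (mul_inv_eq_iff_eq_mul.mp h1).symm
      · intro h
        refine hext fun v => Subtype.ext ?_
        rw [one_smul]
        show (a : G) * (v : G) * (a : G)⁻¹ = v
        rw [← h v v.2, mul_inv_cancel_right]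
    rw [Subgroup.relIndex, ← hBA]
    have h1 := Subgroup.card_mul_index B
    rw [hA₀card, ← hσ, hσ1, one_mul, mul_comm 2] at h1
    exact Nat.eq_of_mul_eq_mul_left Nat.card_pos h1

end CfsgLib.JComp
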