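import Cfsg.Agent.JComp.Pairs
import Cfsg.Agent.JComp.FourGroup
import Cfsg.Agent.JComp.QNormalizes

/-!
The `J(T)`-components inside a member `L` of the family attached to `T`.
-/

set_option autoImplicit false

namespace CfsgLib.JComp

open Subgroup
open scoped IsMulCommutative commutatorElement

variable {G : Type*} [Group G] [Finite G]

/-- The subgroup generated by the elements of odd order of `H`. -/
abbrev oddGen (H : Subgroup G) : Subgroup G :=
  Subgroup.closure {g : G | g ∈ H ∧ Odd (orderOf g)}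

omit [Finite G] in
theorem oddGen_le (H : Subgroup G) : oddGen H ≤ H := (closure_le _).mpr fun _ hg => hg.1

omit [Finite G] in
theorem oddGen_oddGen (H : Subgroup G) :
    Subgroup.closure {g : G | g ∈ oddGen H ∧ Odd (orderOf g)} = oddGen H :=
  le_antisymm ((closure_le _).mpr fun _ hg => hg.1)
    (closure_mono fun g hg => ⟨subset_closure hg, hg.2⟩)

omit [Finite G] in
theorem map_oddGen {G' : Type*} [Group G'] (e : G ≃* G') (H : Subgroup G) :
    (oddGen H).map e.toMonoidHom = oddGen (H.map e.toMonoidHom) := by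
  rw [oddGen, MonoidHom.map_closure, oddGen]
  congr 1
  ext g
  constructor
  · rintro ⟨x, ⟨hx, hodd⟩, rfl⟩
    exact ⟨mem_map_of_mem _ hx, by rwa [MulEquiv.coe_toMonoidHom, MulEquiv.orderOf_eq]⟩
  · rintro ⟨⟨x, hx, rfl⟩, hodd⟩
    exact ⟨x, ⟨hx, by rwa [MulEquiv.coe_toMonoidHom, MulEquiv.orderOf_eq] at hodd⟩, rfl⟩

omit [Finite G] in
theorem normalizer_le_normalizer_oddGen (H : Subgroup G) :
    normalizer (H : Set G) ≤ normalizer (oddGen H : Set G) := by
  intro g hg
  rw [mem_normalizer_iff_map_conj_eq] at hg ⊢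
  exact (map_oddGen (MulAut.conj g) H).trans (congrArg oddGen hg)

/-- `W` of a block, as a subgroup of `G`. -/
abbrev blockW (L : Subgroup G) (y : Gam L) : Subgroup G :=
  (modComm (V := VOf L) y).map (VOf L).subtype

/-- An element of a member of `maxEAIn 2 T` inducing a transvection. -/
def Mover (T L : Subgroup G) (a : L) : Prop :=
  ∃ A ∈ CfsgLib.PLocal.maxEAIn 2 T, (a : G) ∈ A ∧ IsTransvection (VOf L) (bar L a)

/-- `K` of an element `k`: the subgroup generated by the elements of odd order of `O₂(L)⟨k⟩`. -/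
abbrev compK (L : Subgroup G) (k : L) : Subgroup G :=
  oddGen (Cfsg.pCoreOf 2 L ⊔ zpowers (k : G))

theorem Mover.two {T L : Subgroup G} {a : L} (ha : Mover T L a) : a * a = 1 := by
  obtain ⟨A, hA, haA, -⟩ := ha
  exact Subtype.ext (by simpa [pow_two] using hA.2.1.2 _ haA)

theorem Mover.mem_J {T L : Subgroup G} {a : L} (ha : Mover T L a) :
    (a : G) ∈ Cfsg.thompsonSubgroupOf 2 T := by
  obtain ⟨A, hA, haA, -⟩ := ha
  exact CfsgLib.PLocal.le_thompsonSubgroupOf hA haA

theorem IsPair.conj {L : Subgroup G} (h : Setting (Gam L) (VOf L) (Cfsg.fittingSubgroup (Gam L)))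
    {τ k : L} (hp : IsPair L τ k) (g : L) : IsPair L (g * τ * g⁻¹) (g * k * g⁻¹) := by
  obtain ⟨n, hn⟩ := hp.two
  refine ⟨⟨n, by rw [conj_pow, hn]; group⟩, ⟨?_, ?_⟩, ?_, ?_, ?_⟩
  · rw [← map_mul, show g * τ * g⁻¹ * (g * τ * g⁻¹) = g * (τ * τ) * g⁻¹ by group]
    simp [hp.trans.1]
  · rw [map_mul, map_mul, map_inv, card_modComm_conj, hp.trans.2]
  · rw [← MulAut.conj_apply, MulEquiv.orderOf_eq, hp.order]
  · rw [map_mul, map_mul, map_inv]; exact hp.block.conj h _
  · rw [show g * τ * g⁻¹ * (g * k * g⁻¹) * (g * τ * g⁻¹)⁻¹ = g * (τ * k * τ⁻¹) * g⁻¹ by group,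
      map_mul, map_mul, hp.inv, map_inv, map_mul, map_mul, map_inv]
    group

/-- Elements acting on `W_K` commute with or invert the element of order `3`. -/
theorem IsThree.dich {K : Subgroup G} (h : IsThree K) {k : G} (hk3 : orderOf k = 3) (hk : k ∈ K)
    (hkO : k ∉ Cfsg.pCoreOf 2 K) (hgen : ∀ x ∈ K, ∃ i : ℕ, x * (k ^ i)⁻¹ ∈ Cfsg.pCoreOf 2 K)
    {g : G} (hg : g ∈ normalizer (K : Set G)) :
    (∀ v ∈ Cfsg.wOf K, g * (k * v * k⁻¹) * g⁻¹ = k * (g * v * g⁻¹) * k⁻¹) ∨
      (∀ v ∈ Cfsg.wOf K, g * (k * v * k⁻¹) * g⁻¹ = k⁻¹ * (g * v * g⁻¹) * k) := by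
  obtain ⟨i, hi⟩ := hgen _ ((mem_normalizer_iff.mp hg k).mp hk)
  set q := g * k * g⁻¹ * (k ^ i)⁻¹ with hq
  have key : ∀ v ∈ Cfsg.wOf K, g * (k * v * k⁻¹) * g⁻¹ = k ^ i * (g * v * g⁻¹) * (k ^ i)⁻¹ := by
    intro v hv
    have hv' : g * v * g⁻¹ ∈ Cfsg.wOf K :=
      (mem_normalizer_iff.mp (normalizer_le_normalizer_wOf K hg) v).mp hv
    have hwk : k ^ i * (g * v * g⁻¹) * (k ^ i)⁻¹ ∈ Cfsg.wOf K :=
      (mem_normalizer_iff.mp (pow_mem (normalizer_le_normalizer_wOf K (le_normalizer hk)) i) _).mp hv'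
    have hc := mem_centralizer_iff.mp (omegaCenterOf_le_centralizer _ (h.wOf_le hwk)) q hi
    calc g * (k * v * k⁻¹) * g⁻¹ = q * (k ^ i * (g * v * g⁻¹) * (k ^ i)⁻¹) * q⁻¹ := by
          rw [hq]; group
      _ = _ := by rw [hc, mul_inv_cancel_right]
  have h3 : k ^ 3 = 1 := hk3 ▸ pow_orderOf_eq_one k
  have hlt := Nat.mod_lt i (show 3 > 0 by norm_num)
  have hmod : k ^ i = k ^ (i % 3) := by rw [← hk3, pow_mod_orderOf]
  interval_cases hr : i % 3
  · refine absurd ?_ hkO
    rw [hmod, pow_zero, inv_one, mul_one] at hq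
    have h1 := conj_mem_pCoreOf (inv_mem hg) hi
    rw [hq] at h1
    simpa [mul_assoc] using h1
  · left; intro v hv; rw [key v hv, hmod, pow_one]
  · right
    intro v hv
    have e : k ^ 2 = k⁻¹ := by
      rw [eq_comm]; exact inv_eq_of_mul_eq_one_right (by rw [← pow_succ', h3])
    rw [key v hv, hmod, e, inv_inv]

namespace Ctx

variable {T L : Subgroup G}

theorem J_le (h : Ctx T L) : Cfsg.thompsonSubgroupOf 2 T ≤ L :=
  (CfsgLib.PLocal.thompsonSubgroupOf_le 2 T).trans h.le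

theorem Q_le_normalizer_J (h : Ctx T L) :
    Cfsg.pCoreOf 2 L ≤ normalizer (Cfsg.thompsonSubgroupOf 2 T : Set G) :=
  h.pCoreOf_le_T.trans
    (le_normalizer.trans (CfsgLib.PLocal.normalizer_le_normalizer_thompsonSubgroupOf 2 T))

theorem mem_pCoreOf_iff {L : Subgroup G} {x : L} :
    (x : G) ∈ Cfsg.pCoreOf 2 L ↔ x ∈ Cfsg.pCore 2 L :=
  ⟨fun ⟨y, hy, e⟩ => by rwa [← Subtype.ext (a1 := y) (a2 := x) e], fun h => ⟨x, h, rfl⟩⟩

/-- The image of `J(T)` is generated by the images of the movers. -/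
theorem bar_mem_closure_movers (h : Ctx T L) {j : L}
    (hj : (j : G) ∈ Cfsg.thompsonSubgroupOf 2 T) :
    bar L j ∈ Subgroup.closure (bar L '' {a | Mover T L a}) := by
  have key : Cfsg.thompsonSubgroupOf 2 T ≤
      ((Subgroup.closure (bar L '' {a | Mover T L a})).comap (bar L)).map L.subtype := by
    rw [CfsgLib.PLocal.thompsonSubgroupOf_eq]
    refine sSup_le fun A hA a ha => ?_
    refine ⟨⟨a, h.le (hA.1 ha)⟩, ?_, rfl⟩
    have h1 := h.img_le_closure hA (mem_img.mpr ⟨a, ha, h.le (hA.1 ha), rfl⟩)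
    refine (Subgroup.closure_mono ?_) h1
    rintro t ⟨ht, htr⟩
    obtain ⟨b, hb, hbL, rfl⟩ := mem_img.mp ht
    exact ⟨⟨b, hbL⟩, ⟨A, hA, hb, htr⟩, rfl⟩
  obtain ⟨j', hj', e⟩ := key hj
  rwa [← Subtype.ext (a1 := j') (a2 := j) e]

theorem bar_mem_closure_trans (h : Ctx T L) {j : L}
    (hj : (j : G) ∈ Cfsg.thompsonSubgroupOf 2 T) :
    bar L j ∈ Subgroup.closure {t : Gam L | IsTransvection (VOf L) t} := by
  refine (Subgroup.closure_mono ?_) (h.bar_mem_closure_movers hj)
  rintro _ ⟨a, ⟨A, -, -, ha⟩, rfl⟩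
  exact ha

theorem exists_mover (h : Ctx T L) : ∃ a : L, Mover T L a := by
  by_contra hno
  push_neg at hno
  apply h.mem.2.1
  intro j hj
  have h1 := h.bar_mem_closure_movers (j := ⟨j, h.J_le hj⟩) hj
  rw [Set.eq_empty_of_forall_notMem (s := {a | Mover T L a}) hno, Set.image_empty,
    Subgroup.closure_empty, mem_bot] at h1
  exact h.centralizer_inf_le ⟨⟨h.J_le hj, bar_eq_one_iff.mp h1⟩,
    CfsgLib.PLocal.thompsonSubgroupOf_le 2 T hj⟩

/-! ### The subgroup of a pair -/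

theorem le_normalizer_Q_sup (h : Ctx T L) (k : L) :
    Cfsg.pCoreOf 2 L ⊔ zpowers (k : G) ≤ L := by
  refine sup_le (pCoreOf_le 2 L) (zpowers_le.mpr k.2)

theorem exists_eq_mul (h : Ctx T L) {k : L} {x : G}
    (hx : x ∈ Cfsg.pCoreOf 2 L ⊔ zpowers (k : G)) :
    ∃ q ∈ Cfsg.pCoreOf 2 L, ∃ i : ℤ, x = q * (k : G) ^ i := by
  rw [← SetLike.mem_coe, coe_mul_of_right_le_normalizer_left _ _
    (zpowers_le.mpr (le_normalizer_pCoreOf 2 L k.2))] at hx
  obtain ⟨q, hq, y, hy, rfl⟩ := hx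
  obtain ⟨i, rfl⟩ := mem_zpowers_iff.mp hy
  exact ⟨q, hq, i, rfl⟩

theorem mem_compK (h : Ctx T L) {τ k : L} (hp : IsPair L τ k) : (k : G) ∈ compK L k :=
  subset_closure ⟨mem_sup_right (mem_zpowers _), by
    rw [Subgroup.orderOf_coe, hp.order]; decide⟩

theorem compK_le (h : Ctx T L) (k : L) : compK L k ≤ L :=
  (oddGen_le _).trans (h.le_normalizer_Q_sup k)

theorem sup_le_normalizer_compK (k : L) :
    Cfsg.pCoreOf 2 L ⊔ zpowers (k : G) ≤ normalizer (compK L k : Set G) :=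
  le_normalizer.trans (normalizer_le_normalizer_oddGen _)

theorem pCoreOf_compK (h : Ctx T L) {τ k : L} (hp : IsPair L τ k) :
    Cfsg.pCoreOf 2 (compK L k) = compK L k ⊓ Cfsg.pCoreOf 2 L := by
  refine le_antisymm (fun x hx => ?_) ?_
  · refine ⟨pCoreOf_le 2 _ hx, ?_⟩
    obtain ⟨q, hq, i, rfl⟩ := h.exists_eq_mul (oddGen_le _ (pCoreOf_le 2 _ hx))
    obtain ⟨n, hn⟩ := isPGroup_pCoreOf 2 (compK L k) ⟨_, hx⟩
    have hn' : (q * (k : G) ^ i) ^ 2 ^ n = 1 := by simpa using congrArg Subtype.val hn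
    obtain ⟨q', hq', rfl⟩ := hq
    have h1 : qm L ((q' * k ^ i) ^ 2 ^ n) = 1 := by
      rw [show (q' * k ^ i) ^ 2 ^ n = 1 from Subtype.ext (by simpa using hn'), map_one]
    rw [map_pow, map_mul, show qm L q' = 1 from (QuotientGroup.eq_one_iff q').mpr hq', one_mul, ← map_pow,
      QuotientGroup.mk'_apply, QuotientGroup.eq_one_iff] at h1
    obtain ⟨m, hm⟩ := CfsgLib.PLocal.isPGroup_pCore 2 L ⟨_, h1⟩
    have hm' : ((k ^ i) ^ 2 ^ n) ^ 2 ^ m = 1 := by simpa using congrArg Subtype.val hm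
    rw [← pow_mul, ← pow_add] at hm'
    have hk1 : k ^ i = 1 := by
      refine orderOf_eq_one_iff.mp (Nat.eq_one_of_dvd_coprimes
        (Nat.Coprime.pow_left (n + m) (show Nat.Coprime 2 3 by decide))
        (orderOf_dvd_of_pow_eq_one hm') ?_)
      exact hp.order ▸ orderOf_dvd_of_mem_zpowers (zpow_mem (mem_zpowers k) i)
    have : (k : G) ^ i = 1 := by simpa using congrArg Subtype.val hk1
    rw [this, mul_one]
    exact ⟨q', hq', rfl⟩
  · refine le_pCoreOf inf_le_left ?_ ((isPGroup_pCoreOf 2 L).to_le inf_le_right)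
    intro g hg
    refine mem_normalizer_iff.mpr fun x => ?_
    have h1 := mem_normalizer_iff.mp (le_normalizer hg : g ∈ normalizer (compK L k : Set G)) x
    have h2 := mem_normalizer_iff.mp (le_normalizer_pCoreOf 2 L (h.compK_le k hg)) x
    rw [Subgroup.mem_inf, Subgroup.mem_inf, h1, h2]

theorem isThree_compK (h : Ctx T L) {τ k : L} (hp : IsPair L τ k) : IsThree (compK L k) := by
  refine ⟨oddGen_oddGen _, ?_⟩
  rw [h.pCoreOf_compK hp]
  set Q := Cfsg.pCoreOf 2 L
  have hkQ : zpowers (k : G) ≤ normalizer (Q : Set G) :=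
    zpowers_le.mpr (le_normalizer_pCoreOf 2 L k.2)
  have hKQ : compK L k ≤ normalizer (Q : Set G) :=
    (h.compK_le k).trans (le_normalizer_pCoreOf 2 L)
  have h1 := Ctx.img_le_closure.card_sup_mul_card_inf (zpowers (k : G)) Q hkQ
  have h0 : zpowers (k : G) ⊓ Q = ⊥ := by
    rw [inf_comm]
    refine CfsgLib.PLocal.disjoint_of_isPGroup_of_coprime (isPGroup_pCoreOf 2 L) ?_
    rw [Nat.card_zpowers, Subgroup.orderOf_coe, hp.order]; decide
  rw [h0, Subgroup.card_bot, mul_one, Nat.card_zpowers, Subgroup.orderOf_coe, hp.order] at h1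
  have h2 := Ctx.img_le_closure.card_sup_mul_card_inf (compK L k) Q hKQ
  have h3 : compK L k ⊔ Q = zpowers (k : G) ⊔ Q := by
    refine le_antisymm (sup_le ((oddGen_le _).trans (le_of_eq (sup_comm _ _))) le_sup_right)
      (sup_le ((zpowers_le.mpr (h.mem_compK hp)).trans le_sup_left) le_sup_right)
  rw [h3, h1] at h2
  have h4 := CfsgLib.PLocal.card_mul_relIndex (inf_le_left : compK L k ⊓ Q ≤ compK L k)
  have h5 : Nat.card Q * (3 * Nat.card ↥(compK L k ⊓ Q)) =
      Nat.card Q * Nat.card (compK L k) := by linarith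
  have h6 := Nat.eq_of_mul_eq_mul_left Nat.card_pos h5
  rw [← h4, mul_comm 3] at h6
  exact (Nat.eq_of_mul_eq_mul_left Nat.card_pos h6).symm

theorem gen_compK (h : Ctx T L) {τ k : L} (hp : IsPair L τ k) :
    (k : G) ∉ Cfsg.pCoreOf 2 (compK L k) ∧
      ∀ x ∈ compK L k, ∃ i : ℕ, x * ((k : G) ^ i)⁻¹ ∈ Cfsg.pCoreOf 2 (compK L k) := by
  rw [h.pCoreOf_compK hp]
  refine ⟨fun hk => ?_, fun x hx => ?_⟩
  · have h1 : zpowers (k : G) = ⊥ := by
      refine CfsgLib.PLocal.eq_bot_of_isPGroup_of_coprime (p := 2)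
        ((isPGroup_pCoreOf 2 L).to_le (zpowers_le.mpr hk.2)) ?_
      rw [Nat.card_zpowers, Subgroup.orderOf_coe, hp.order]; decide
    have h2 := Nat.card_zpowers (k : G)
    rw [h1, Subgroup.card_bot, Subgroup.orderOf_coe, hp.order] at h2
    omega
  · obtain ⟨q, hq, i, rfl⟩ := h.exists_eq_mul (oddGen_le _ hx)
    obtain ⟨j, hj⟩ : ∃ j : ℕ, (k : G) ^ j = (k : G) ^ i :=
      mem_powers_iff_mem_zpowers.mpr (zpow_mem (mem_zpowers _) i)
    refine ⟨j, ?_⟩
    rw [hj, mul_inv_cancel_right]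
    have : q = q * (k : G) ^ i * ((k : G) ^ i)⁻¹ := by rw [mul_inv_cancel_right]
    refine ⟨?_, hq⟩
    rw [this]
    exact (compK L k).mul_mem hx ((compK L k).inv_mem ((compK L k).zpow_mem (h.mem_compK hp) i))

theorem compK_eq_of_qm_eq {k k' : L} (he : qm L k' = qm L k ∨ qm L k' = (qm L k)⁻¹) :
    compK L k' = compK L k := by
  have key : ∀ {k k' : L}, (qm L k' = qm L k ∨ qm L k' = (qm L k)⁻¹) →
      Cfsg.pCoreOf 2 L ⊔ zpowers (k' : G) ≤ Cfsg.pCoreOf 2 L ⊔ zpowers (k : G) := by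
    intro k k' he
    refine sup_le le_sup_left (zpowers_le.mpr ?_)
    rcases he with e | e
    · rw [QuotientGroup.mk'_eq_mk'] at e
      obtain ⟨z, hz, e⟩ := e
      have hk' : k' = k * z⁻¹ := by rw [← e, mul_inv_cancel_right]
      rw [hk']
      exact mul_mem (mem_sup_right (mem_zpowers _))
        (mem_sup_left (inv_mem (mem_pCoreOf_iff.mpr hz)))
    · rw [← map_inv, QuotientGroup.mk'_eq_mk'] at e
      obtain ⟨z, hz, e⟩ := e
      have hk' : k' = k⁻¹ * z⁻¹ := by rw [← e, mul_inv_cancel_right]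
      rw [hk']
      exact mul_mem (mem_sup_right (inv_mem (mem_zpowers _)))
        (mem_sup_left (inv_mem (mem_pCoreOf_iff.mpr hz)))
  refine congrArg oddGen (le_antisymm (key he) (key ?_))
  rcases he with e | e
  · exact Or.inl e.symm
  · exact Or.inr (by rw [e, inv_inv])

/-- Pairs with the same block give the same subgroup. -/
theorem compK_eq_of_block (h : Ctx T L) {τ k τ' k' : L} (hp : IsPair L τ k)
    (hp' : IsPair L τ' k') (hb : bar L k' ∈ zpowers (bar L k)) : compK L k' = compK L k := by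
  refine compK_eq_of_qm_eq ?_
  rcases eq_or_eq_inv_of_mem_zpowers hp.block.order hb hp'.block.ne_one with e | e
  · exact Or.inl (h.pair_unique hp hp' e)
  · exact Or.inr ((h.pair_unique hp.inv_right hp' (by rw [e, map_inv])).trans (map_inv _ _))

theorem map_compK (g k : L) :
    (compK L k).map (MulAut.conj (g : G)).toMonoidHom = compK L (g * k * g⁻¹) := by
  refine (map_oddGen (MulAut.conj (g : G)) _).trans (congrArg oddGen ?_)
  rw [Subgroup.map_sup, MonoidHom.map_zpowers]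
  exact congrArg₂ _ (mem_normalizer_iff_map_conj_eq.mp (le_normalizer_pCoreOf 2 L g.2)) rfl

theorem J_le_normalizer_compK (h : Ctx T L) {τ k : L} (hp : IsPair L τ k) :
    Cfsg.thompsonSubgroupOf 2 T ≤ normalizer (compK L k : Set G) := by
  intro j hj
  rw [mem_normalizer_iff_map_conj_eq]
  show (compK L k).map (MulAut.conj ((⟨j, h.J_le hj⟩ : L) : G)).toMonoidHom = _
  rw [map_compK]
  refine h.compK_eq_of_block hp (hp.conj h.setting _) ?_
  rw [map_mul, map_mul, map_inv]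
  exact h.setting.conj_mem_zpowers (h.bar_mem_closure_trans hj) hp.block

theorem blockW_le_wOf (h : Ctx T L) {τ k : L} (hp : IsPair L τ k) :
    blockW L (bar L k) ≤ Cfsg.wOf (compK L k) := by
  obtain ⟨-, hgen⟩ := h.gen_compK hp
  have hspec := (h.isThree_compK hp).wOf_spec (h.mem_compK hp)
    (by rw [Subgroup.orderOf_coe, hp.order]) hgen
  rintro _ ⟨u, hu, rfl⟩
  obtain ⟨v, rfl⟩ := hu
  obtain ⟨w, hw, c, hc, rfl⟩ := exists_mul_eq sq_VOf hp.block.odd v
  have e : moved (bar L k) (w * c) = moved (bar L k) w := by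
    rw [map_mul, show moved (bar L k) c = 1 from (div_eq_one.mpr (mem_fix_singleton.mp hc)), mul_one]
  have hwZ : (w : G) ∈ Cfsg.omegaCenterOf (Cfsg.pCoreOf 2 (compK L k)) := by
    obtain ⟨v', rfl⟩ := hw
    refine CfsgLib.PLocal.mem_omegaOne ?_ ?_
    · rw [h.pCoreOf_compK hp]
      have hQ : ((moved (bar L k) v' : VOf L) : G) ∈ Cfsg.pCoreOf 2 L :=
        VOf_le L (SetLike.coe_mem _)
      have hK : ((moved (bar L k) v' : VOf L) : G) ∈ compK L k := by
        have h1 : (v' : G) * (k : G)⁻¹ * (v' : G)⁻¹ ∈ compK L k :=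
          (mem_normalizer_iff.mp (sup_le_normalizer_compK k
            (mem_sup_left (VOf_le L v'.2))) _).mp (inv_mem (h.mem_compK hp))
        have h2 := (compK L k).mul_mem (h.mem_compK hp) h1
        simpa [coe_bar_smul, div_eq_mul_inv, mul_assoc] using h2
      refine ⟨⟨hK, hQ⟩, ?_⟩
      exact centralizer_le inf_le_right
        (omegaCenterOf_le_centralizer _ (SetLike.coe_mem (moved (bar L k) v')))
    · exact (isElementaryAbelian_omegaCenterOf _).2 _ (SetLike.coe_mem _)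
  have h3 := hspec.2.1 (w : G) hwZ
  rw [e]
  simpa [coe_bar_smul, div_eq_mul_inv] using h3

theorem card_blockW {k : L} {F : Subgroup (Gam L)} (hk : IsBlockElt (VOf L) F (bar L k)) :
    Nat.card (blockW L (bar L k)) = 4 := by
  rw [card_map_of_injective (VOf L).subtype_injective, hk.card]

theorem wOf_le_T (h : Ctx T L) {τ k : L} (hp : IsPair L τ k) :
    Cfsg.wOf (compK L k) ≤ T := by
  refine ((h.isThree_compK hp).wOf_le.trans (omegaCenterOf_le _)).trans ?_
  rw [h.pCoreOf_compK hp]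
  exact inf_le_right.trans h.pCoreOf_le_T

/-- A mover and its pair give a component. -/
theorem isJComponent_compK (h : Ctx T L) {a k : L} (ha : Mover T L a) (hp : IsPair L a k) :
    Cfsg.IsJComponent T (compK L k) ∧ Cfsg.wOf (compK L k) = blockW L (bar L k) := by
  set K := compK L k with hKdef
  set J := Cfsg.thompsonSubgroupOf 2 T with hJdef
  have hJK : J ≤ normalizer (K : Set G) := h.J_le_normalizer_compK hp
  have h3 := h.isThree_compK hp
  obtain ⟨hkO, hgen⟩ := h.gen_compK hp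
  have hk := h.mem_compK hp
  have hk3 : orderOf (k : G) = 3 := by rw [Subgroup.orderOf_coe, hp.order]
  -- `(a k a⁻¹) k ∈ O₂(K)`
  have hq : (a : G) * k * (a : G)⁻¹ * k ∈ Cfsg.pCoreOf 2 K := by
    rw [h.pCoreOf_compK hp]
    refine ⟨K.mul_mem ((mem_normalizer_iff.mp (hJK ha.mem_J) _).mp hk) hk, ?_⟩
    refine mem_pCoreOf_iff (x := a * k * a⁻¹ * k).mpr ?_
    rw [← QuotientGroup.eq_one_iff, QuotientGroup.mk_mul]
    exact (congrArg (· * qm L k) hp.inv).trans (inv_mul_cancel _)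
  have hcomm : ⁅K, J⁆ = K := by
    refine le_antisymm (le_normalizer_iff_commutator_le_left.mp hJK) ?_
    refine le_of_odd_generated (le_normalizer_iff_commutator_le_left.mp hJK)
      (Subgroup.normalizer_commutator_ge_left K J) (oddGen_oddGen _)
      (isPGroup_pCoreOf 2 K) (pCoreOf_le 2 K) ?_
    have hkin : (k : G) ∈ ⁅K, J⁆ ⊔ Cfsg.pCoreOf 2 K := by
      have h1 : ⁅(k : G), (a : G)⁆ ∈ ⁅K, J⁆ := commutator_mem_commutator hk ha.mem_J
      have h5 := mul_mem (mem_sup_right (inv_mem hq) : _ ∈ ⁅K, J⁆ ⊔ Cfsg.pCoreOf 2 K)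
        (mem_sup_left (inv_mem h1))
      have e : (k : G) = ((((a : G) * k * (a : G)⁻¹ * k))⁻¹ * ⁅(k : G), (a : G)⁆⁻¹) ^ 1 := by
        have hk2 : (k : G)⁻¹ * (k : G)⁻¹ = (k : G) := by
          rw [← mul_inv_rev, inv_eq_of_mul_eq_one_right]
          have := congrArg Subtype.val hp.pow_three
          simpa [pow_succ, pow_two] using this
        rw [pow_one, commutatorElement_def]
        nth_rewrite 1 [← hk2]
        group
      rw [e, pow_one]; exact h5
    intro x hx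
    obtain ⟨i, hi⟩ := hgen x hx
    have : x = x * ((k : G) ^ i)⁻¹ * (k : G) ^ i := by group
    rw [this]
    exact mul_mem (mem_sup_right hi) (pow_mem hkin i)
  have hKJ : K ⊔ J ≤ L := sup_le (h.compK_le k) h.J_le
  obtain ⟨A, hA, haA, -⟩ := ha
  have hAJ : A ≤ J := CfsgLib.PLocal.le_thompsonSubgroupOf hA
  have hW1 : Cfsg.wOf K ≠ ⊥ := by
    intro e
    have h4 := Subgroup.card_le_of_le (h.blockW_le_wOf hp)
    rw [e, Subgroup.card_bot, card_blockW hp.block] at h4
    omega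
  have hspec := h3.wOf_spec hk hk3 hgen
  have hk33 : (k : G) ^ 3 = 1 := hk3 ▸ pow_orderOf_eq_one _
  have h4 := card_eq_four hA (h.wOf_le_T hp)
    (CfsgLib.PLocal.isElementaryAbelian_of_le (isElementaryAbelian_omegaCenterOf _) h3.wOf_le)
    hW1 ((hAJ.trans hJK).trans (normalizer_le_normalizer_wOf K))
    (normalizer_le_normalizer_wOf K (le_normalizer hk)) (fun v _ => by rw [hk33]; simp)
    hspec.2.2 haA (fun v hv => by
      have hv' : (a : G) * v * (a : G)⁻¹ ∈ Cfsg.wOf K :=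
        (mem_normalizer_iff.mp (normalizer_le_normalizer_wOf K (hJK (hAJ haA))) v).mp hv
      have hw' : (k : G)⁻¹ * ((a : G) * v * (a : G)⁻¹) * k ∈ Cfsg.wOf K := by
        simpa using (mem_normalizer_iff.mp (normalizer_le_normalizer_wOf K
          (le_normalizer (K.inv_mem hk))) _).mp hv'
      have hc := mem_centralizer_iff.mp (omegaCenterOf_le_centralizer _ (h3.wOf_le hw')) _ hq
      calc (a : G) * (k * v * (k : G)⁻¹) * (a : G)⁻¹
          = ((a : G) * k * (a : G)⁻¹ * k) * ((k : G)⁻¹ * ((a : G) * v * (a : G)⁻¹) * k) *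
            ((a : G) * k * (a : G)⁻¹ * k)⁻¹ := by group
        _ = _ := by rw [hc, mul_inv_cancel_right])
    (fun b hb => h3.dich hk3 hk hkO hgen (hJK (hAJ hb)))
  refine ⟨⟨oddGen_oddGen _, hcomm, h3.index, fun S hS hJS => ?_, h4.1, fun w hw => ?_⟩, ?_⟩
  · exact thompson_eq_of_le h.mem.1 (hS.1.trans hKJ) hS.2.1 hJS
  · rw [← pow_two]; exact (isElementaryAbelian_omegaCenterOf _).2 w (h3.wOf_le hw)
  · exact (Subgroup.eq_of_le_of_card_ge (h.blockW_le_wOf hp)
      (by rw [h4.1, card_blockW hp.block])).symm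

/-- Every component inside `L` comes from a mover. -/
theorem classify (h : Ctx T L) {K : Subgroup G} (hK : Cfsg.IsJComponent T K) (hKL : K ≤ L) :
    ∃ a k : L, Mover T L a ∧ IsPair L a k ∧ K = compK L k ∧
      Cfsg.wOf K = blockW L (bar L k) := by
  obtain ⟨k₀, hk₀K, hk₀3, hk₀O, hgen⟩ := (IsThree.of_isJComponent hK).exists_gen
  have hst := h.setting
  set N : Subgroup (Gam L) := Subgroup.closure {t | IsTransvection (VOf L) t}
  have hNn : N.Normal := ⟨fun n hn g => by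
    induction hn using Subgroup.closure_induction with
    | mem t ht =>
      refine subset_closure ⟨?_, by rw [card_modComm_conj, ht.2]⟩
      rw [show g * t * g⁻¹ * (g * t * g⁻¹) = g * (t * t) * g⁻¹ by group, ht.1]
      group
    | one => simp
    | mul u v _ _ iu iv => simpa using mul_mem iu iv
    | inv u _ iu => simpa [mul_assoc] using inv_mem iu⟩
  -- the image of `K` lies in the block group
  have hKN : K ≤ (N.comap (bar L)).map L.subtype := by
    conv_lhs => rw [← hK.2.1]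
    rw [commutator_le]
    intro x hx j hj
    refine ⟨⟨x, hKL hx⟩ * ⟨j, h.J_le hj⟩ * ⟨x, hKL hx⟩⁻¹ * ⟨j, h.J_le hj⟩⁻¹, ?_, rfl⟩
    have hj' : bar L ⟨j, h.J_le hj⟩ ∈ N := h.bar_mem_closure_trans (j := ⟨j, h.J_le hj⟩) hj
    rw [SetLike.mem_coe, mem_comap, map_mul, map_mul, map_mul, map_inv, map_inv]
    exact N.mul_mem (hNn.conj_mem _ hj' _) (N.inv_mem hj')
  set R := blockGroup (VOf L) (Cfsg.fittingSubgroup (Gam L))
  have hKR : K ≤ (R.comap (bar L)).map L.subtype := by
    conv_lhs => rw [← hK.1]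
    rw [closure_le]
    rintro g ⟨hg, hodd⟩
    obtain ⟨g', hg', rfl⟩ := hKN hg
    refine ⟨g', hst.mem_blockGroup_of_odd hg' ?_, rfl⟩
    exact hodd.of_dvd_nat ((orderOf_map_dvd _ _).trans (Subgroup.orderOf_coe g').symm.dvd)
  have hRmem : ∀ {x : L}, (x : G) ∈ K → bar L x ∈ R := by
    intro x hx
    obtain ⟨x', hx', e⟩ := hKR hx
    rwa [← Subtype.ext (a1 := x') (a2 := x) e]
  have hRodd : ∀ {u : Gam L}, u ∈ R → Odd (orderOf u) := fun hu =>
    odd_orderOf_mem hst.odd ((closure_le _).mpr (fun y hy => hy.mem) hu)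
  have hOQ : Cfsg.pCoreOf 2 K ≤ Cfsg.pCoreOf 2 L := by
    intro x hx
    obtain ⟨n, hn⟩ := isPGroup_pCoreOf 2 K ⟨x, hx⟩
    have hxL : x ∈ L := hKL (pCoreOf_le 2 K hx)
    have hn' : (⟨x, hxL⟩ : L) ^ 2 ^ n = 1 :=
      Subtype.ext (by simpa using congrArg Subtype.val hn)
    refine mem_pCoreOf_iff.mpr (h.mem_pCore_of_bar_eq_one ?_ hn')
    have hodd := hRodd (hRmem (x := ⟨x, hxL⟩) (pCoreOf_le 2 K hx))
    exact orderOf_eq_one_iff.mp (Nat.eq_one_of_dvd_coprimes
      (Nat.Coprime.pow_left n (Nat.coprime_two_left.mpr hodd))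
      (orderOf_dvd_of_pow_eq_one (by rw [← map_pow, hn', map_one])) dvd_rfl)
  set k : L := ⟨k₀, hKL hk₀K⟩ with hkdef
  have hk3 : orderOf k = 3 := by rw [Subgroup.orderOf_mk]; exact hk₀3
  -- not everything commutes with `bar k`
  obtain ⟨a, ha, hak⟩ : ∃ a, Mover T L a ∧ bar L a * bar L k ≠ bar L k * bar L a := by
    by_contra hno
    push_neg at hno
    have hbar : ∀ x : L, (x : G) ∈ K → ∃ i : ℕ, bar L x = bar L k ^ i := by
      intro x hx
      obtain ⟨i, hi⟩ := hgen x hx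
      refine ⟨i, ?_⟩
      obtain ⟨z, hz, hze⟩ := hOQ hi
      have e : x = z * k ^ i :=
        Subtype.ext (by simp only [Subgroup.coe_mul, Subgroup.coe_pow]
                        rw [show ((z : L) : G) = _ from hze]; simp [hkdef])
      rw [e, map_mul, map_pow]
      rw [show bar L z = 1 from bar_eq_one_iff.mpr (mem_centralizer_iff.mpr fun v hv =>
        (mem_centralizer_iff.mp (omegaCenterOf_le_centralizer _ hv) z ⟨z, hz, rfl⟩).symm), one_mul]
    have hKC : ∀ x : L, (x : G) ∈ K → bar L x = 1 := by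
      intro x hx
      have key : K ≤ ((⊥ : Subgroup (Gam L)).comap (bar L)).map L.subtype := by
        conv_lhs => rw [← hK.2.1]
        rw [commutator_le]
        intro y hy j hj
        refine ⟨⟨y, hKL hy⟩ * ⟨j, h.J_le hj⟩ * ⟨y, hKL hy⟩⁻¹ * ⟨j, h.J_le hj⟩⁻¹, ?_, rfl⟩
        obtain ⟨i, hi⟩ := hbar ⟨y, hKL hy⟩ hy
        have hc : bar L ⟨j, h.J_le hj⟩ ∈ centralizer ({bar L k} : Set (Gam L)) := by
          refine (Subgroup.closure_le _).mpr ?_ (h.bar_mem_closure_movers hj)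
          rintro _ ⟨b, hb, rfl⟩
          exact mem_centralizer_singleton_iff.mpr (hno b hb)
        have hc' : Commute (bar L k ^ i) (bar L ⟨j, h.J_le hj⟩) :=
          (Commute.pow_left (mem_centralizer_singleton_iff.mp hc).symm i)
        rw [SetLike.mem_coe, mem_comap, mem_bot, map_mul, map_mul, map_mul, map_inv, map_inv, hi,
          hc'.eq, mul_inv_cancel_right, mul_inv_cancel]
      obtain ⟨x', hx', e⟩ := key hx
      rw [← Subtype.ext (a1 := x') (a2 := x) e]
      exact mem_bot.mp hx'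
    have hKQ : K ≤ Cfsg.pCoreOf 2 L := by
      conv_lhs => rw [← hK.2.1]
      rw [commutator_le]
      intro y hy j hj
      exact h.commutator_mem ⟨hKL hy, bar_eq_one_iff.mp (hKC ⟨y, hKL hy⟩ hy)⟩
        (CfsgLib.PLocal.thompsonSubgroupOf_le 2 T hj)
    have h5 : zpowers k₀ = ⊥ := by
      refine CfsgLib.PLocal.eq_bot_of_isPGroup_of_coprime (p := 2)
        ((isPGroup_pCoreOf 2 L).to_le (zpowers_le.mpr (hKQ hk₀K))) ?_
      rw [Nat.card_zpowers, hk₀3]; decide
    have h6 := Nat.card_zpowers k₀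
    rw [h5, Subgroup.card_bot, hk₀3] at h6
    omega
  obtain ⟨A, hA, haA, hta⟩ := id ha
  have haN : (a : G) ∈ normalizer (K : Set G) :=
    IsThree.le_normalizer_J hK (CfsgLib.PLocal.le_thompsonSubgroupOf hA haA)
  obtain ⟨i, hi⟩ := hgen _ ((mem_normalizer_iff.mp haN k₀).mp hk₀K)
  have hqm : qm L (a * k * a⁻¹) = qm L k ^ i := by
    rw [← map_pow, ← mul_inv_eq_one, ← map_inv, ← map_mul, QuotientGroup.mk'_apply,
      QuotientGroup.eq_one_iff, ← mem_pCoreOf_iff]
    simpa using hOQ hi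
  have hbar : bar L a * bar L k * bar L a = bar L k ^ i := by
    have h1 := bar_eq_of_qm_eq (hqm.trans (map_pow (qm L) k i).symm)
    rwa [map_mul, map_mul, map_inv, map_pow, inv_eq_of_mul_eq_one_right hta.1] at h1
  have hu3 : bar L k ^ 3 = 1 := by rw [← map_pow, ← hk3, pow_orderOf_eq_one, map_one]
  have hu1 : bar L k ≠ 1 := fun e => hak (by rw [e, mul_one, one_mul])
  have hu : orderOf (bar L k) = 3 := orderOf_eq_prime hu3 hu1
  have hlt := Nat.mod_lt i (show 3 > 0 by norm_num)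
  have hi2 : i % 3 = 2 := by
    have hmod : bar L k ^ i = bar L k ^ (i % 3) := by rw [← hu, pow_mod_orderOf]
    interval_cases hr : i % 3
    · exfalso
      rw [hmod, pow_zero, mul_assoc, mul_eq_one_iff_eq_inv, mul_inv_rev,
        inv_eq_of_mul_eq_one_right hta.1] at hbar
      apply hu1
      rw [← inv_eq_one]
      have h2 : bar L k = (bar L a)⁻¹ * (bar L a)⁻¹ * ((bar L k)⁻¹)⁻¹ := by
        rw [inv_inv, ← mul_inv_rev, hta.1, inv_one, one_mul]
      have h3 := congrArg (· * bar L a) hbar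
      simp only [mul_assoc, hta.1] at h3
      rw [inv_eq_one]
      calc bar L k = bar L a * (bar L a * bar L k) := by rw [← mul_assoc, hta.1, one_mul]
        _ = bar L a * (bar L a * bar L k * bar L a) * bar L a := by
            simp only [mul_assoc, hta.1, mul_one]
        _ = 1 := by
            rw [show bar L a * bar L k * bar L a = 1 by
              rw [mul_assoc, mul_eq_one_iff_eq_inv, mul_inv_rev,
                inv_eq_of_mul_eq_one_right hta.1]; exact hbar, mul_one, hta.1]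
    · exfalso
      rw [hmod, pow_one] at hbar
      apply hak
      nth_rewrite 2 [← hbar]
      rw [mul_assoc _ _ (bar L a), hta.1, mul_one]
    · rfl
  have hinv : bar L a * bar L k * bar L a = (bar L k)⁻¹ := by
    rw [hbar, ← pow_mod_orderOf, hu, hi2, eq_comm]
    exact inv_eq_of_mul_eq_one_right (by rw [← pow_succ', hu3])
  obtain ⟨y, hy, hyinv⟩ := hst.exists_inverted hta
  have huy : bar L k ∈ zpowers y := by
    refine hy.mem_zpowers_of_commute hst hta hyinv ?_ (by rw [hu]; decide) hinv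
    exact le_centralizer_iff_isMulCommutative.mpr hst.isMulCommutative_blockGroup
      hy.mem_blockGroup _ (hRmem (x := k) hk₀K)
  have hblock : IsBlockElt (VOf L) (Cfsg.fittingSubgroup (Gam L)) (bar L k) := by
    rcases eq_or_eq_inv_of_mem_zpowers hy.order huy hu1 with e | e <;> rw [e]
    exacts [hy, hy.inv]
  have hp : IsPair L a k := by
    refine ⟨⟨1, by rw [pow_one, pow_two, ha.two]⟩, hta, hk3, hblock, ?_⟩
    have hq3 : qm L k ^ 3 = 1 := by rw [← map_pow, ← hk3, pow_orderOf_eq_one, map_one]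
    rw [hqm, eq_comm]
    refine inv_eq_of_mul_eq_one_right ?_
    rw [← pow_succ', ← Nat.div_add_mod (i + 1) 3, pow_add, pow_mul, hq3, one_pow, one_mul,
      show (i + 1) % 3 = 0 by omega, pow_zero]
  have hQK : Cfsg.pCoreOf 2 L ≤ normalizer (K : Set G) :=
    le_normalizer_of_isJComponent h.isPGroup hK (sup_le (hKL.trans (le_normalizer_pCoreOf 2 L))
      (h.J_le.trans (le_normalizer_pCoreOf 2 L))) h.Q_le_normalizer_J
  have hKle : K ≤ compK L k := by
    conv_lhs => rw [← hK.1]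
    refine closure_mono fun g hg => ⟨?_, hg.2⟩
    obtain ⟨j, hj⟩ := hgen g hg.1
    have e : g = g * (k₀ ^ j)⁻¹ * k₀ ^ j := by group
    rw [e]
    exact mul_mem (mem_sup_left (hOQ hj)) (mem_sup_right (pow_mem (mem_zpowers _) j))
  have hKeq : K = compK L k := by
    refine le_antisymm hKle (le_of_odd_generated hKle ?_ (oddGen_oddGen _)
      ((isPGroup_pCoreOf 2 L).to_le (inf_le_right : compK L k ⊓ _ ≤ _)) inf_le_left ?_)
    · exact (oddGen_le _).trans (sup_le hQK (zpowers_le.mpr (le_normalizer hk₀K)))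
    · intro x hx
      obtain ⟨q, hq, j, rfl⟩ := h.exists_eq_mul (oddGen_le _ hx)
      have hkj : (k : G) ^ j ∈ K := zpow_mem hk₀K j
      refine mul_mem (mem_sup_right ⟨?_, hq⟩) (mem_sup_left hkj)
      have : q = q * (k : G) ^ j * ((k : G) ^ j)⁻¹ := by rw [mul_inv_cancel_right]
      rw [this]
      exact (compK L k).mul_mem hx ((compK L k).inv_mem (hKle hkj))
  exact ⟨a, k, ha, hp, hKeq, hKeq ▸ (h.isJComponent_compK ha hp).2⟩

end Ctx

end CfsgLib.JComp
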