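import Cfsg.Agent.JComp.TypeTwo

/-!
Pairs with commuting four-groups: the conjugates around one vertex cannot commute at both vertices,
nor fail to commute at both; in the mixed case a central involution of `T` has centraliser outside `L₁`.
-/

set_option autoImplicit false

namespace CfsgLib.JComp

open Subgroup
open scoped IsMulCommutative

variable {G : Type*} [Group G] [Finite G] {T K₁ K₂ L₁ L₂ : Subgroup G}

namespace Two

/-- The set-up at a vertex: a generator `k`, the fixed point `w` and another element `c` of `W₂`. -/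
theorem exists_setup (q : Two T K₁ K₂ L₁ L₂) : ∃ k w c, k ∈ K₁ ∧ k ^ 3 = 1 ∧
    (∀ x ∈ K₁, ∃ i : ℕ, x * (k ^ i)⁻¹ ∈ Cfsg.pCoreOf 2 K₁) ∧
    (∀ v ∈ Cfsg.wOf K₁, k * v * k⁻¹ = v → v = 1) ∧
    w ∈ jZ T ⊓ Cfsg.wOf K₂ ∧ w ≠ 1 ∧ k * w * k⁻¹ = w ∧ c ∈ Cfsg.wOf K₂ ∧ c ∉ jZ T := by
  obtain ⟨S, k, d⟩ := exists_compData q.pair.one.ctx.isPGroup q.pair.one.comp
  obtain ⟨w, hw, hw1⟩ := q.pair.two.exists_w
  obtain ⟨c, hc, hcZ⟩ := q.pair.two.exists_v
  refine ⟨k, w, c, d.memk, d.pow_three, d.gen, d.fpf, hw, hw1, ?_, hc, hcZ⟩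
  rw [mem_centralizer_iff.mp (q.mem_cen hw).2 k (mem_sup_left d.memk), mul_inv_cancel_right]

/-- Conjugates of an element of `W₂` lie in `C_T(W₁)`. -/
theorem conj_mem_cw (q : Two T K₁ K₂ L₁ L₂) {a c : G} (ha : a ∈ K₁ ⊔ T) (hc : c ∈ Cfsg.wOf K₂) :
    a * c * a⁻¹ ∈ cw T K₁ :=
  (mem_normalizer_iff.mp (q.pair.one.sup_le_normalizer_cw q.pair.T_le_normalizer ha) c).mp
    ⟨q.pair.two.wOf_le_T hc, q.symm.comm hc⟩

/-- An element of `T` moving `W₁` inverts a generator of `K₁` modulo its core. -/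
theorem exists_conj_gen (q : Two T K₁ K₂ L₁ L₂) {k : G} (hk : k ∈ K₁) (hk3 : k ^ 3 = 1)
    (hgen : ∀ x ∈ K₁, ∃ i : ℕ, x * (k ^ i)⁻¹ ∈ Cfsg.pCoreOf 2 K₁)
    (hfpf : ∀ v ∈ Cfsg.wOf K₁, k * v * k⁻¹ = v → v = 1) {x : G} (hx : x ∈ T) (hxn : x ∉ cw T K₁) :
    ∃ q₀ ∈ Cfsg.pCoreOf 2 K₁, x * k * x⁻¹ = q₀ * k⁻¹ := by
  have hTK := q.pair.T_le_normalizer
  obtain ⟨w, hw, hw1⟩ := q.pair.one.exists_w
  obtain ⟨i, hi⟩ := hgen _ ((mem_normalizer_iff.mp (hTK hx) k).mp hk)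
  set q₀ := x * k * x⁻¹ * (k ^ i)⁻¹ with hq₀
  have e : x * k * x⁻¹ = q₀ * k ^ i := (inv_mul_cancel_right _ _).symm
  have hW : ∀ {y : G}, y ∈ Cfsg.wOf K₁ → q₀ * y * q₀⁻¹ = y := fun {y} hy => by
    rw [← mem_centralizer_iff.mp (q.pair.one.pCoreOf_le_cw hi).2 y hy, mul_inv_cancel_right]
  have hkW : ∀ {n : ℕ} {y : G}, y ∈ Cfsg.wOf K₁ → k ^ n * y * (k ^ n)⁻¹ ∈ Cfsg.wOf K₁ :=
    fun {n y} hy => (mem_normalizer_iff.mp
      (normalizer_le_normalizer_wOf K₁ (le_normalizer (pow_mem hk n))) y).mp hy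
  have hact : x * (k * w * k⁻¹) * x⁻¹ = k ^ i * w * (k ^ i)⁻¹ := by
    calc x * (k * w * k⁻¹) * x⁻¹ = (x * k * x⁻¹) * (x * w * x⁻¹) * (x * k * x⁻¹)⁻¹ := by group
      _ = q₀ * (k ^ i * w * (k ^ i)⁻¹) * q₀⁻¹ := by rw [q.pair.one.T_fix hTK hx hw, e]; group
      _ = _ := hW (hkW hw.2)
  have hmod : k ^ i = k ^ (i % 3) := by
    conv_lhs => rw [← Nat.mod_add_div i 3, pow_add, pow_mul, hk3, one_pow, mul_one]
  have hlt := Nat.mod_lt i (show 3 > 0 by norm_num)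
  have hkwZ : k * w * k⁻¹ ∉ jZ T := fun h => by
    have h' : k * w * k⁻¹ ∈ Cfsg.wOf K₁ := by simpa using hkW (n := 1) hw.2
    rcases eq_one_or_eq_of_card_two (card_jZ_inf_wOf q.pair.one.ctx.isPGroup q.pair.one.comp) hw hw1
      (show k * w * k⁻¹ ∈ jZ T ⊓ Cfsg.wOf K₁ from ⟨h, h'⟩) with f | f
    · exact hw1 (conj_eq_one_iff.mp f)
    · exact hw1 (hfpf w hw.2 f)
  refine ⟨q₀, hi, ?_⟩
  interval_cases hr : i % 3
  · exfalso
    rw [hmod, pow_zero, inv_one, mul_one, one_mul] at hact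
    apply hw1
    refine hfpf w hw.2 (mul_left_cancel (mul_right_cancel (hact.trans ?_)) : _ = w)
    exact (q.pair.one.T_fix hTK hx hw).symm
  · exfalso
    rw [hmod, pow_one] at hact
    exact hxn (q.pair.one.mem_cw_of_fix hTK hx (by simpa using hkW (n := 1) hw.2) hkwZ hact)
  · rw [e, hmod]
    congr 1
    rw [eq_comm]; exact inv_eq_of_mul_eq_one_right (by rw [← pow_succ', hk3])

/-- Both vertices cannot have non-commuting neighbours. -/
theorem false_of_nonabel (q : Two T K₁ K₂ L₁ L₂) (h₁ : ¬ Abel K₁ K₂) (h₂ : ¬ Abel K₂ K₁) : False := by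
  obtain ⟨k, w₂, c₀, hk, hk3, hgen, hfpf, hw₂, hw₂1, hkw₂, hc₀, hc₀Z⟩ := q.exists_setup
  obtain ⟨k', w₁, c, hk', hk'3, hgen', -, hw₁, hw₁1, hk'w₁, hc, hcZ⟩ := q.symm.exists_setup
  have hTK := q.pair.T_le_normalizer
  have hTK2 := q.pair.symm.T_le_normalizer
  set c₁ := k * c₀ * k⁻¹ with hc₁
  have hn₁ : c₀ * c₁ ≠ c₁ * c₀ := fun e => h₁ (q.abel_of_gen hk hk3 hgen hc₀ hc₀Z e)
  set x := k' * c * k'⁻¹ with hx
  have hn₂ : c * x ≠ x * c := fun e => h₂ (q.symm.abel_of_gen hk' hk'3 hgen' hc hcZ e)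
  have hxC₂ : x ∈ cw T K₂ := q.symm.conj_mem_cw (mem_sup_left hk') hc
  have hxn : x ∉ cw T K₁ := fun h => hn₂ (mem_centralizer_iff.mp h.2 c hc)
  have hc₁C : c₁ ∈ cw T K₁ := q.conj_mem_cw (mem_sup_left hk) hc₀
  have hc₀C : c₀ ∈ cw T K₁ := ⟨q.pair.two.wOf_le_T hc₀, q.symm.comm hc₀⟩
  have hcen₂ : ∀ t ∈ T, t * w₂ * t⁻¹ = w₂ := fun t ht => by
    rw [mem_centralizer_iff.mp (q.pair.jZ_le_centralizer hw₂.1) t ht, mul_inv_cancel_right]
  have hw₂w₂ : w₂ * w₂ = 1 := q.pair.two.comp.2.2.2.2.2 w₂ hw₂.2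
  have hm₀ : ∀ t ∈ T, t * c₀ * t⁻¹ = c₀ ∨ t * c₀ * t⁻¹ = c₀ * w₂ := fun t ht =>
    q.pair.two.conj_cases hTK2 ht hw₂ hw₂1 hc₀ hc₀Z
  have hm₁ : ∀ t ∈ cw T K₁, t * c₁ * t⁻¹ = c₁ ∨ t * c₁ * t⁻¹ = c₁ * w₂ := by
    intro t ht
    have ht' : k⁻¹ * t * k ∈ cw T K₁ := by
      have h := (mem_normalizer_iff.mp
        (q.pair.one.sup_le_normalizer_cw hTK (inv_mem (mem_sup_left hk))) t).mp ht
      rwa [inv_inv] at h
    have e : t * c₁ * t⁻¹ = k * ((k⁻¹ * t * k) * c₀ * (k⁻¹ * t * k)⁻¹) * k⁻¹ := by rw [hc₁]; group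
    rcases hm₀ _ ht'.1 with f | f
    · left; rw [e, f]
    · right; rw [e, f, hc₁]
      calc k * (c₀ * w₂) * k⁻¹ = k * c₀ * k⁻¹ * (k * w₂ * k⁻¹) := by group
        _ = _ := by rw [hkw₂]
  have h01 : c₀ * c₁ * c₀⁻¹ = c₁ * w₂ :=
    (hm₁ c₀ hc₀C).resolve_left fun f => hn₁ (mul_inv_eq_iff_eq_mul.mp f)
  -- `c₂`
  set c₂ := x * c₁ * x⁻¹ with hc₂
  obtain ⟨q₀, hq₀, hxk⟩ := q.exists_conj_gen hk hk3 hgen hfpf hxC₂.1 hxn
  have hxc₀ : x * c₀ * x⁻¹ = c₀ := by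
    rw [← mem_centralizer_iff.mp hxC₂.2 c₀ hc₀, mul_inv_cancel_right]
  have hc₂e : c₂ = q₀ * (k⁻¹ * c₀ * k) * q₀⁻¹ := by
    calc c₂ = (x * k * x⁻¹) * (x * c₀ * x⁻¹) * (x * k * x⁻¹)⁻¹ := by rw [hc₂, hc₁]; group
      _ = _ := by rw [hxk, hxc₀]; group
  have hkk : k⁻¹ = k * k := inv_eq_of_mul_eq_one_right (by rw [← mul_assoc, ← pow_three', hk3])
  have hd₂ : k⁻¹ * c₀ * k = k * c₁ * k⁻¹ := by
    calc k⁻¹ * c₀ * k = (k * k) * c₀ * (k * k)⁻¹ := by rw [← hkk, inv_inv]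
      _ = _ := by rw [hc₁]; group
  have hd₂m : ∀ t ∈ cw T K₁,
      t * (k⁻¹ * c₀ * k) * t⁻¹ = k⁻¹ * c₀ * k ∨ t * (k⁻¹ * c₀ * k) * t⁻¹ = k⁻¹ * c₀ * k * w₂ := by
    intro t ht
    have ht' : k * t * k⁻¹ ∈ cw T K₁ :=
      (mem_normalizer_iff.mp (q.pair.one.sup_le_normalizer_cw hTK (mem_sup_left hk)) t).mp ht
    have e : t * (k⁻¹ * c₀ * k) * t⁻¹ = k⁻¹ * ((k * t * k⁻¹) * c₀ * (k * t * k⁻¹)⁻¹) * k := by group
    have hkw' : k⁻¹ * w₂ * k = w₂ := by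
      calc k⁻¹ * w₂ * k = k⁻¹ * (k * w₂ * k⁻¹) * k := by rw [hkw₂]
        _ = w₂ := by group
    rcases hm₀ _ ht'.1 with f | f
    · left; rw [e, f]
    · right; rw [e, f]
      calc k⁻¹ * (c₀ * w₂) * k = k⁻¹ * c₀ * k * (k⁻¹ * w₂ * k) := by group
        _ = _ := by rw [hkw']
  have hc₂C : c₂ ∈ cw T K₁ :=
    (mem_normalizer_iff.mp (q.pair.one.sup_le_normalizer_cw hTK (mem_sup_right hxC₂.1)) c₁).mp hc₁C
  -- `c₂` moves `c₁`
  have h21 : c₂ * c₁ * c₂⁻¹ = c₁ * w₂ := by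
    refine (hm₁ c₂ hc₂C).resolve_left fun f => hn₁ ?_
    have hcomm : c₂ * c₁ = c₁ * c₂ := mul_inv_eq_iff_eq_mul.mp f
    have hc : k⁻¹ * c₀ * k * c₁ = c₁ * (k⁻¹ * c₀ * k) := by
      have hw₂c : w₂ * c₁ = c₁ * w₂ :=
        (mem_centralizer_iff.mp (q.pair.jZ_le_centralizer hw₂.1) c₁ hc₁C.1).symm
      rcases hd₂m q₀ (q.pair.one.pCoreOf_le_cw hq₀) with g | g <;> rw [← hc₂e] at g
      · rwa [g] at hcomm
      · rw [g] at hcomm
        refine mul_right_cancel (b := w₂) ?_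
        calc k⁻¹ * c₀ * k * c₁ * w₂ = k⁻¹ * c₀ * k * (w₂ * c₁) := by rw [hw₂c]; group
          _ = (k⁻¹ * c₀ * k * w₂) * c₁ := by group
          _ = c₁ * (k⁻¹ * c₀ * k * w₂) := hcomm
          _ = _ := by group
    rw [hd₂] at hc
    calc c₀ * c₁ = k⁻¹ * (c₁ * (k * c₁ * k⁻¹)) * k := by rw [hc₁]; group
      _ = k⁻¹ * (k * c₁ * k⁻¹ * c₁) * k := by rw [hc]
      _ = c₁ * c₀ := by rw [hc₁]; group
  have hwc : ∀ {t : G}, t ∈ T → w₂ * t = t * w₂ := fun {t} ht =>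
    (mem_centralizer_iff.mp (q.pair.jZ_le_centralizer hw₂.1) t ht).symm
  have h02 : c₀ * c₂ * c₀⁻¹ = c₂ * w₂ := by
    have hxc : x * c₀ = c₀ * x := mul_inv_eq_iff_eq_mul.mp hxc₀
    calc c₀ * c₂ * c₀⁻¹ = (c₀ * x) * c₁ * (c₀ * x)⁻¹ := by rw [hc₂]; group
      _ = x * (c₀ * c₁ * c₀⁻¹) * x⁻¹ := by rw [← hxc]; group
      _ = (x * c₁ * x⁻¹) * (x * w₂ * x⁻¹) := by rw [h01]; group
      _ = _ := by rw [hcen₂ x hxC₂.1, hc₂]
  set s := c₀ * c₁ * c₂ with hs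
  have hsT : s ∈ T := mul_mem (mul_mem hc₀C.1 hc₁C.1) hc₂C.1
  have hsC₂ : s ∈ cw T K₂ := by
    refine q.pair.two.mem_cw_of_fix hTK2 hsT hc₀ hc₀Z ?_
    have e : c₀ * s * c₀⁻¹ = s := by
      calc c₀ * s * c₀⁻¹ = c₀ * (c₀ * c₁ * c₀⁻¹) * (c₀ * c₂ * c₀⁻¹) := by rw [hs]; group
        _ = c₀ * c₁ * (w₂ * c₂) * w₂ := by rw [h01, h02]; group
        _ = s := by rw [hwc hc₂C.1, hs, mul_assoc, mul_assoc c₂ w₂ w₂, hw₂w₂, mul_one]
    have e' : c₀ * s = s * c₀ := mul_inv_eq_iff_eq_mul.mp e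
    rw [← e', mul_inv_cancel_right]
  have hxx : x * x = 1 := by
    calc x * x = k' * (c * c) * k'⁻¹ := by rw [hx]; group
      _ = 1 := by rw [q.pair.one.comp.2.2.2.2.2 c hc]; group
  have hxs : x * s * x⁻¹ = s * w₂ := by
    calc x * s * x⁻¹ = (x * c₀ * x⁻¹) * (x * c₁ * x⁻¹) * ((x * x) * c₁ * (x * x)⁻¹) := by
          rw [hs, hc₂]; group
      _ = c₀ * (c₂ * c₁ * c₂⁻¹) * c₂ := by rw [hxx, hxc₀, ← hc₂]; group
      _ = c₀ * c₁ * (w₂ * c₂) := by rw [h21]; group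
      _ = s * w₂ := by rw [hwc hc₂C.1, hs]; group
  have hw₁2 : w₁ * w₁ = 1 := q.pair.one.comp.2.2.2.2.2 w₁ hw₁.2
  have hsk : k'⁻¹ * s * k' ∈ T := by
    have h := (mem_normalizer_iff.mp
      (q.pair.two.sup_le_normalizer_cw hTK2 (inv_mem (mem_sup_left hk'))) s).mp hsC₂
    rw [inv_inv] at h
    exact h.1
  have hxm : s * x * s⁻¹ = x ∨ s * x * s⁻¹ = x * w₁ := by
    have e : s * x * s⁻¹ = k' * ((k'⁻¹ * s * k') * c * (k'⁻¹ * s * k')⁻¹) * k'⁻¹ := by rw [hx]; group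
    rcases q.pair.one.conj_cases hTK hsk hw₁ hw₁1 hc hcZ with f | f
    · left; rw [e, f]
    · right; rw [e, f, hx]
      calc k' * (c * w₁) * k'⁻¹ = k' * c * k'⁻¹ * (k' * w₁ * k'⁻¹) := by group
        _ = _ := by rw [hk'w₁]
  have hcomm : x * s * x⁻¹ * s⁻¹ = w₂ := by
    rw [hxs, ← hwc hsT, mul_inv_cancel_right]
  rcases hxm with f | f
  · apply hw₂1
    rw [← hcomm, mul_inv_eq_iff_eq_mul.mp f |>.symm]
    group
  · apply (q.ne_fixed hw₁ hw₁1 hw₂)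
    have hw₁x : x * w₁ = w₁ * x := mem_centralizer_iff.mp (q.pair.jZ_le_centralizer hw₁.1) x hxC₂.1
    calc w₁ = x * w₁⁻¹ * x⁻¹ := by rw [inv_eq_of_mul_eq_one_right hw₁2, hw₁x, mul_inv_cancel_right]
      _ = x * (s * x * s⁻¹)⁻¹ := by rw [f]; group
      _ = x * s * x⁻¹ * s⁻¹ := by group
      _ = w₂ := hcomm

/-- In the mixed case `C(w₁ w₂) ≰ L₁`. -/
theorem centralizer_not_le (q : Two T K₁ K₂ L₁ L₂) (h₁ : ¬ Abel K₁ K₂) (h₂ : Abel K₂ K₁)
    {w₁ w₂ : G} (hw₁ : w₁ ∈ jZ T ⊓ Cfsg.wOf K₁) (hw₁1 : w₁ ≠ 1)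
    (hw₂ : w₂ ∈ jZ T ⊓ Cfsg.wOf K₂) (hw₂1 : w₂ ≠ 1) :
    ¬ centralizer ({w₁ * w₂} : Set G) ≤ L₁ := by
  intro hle
  obtain ⟨k, w₂', c₀, hk, hk3, hgen, hfpf, hw₂', hw₂'1, hkw₂, hc₀, hc₀Z⟩ := q.exists_setup
  obtain rfl : w₂' = w₂ := (eq_one_or_eq_of_card_two
    (card_jZ_inf_wOf q.pair.two.ctx.isPGroup q.pair.two.comp) hw₂ hw₂1 hw₂').resolve_left hw₂'1
  obtain ⟨k', w₁', c, hk', hk'3, hgen', hfpf', hw₁', hw₁'1, hk'w₁, hc, hcZ⟩ := q.symm.exists_setup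
  obtain rfl : w₁' = w₁ := (eq_one_or_eq_of_card_two
    (card_jZ_inf_wOf q.pair.one.ctx.isPGroup q.pair.one.comp) hw₁ hw₁1 hw₁').resolve_left hw₁'1
  have hTK := q.pair.T_le_normalizer
  have hTK2 := q.pair.symm.T_le_normalizer
  set x := k' * c * k'⁻¹ with hx
  set y := k'⁻¹ * c * k' with hy
  have hxC₂ : x ∈ cw T K₂ := q.symm.conj_mem_cw (mem_sup_left hk') hc
  have hw₁2 : w₁' * w₁' = 1 := q.pair.one.comp.2.2.2.2.2 w₁' hw₁.2
  have hw₂2 : w₂' * w₂' = 1 := q.pair.two.comp.2.2.2.2.2 w₂' hw₂.2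
  have hxcen : x * c = c * x := (h₂ k' hk' c hc c hc).symm
  have hxC₁ : x ∈ cw T K₁ := q.pair.one.mem_cw_of_fix hTK hxC₂.1 hc hcZ
    (mul_inv_eq_iff_eq_mul.mpr hxcen)
  set t := k * c₀ * k⁻¹ with ht
  have htC₁ : t ∈ cw T K₁ := q.conj_mem_cw (mem_sup_left hk) hc₀
  have htn : t ∉ cw T K₂ := fun h => h₁ (q.abel_of_gen hk hk3 hgen hc₀ hc₀Z
    (mem_centralizer_iff.mp h.2 c₀ hc₀))
  have htc : t * c * t⁻¹ = c := by
    rw [← mem_centralizer_iff.mp htC₁.2 c hc, mul_inv_cancel_right]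
  have hwc : ∀ {g : G}, g ∈ T → w₂' * g = g * w₂' := fun {g} hg =>
    (mem_centralizer_iff.mp (q.pair.jZ_le_centralizer hw₂.1) g hg).symm
  have hwc₁ : ∀ {g : G}, g ∈ T → w₁' * g = g * w₁' := fun {g} hg =>
    (mem_centralizer_iff.mp (q.pair.jZ_le_centralizer hw₁.1) g hg).symm
  -- `t x t⁻¹ ∈ {x, x w₂}`
  have htx : t * x * t⁻¹ = x ∨ t * x * t⁻¹ = x * w₂' := by
    have hxt' : k⁻¹ * x * k ∈ T := by
      have h := (mem_normalizer_iff.mp
        (q.pair.one.sup_le_normalizer_cw hTK (inv_mem (mem_sup_left hk))) x).mp hxC₁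
      rw [inv_inv] at h
      exact h.1
    have e : x * t * x⁻¹ = k * ((k⁻¹ * x * k) * c₀ * (k⁻¹ * x * k)⁻¹) * k⁻¹ := by rw [ht]; group
    rcases q.pair.two.conj_cases hTK2 hxt' hw₂ hw₂1 hc₀ hc₀Z with f | f
    · left
      have h : x * t * x⁻¹ = t := by rw [e, f]
      rw [← mul_inv_eq_iff_eq_mul.mp h, mul_inv_cancel_right]
    · right
      have h : x * t * x⁻¹ = t * w₂' := by
        rw [e, f, ht]
        calc k * (c₀ * w₂') * k⁻¹ = k * c₀ * k⁻¹ * (k * w₂' * k⁻¹) := by group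
          _ = _ := by rw [hkw₂]
      have h' : x * t = t * w₂' * x := mul_inv_eq_iff_eq_mul.mp h
      rw [mul_inv_eq_iff_eq_mul]
      calc t * x = t * x * (w₂' * w₂') := by rw [hw₂2, mul_one]
        _ = t * (x * w₂') * w₂' := by group
        _ = (t * w₂' * x) * w₂' := by rw [← hwc hxC₁.1]; group
        _ = x * t * w₂' := by rw [h']
        _ = x * w₂' * t := by rw [mul_assoc x w₂' t, hwc htC₁.1, mul_assoc]
  -- `t x t⁻¹ ∈ {y, y w₁}`
  obtain ⟨q₀, hq₀, htk⟩ := q.symm.exists_conj_gen hk' hk'3 hgen' hfpf' htC₁.1 htn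
  have hty : t * x * t⁻¹ = y ∨ t * x * t⁻¹ = y * w₁' := by
    have e : t * x * t⁻¹ = q₀ * y * q₀⁻¹ := by
      calc t * x * t⁻¹ = (t * k' * t⁻¹) * (t * c * t⁻¹) * (t * k' * t⁻¹)⁻¹ := by rw [hx]; group
        _ = _ := by rw [htk, htc, hy]; group
    have hq' : k' * q₀ * k'⁻¹ ∈ T :=
      ((mem_normalizer_iff.mp (q.pair.two.sup_le_normalizer_cw hTK2 (mem_sup_left hk')) q₀).mp
        (q.pair.two.pCoreOf_le_cw hq₀)).1
    have e' : q₀ * y * q₀⁻¹ = k'⁻¹ * ((k' * q₀ * k'⁻¹) * c * (k' * q₀ * k'⁻¹)⁻¹) * k' := by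
      rw [hy]; group
    rcases q.pair.one.conj_cases hTK hq' hw₁ hw₁1 hc hcZ with f | f
    · left; rw [e, e', f, hy]
    · right; rw [e, e', f, hy]
      calc k'⁻¹ * (c * w₁') * k' = k'⁻¹ * c * k' * (k'⁻¹ * (k' * w₁' * k'⁻¹) * k') := by
            rw [hk'w₁]; group
        _ = _ := by group
  have hk'n : k' ∉ L₁ := by
    intro hk'L
    apply q.pair.not_le
    intro a ha
    obtain ⟨i, hi⟩ := hgen' a ha
    have h := mul_mem (q.pair.one.ctx.le (q.pair.two.pCoreOf_le_T hi)) (pow_mem hk'L i)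
    rwa [inv_mul_cancel_right] at h
  have hkk : k'⁻¹ = k' * k' := inv_eq_of_mul_eq_one_right (by rw [← mul_assoc, ← pow_three', hk'3])
  have hkyc : k' * y * k'⁻¹ = c := by rw [hy]; group
  have hkxy : k' * x * k'⁻¹ = y := by
    rw [hy, hx]
    calc k' * (k' * c * k'⁻¹) * k'⁻¹ = (k' * k') * c * (k' * k')⁻¹ := by group
      _ = k'⁻¹ * c * k' := by rw [← hkk, inv_inv]
  -- `y = x e` with `e ∈ {1, w₁}` or `e ∈ {w₂, w₂ w₁}`
  obtain ⟨e₁, he₁, hye⟩ : ∃ e₁, (e₁ = 1 ∨ e₁ = w₁') ∧ (y = x * e₁ ∨ y = x * w₂' * e₁) := by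
    rcases htx with f | f <;> rcases hty with g | g
    · exact ⟨1, Or.inl rfl, Or.inl (by rw [mul_one, ← g, f])⟩
    · refine ⟨w₁', Or.inr rfl, Or.inl ?_⟩
      rw [← f, g, mul_assoc, hw₁2, mul_one]
    · exact ⟨1, Or.inl rfl, Or.inr (by rw [mul_one, ← g, f])⟩
    · refine ⟨w₁', Or.inr rfl, Or.inr ?_⟩
      rw [← f, g, mul_assoc, hw₁2, mul_one]
  have hke : k' * e₁ * k'⁻¹ = e₁ := by
    rcases he₁ with rfl | rfl
    · group
    · exact hk'w₁
  rcases hye with hye | hye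
  · -- then `k'` normalises `W₁`
    have h1 : c = y * e₁ := by
      rw [← hkyc]; nth_rewrite 1 [hye]
      calc k' * (x * e₁) * k'⁻¹ = (k' * x * k'⁻¹) * (k' * e₁ * k'⁻¹) := by group
        _ = _ := by rw [hkxy, hke]
    apply hk'n
    have hyW : y ∈ Cfsg.wOf K₁ := by
      have : y = c * e₁⁻¹ := by rw [h1, mul_inv_cancel_right]
      rw [this]
      refine mul_mem hc (inv_mem ?_)
      rcases he₁ with rfl | rfl
      · exact one_mem _
      · exact hw₁.2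
    refine inv_mem_iff.mp (q.pair.one.normalizer_wOf_le ?_)
    refine mem_normalizer_iff_map_conj_eq.mpr (Subgroup.eq_of_le_of_card_ge ?_
      (card_map_of_injective (f := (MulAut.conj k'⁻¹).toMonoidHom) (MulAut.conj k'⁻¹).injective).ge)
    rintro _ ⟨u, hu, rfl⟩
    have hw1' : k'⁻¹ * w₁' * k' = w₁' := by
      calc k'⁻¹ * w₁' * k' = k'⁻¹ * (k' * w₁' * k'⁻¹) * k' := by rw [hk'w₁]
        _ = w₁' := by group
    show k'⁻¹ * u * k'⁻¹⁻¹ ∈ Cfsg.wOf K₁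
    rw [inv_inv]
    rcases q.pair.one.wOf_cases hw₁ hw₁1 hc hcZ hu with g | g | g | g <;> rw [g]
    · simp
    · rw [hw1']; exact hw₁.2
    · exact hyW
    · rw [show k'⁻¹ * (c * w₁') * k' = (k'⁻¹ * c * k') * (k'⁻¹ * w₁' * k') by group, hw1']
      exact mul_mem hyW hw₁.2
  · -- then `k'` fixes `f = c w₂`
    set u := k' * w₂' * k'⁻¹ with hu
    set v := k'⁻¹ * w₂' * k' with hv
    have hW2u : u ∈ Cfsg.wOf K₂ :=
      (mem_normalizer_iff.mp (normalizer_le_normalizer_wOf K₂ (le_normalizer hk')) w₂').mp hw₂.2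
    have hW2v : v ∈ Cfsg.wOf K₂ := by
      simpa [hv] using (mem_normalizer_iff.mp
        (normalizer_le_normalizer_wOf K₂ (le_normalizer (inv_mem hk'))) w₂').mp hw₂.2
    have hcm : ∀ a ∈ Cfsg.wOf K₂, ∀ b ∈ Cfsg.wOf K₂, a * b = b * a := by
      obtain ⟨S, k₂, d⟩ := exists_compData q.pair.two.ctx.isPGroup q.pair.two.comp
      exact fun a ha b hb => le_centralizer_iff_isMulCommutative.mpr d.wOf_elem.1 hb a ha
    have hvu : v * u = w₂' := by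
      have hfix : w₂' * u * v = 1 := by
        refine hfpf' _ (mul_mem (mul_mem hw₂.2 hW2u) hW2v) ?_
        calc k' * (w₂' * u * v) * k'⁻¹ = u * ((k' * k') * w₂' * (k' * k')⁻¹) * (k' * v * k'⁻¹) := by
              rw [hu]; group
          _ = u * v * w₂' := by rw [← hkk, hv]; group
          _ = _ := by
            rw [hcm _ (mul_mem hW2u hW2v) _ hw₂.2, ← mul_assoc]
      rw [hcm _ hW2v _ hW2u]
      have := eq_inv_of_mul_eq_one_right (show w₂' * (u * v) = 1 by rw [← mul_assoc]; exact hfix)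
      rw [this, inv_eq_of_mul_eq_one_right hw₂2]
    -- `c = y u e₁` and `x = c v e₁`
    have h1 : c = y * u * e₁ := by
      rw [← hkyc]; nth_rewrite 1 [hye]
      calc k' * (x * w₂' * e₁) * k'⁻¹ =
          (k' * x * k'⁻¹) * (k' * w₂' * k'⁻¹) * (k' * e₁ * k'⁻¹) := by group
        _ = _ := by rw [hkxy, hke]
    have hku : k' * u * k'⁻¹ = v := by
      rw [hu, hv]
      calc k' * (k' * w₂' * k'⁻¹) * k'⁻¹ = (k' * k') * w₂' * (k' * k')⁻¹ := by group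
        _ = _ := by rw [← hkk, inv_inv]
    have h2 : x = c * v * e₁ := by
      rw [hx]; nth_rewrite 1 [h1]
      calc k' * (y * u * e₁) * k'⁻¹ = (k' * y * k'⁻¹) * (k' * u * k'⁻¹) * (k' * e₁ * k'⁻¹) := by group
        _ = _ := by rw [hkyc, hku, hke]
    set f := c * w₂' with hf
    have hkf : k' * f * k'⁻¹ = f * e₁ := by
      have heu : e₁ * u = u * e₁ := by
        rcases he₁ with rfl | rfl
        · simp
        · exact hwc₁ (q.pair.two.wOf_le_T hW2u)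
      calc k' * f * k'⁻¹ = (k' * c * k'⁻¹) * u := by rw [hf, hu]; group
        _ = c * v * e₁ * u := by rw [← hx, h2]
        _ = c * (v * u) * e₁ := by rw [mul_assoc (c * v), heu]; group
        _ = f * e₁ := by rw [hvu, hf]
    have he1 : e₁ = 1 := by
      have hee : e₁ * e₁ = 1 := by
        rcases he₁ with rfl | rfl
        · simp
        · exact hw₁2
      have h3 : k' ^ 3 * f * (k' ^ 3)⁻¹ = f * e₁ := by
        have hA : k' * (f * e₁) * k'⁻¹ = (k' * f * k'⁻¹) * (k' * e₁ * k'⁻¹) := by group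
        calc k' ^ 3 * f * (k' ^ 3)⁻¹ = k' * (k' * (k' * f * k'⁻¹) * k'⁻¹) * k'⁻¹ := by
              simp only [pow_succ, pow_zero, one_mul, mul_inv_rev, mul_assoc]
          _ = k' * (f * e₁ * e₁) * k'⁻¹ := by rw [hkf, hA, hkf, hke]
          _ = k' * f * k'⁻¹ := by rw [mul_assoc f, hee, mul_one]
          _ = f * e₁ := hkf
      rw [hk'3, one_mul, inv_one, mul_one] at h3
      exact mul_eq_left.mp h3.symm
    rw [he1, mul_one] at hkf
    -- transport to `w₁ w₂`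
    obtain ⟨S, kk, d⟩ := exists_compData q.pair.one.ctx.isPGroup q.pair.one.comp
    obtain ⟨i, hi⟩ := q.pair.one.exists_conj_eq d.memk d.pow_three d.fpf hw₁.2 hw₁1 hc
      (fun e => hcZ (e ▸ one_mem _))
    have hgw : kk ^ i * w₂' * (kk ^ i)⁻¹ = w₂' := by
      rw [mem_centralizer_iff.mp (q.mem_cen hw₂).2 _ (mem_sup_left (pow_mem d.memk i)),
        mul_inv_cancel_right]
    have hfc : f = kk ^ i * (w₁' * w₂') * (kk ^ i)⁻¹ := by
      calc f = (kk ^ i * w₁' * (kk ^ i)⁻¹) * (kk ^ i * w₂' * (kk ^ i)⁻¹) := by rw [hgw, ← hi, hf]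
        _ = _ := by group
    have hmem : (kk ^ i)⁻¹ * k' * kk ^ i ∈ L₁ := by
      refine hle (mem_centralizer_singleton_iff.mpr (mul_inv_eq_iff_eq_mul.mp ?_))
      calc (kk ^ i)⁻¹ * k' * kk ^ i * (w₁' * w₂') * ((kk ^ i)⁻¹ * k' * kk ^ i)⁻¹
          = (kk ^ i)⁻¹ * (k' * (kk ^ i * (w₁' * w₂') * (kk ^ i)⁻¹) * k'⁻¹) * kk ^ i := by group
        _ = (kk ^ i)⁻¹ * f * kk ^ i := by rw [← hfc, hkf]
        _ = w₁' * w₂' := by rw [hfc]; group
    have hkkL : kk ^ i ∈ L₁ := pow_mem (q.pair.one.K_le d.memk) i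
    apply hk'n
    have h := mul_mem (mul_mem hkkL hmem) (inv_mem hkkL)
    simpa [mul_assoc] using h

end Two

/-- An edge of the graph of conjugates. -/
def Edge (T a b : Subgroup G) : Prop :=
  ∃ g : G, ∃ La Lb, Two (T.map (MulAut.conj g).toMonoidHom) a b La Lb ∧ Abel a b ∧ Abel b a

/-- Walks of given length. -/
def Walk (T : Subgroup G) : ℕ → Subgroup G → Subgroup G → Prop
  | 0, a, b => a = b
  | n + 1, a, b => ∃ c, Edge T a c ∧ Walk T n c b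

theorem Edge.symm {a b : Subgroup G} (h : Edge T a b) : Edge T b a := by
  obtain ⟨g, La, Lb, q, h1, h2⟩ := h
  exact ⟨g, Lb, La, q.symm, h2, h1⟩

theorem Edge.map {a b : Subgroup G} (h : Edge T a b) (x : G) :
    Edge T (a.map (MulAut.conj x).toMonoidHom) (b.map (MulAut.conj x).toMonoidHom) := by
  obtain ⟨g, La, Lb, q, h1, h2⟩ := h
  refine ⟨x * g, La.map (MulAut.conj x).toMonoidHom, Lb.map (MulAut.conj x).toMonoidHom, ?_,
    h1.map x, h2.map x⟩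
  rw [map_conj_mul]
  exact q.map x

omit [Finite G] in
theorem Walk.append [Finite G] : ∀ {n m : ℕ} {a b c : Subgroup G},
    Walk T n a b → Walk T m b c → Walk T (n + m) a c
  | 0, m, a, b, c, h1, h2 => by
    have e : a = b := h1
    rw [Nat.zero_add, e]; exact h2
  | n + 1, m, a, b, c, h1, h2 => by
    obtain ⟨d, hd, hd'⟩ := h1
    rw [Nat.add_right_comm]
    exact ⟨d, hd, Walk.append hd' h2⟩

theorem Walk.reverse : ∀ {n : ℕ} {a b : Subgroup G}, Walk T n a b → ∃ m, Walk T m b a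
  | 0, a, b, h => ⟨0, (show a = b from h).symm⟩
  | n + 1, a, b, h => by
    obtain ⟨c, hc, hc'⟩ := h
    obtain ⟨m, hm⟩ := Walk.reverse hc'
    exact ⟨m + 1, hm.append ⟨a, hc.symm, rfl⟩⟩

theorem Walk.map : ∀ {n : ℕ} {a b : Subgroup G}, Walk T n a b → ∀ x : G,
    Walk T n (a.map (MulAut.conj x).toMonoidHom) (b.map (MulAut.conj x).toMonoidHom)
  | 0, a, b, h, x => congrArg (Subgroup.map (MulAut.conj x).toMonoidHom) (show a = b from h)
  | n + 1, a, b, h, x => by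
    obtain ⟨c, hc, hc'⟩ := h
    exact ⟨_, hc.map x, Walk.map hc' x⟩

theorem Walk.last : ∀ {n : ℕ} {a b : Subgroup G}, Walk T (n + 1) a b →
    ∃ c, Walk T n a c ∧ Edge T c b
  | 0, a, b, h => by
    obtain ⟨c, hc, hc'⟩ := h
    have e : c = b := hc'
    exact ⟨a, rfl, e ▸ hc⟩
  | n + 1, a, b, h => by
    obtain ⟨c, hc, hc'⟩ := h
    obtain ⟨d, hd, hd'⟩ := Walk.last hc'
    exact ⟨d, ⟨c, hc, hd⟩, hd'⟩

/-- The neighbours of a vertex commute. -/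
theorem Edge.commute {a b b' : Subgroup G} (h : Edge T a b) (h' : Edge T a b') :
    ∀ x ∈ Cfsg.wOf b, ∀ y ∈ Cfsg.wOf b', x * y = y * x := by
  obtain ⟨g, La, Lb, q, h1, -⟩ := h
  obtain ⟨g', La', Lb', q', -, -⟩ := h'
  obtain ⟨c, hc, e⟩ := q.neighbour q' (g := g' * g⁻¹) (by rw [← map_conj_mul, inv_mul_cancel_right])
  intro x hx y hy
  rw [e, ← map_wOf] at hy
  obtain ⟨y, hy', rfl⟩ := hy
  exact h1 c hc x hx y hy'

/-- The four-groups of the vertices of a walk commute. -/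
theorem Walk.commute (hT : IsPGroup 2 T) : ∀ (n : ℕ) {a b : Subgroup G}, Walk T n a b →
    (∀ c, Edge T a c → ∀ x ∈ Cfsg.wOf a, ∀ y ∈ Cfsg.wOf b, x * y = y * x)
  | 0, a, b, h, c, hac => by
    obtain rfl : a = b := h
    obtain ⟨g, La, Lb, q, -, -⟩ := hac
    obtain ⟨S, k, d⟩ := exists_compData q.pair.one.ctx.isPGroup q.pair.one.comp
    exact fun x hx y hy => le_centralizer_iff_isMulCommutative.mpr d.wOf_elem.1 hy x hx
  | 1, a, b, h, c, hac => by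
    obtain ⟨b', hab, e⟩ := h
    have e' : b' = b := e
    subst e'
    obtain ⟨g, La, Lb, q, -, -⟩ := hab
    exact fun x hx y hy => (mem_centralizer_iff.mp (q.comm hx) y hy).symm
  | n + 2, a, b, h, c, hac => by
    obtain ⟨b', hwb', hb'⟩ := Walk.last h
    obtain ⟨a₁, ha₁, hwa₁⟩ := h
    have hcb' := Walk.commute hT (n + 1) hwb' c hac
    have hca₁ := Walk.commute hT (n + 1) hwa₁ a ha₁.symm
    intro x hx y hy
    by_contra hne
    obtain ⟨g, La, Lb, q, -, -⟩ := id ha₁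
    obtain ⟨g', La', Lb', q', -, -⟩ := id hb'
    obtain ⟨wa, hwa, hwa1⟩ := q.pair.one.exists_w
    obtain ⟨wb, hwb, hwb1⟩ := q'.pair.two.exists_w
    have hxC : x ∈ cw (T.map (MulAut.conj g').toMonoidHom) b' := q'.mem_cw_of_involution
      (q.pair.one.comp.2.2.2.2.2 x hx) (mem_centralizer_iff.mpr fun u hu => (hcb' x hx u hu).symm)
    have hyC : y ∈ cw (T.map (MulAut.conj g).toMonoidHom) a₁ := q.symm.mem_cw_of_involution
      (q'.pair.two.comp.2.2.2.2.2 y hy) (mem_centralizer_iff.mpr fun u hu => hca₁ u hu y hy)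
    have hyZ : y ∉ jZ (T.map (MulAut.conj g').toMonoidHom) := fun hy' => hne
      (mem_centralizer_iff.mp (q'.pair.jZ_le_centralizer hy') x hxC.1)
    have hxZ : x ∉ jZ (T.map (MulAut.conj g).toMonoidHom) := fun hx' => hne
      (mem_centralizer_iff.mp (q.pair.jZ_le_centralizer hx') y hyC.1).symm
    have e1 := (q'.pair.two.conj_cases q'.pair.symm.T_le_normalizer hxC.1 hwb hwb1 hy hyZ).resolve_left
      fun f => hne (mul_inv_eq_iff_eq_mul.mp f)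
    have e2 := (q.pair.one.conj_cases q.pair.T_le_normalizer hyC.1 hwa hwa1 hx hxZ).resolve_left
      fun f => hne (mul_inv_eq_iff_eq_mul.mp f).symm
    have hz : wa = wb := by
      have hxwa : x * wa = wa * x := mem_centralizer_iff.mp (q.pair.jZ_le_centralizer hwa.1) x
        (q.pair.one.wOf_le_T hx)
      have hywb : y * wb = wb * y := mem_centralizer_iff.mp (q'.pair.jZ_le_centralizer hwb.1) y
        (q'.pair.two.wOf_le_T hy)
      calc wa = x * wa⁻¹ * x⁻¹ := by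
            rw [inv_eq_of_mul_eq_one_right (q.pair.one.comp.2.2.2.2.2 wa hwa.2), hxwa,
              mul_inv_cancel_right]
        _ = x * (y * x * y⁻¹)⁻¹ := by rw [e2]; group
        _ = (x * y * x⁻¹) * y⁻¹ := by group
        _ = wb := by rw [e1, hywb, mul_inv_cancel_right]
    have hwac := (q.symm.mem_cen hwa).2
    have hwbc := (q'.mem_cen hwb).2
    have hle : b' ⊔ Cfsg.thompsonSubgroupOf 2 (T.map (MulAut.conj g').toMonoidHom) ≤ Lb :=
      le_trans (fun z hz' => mem_centralizer_singleton_iff.mpr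
        (mem_centralizer_iff.mp hwbc z hz'))
        (hz ▸ q.pair.two.above.centralizer_le hwa1 (q.pair.one.comp.2.2.2.2.2 wa hwa.2) hwac)
    obtain ⟨T'', hT'', hJ⟩ := q.pair.two.ctx.exists_ctx_of_le (hT.map _) (g := g' * g⁻¹)
      (by rw [map_thompson, ← map_conj_mul, inv_mul_cancel_right]) (le_sup_right.trans hle)
    obtain rfl : b' = a₁ :=
      q.symm.eq_of_ctx hT'' (isJComponent_congr hJ q'.pair.one.comp) (le_sup_left.trans hle)
    exact hne (Edge.commute ha₁.symm hb' x hx y hy)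

/-- The conjugates cannot commute at both vertices. -/
theorem Two.false_of_abel (q : Two T K₁ K₂ L₁ L₂) (h₁ : Abel K₁ K₂) (h₂ : Abel K₂ K₁) : False := by
  have hT := q.pair.one.ctx.isPGroup
  have hE : ∀ g : G, Edge T (K₁.map (MulAut.conj g).toMonoidHom) (K₂.map (MulAut.conj g).toMonoidHom) :=
    fun g => ⟨g, _, _, q.map g, h₁.map g, h₂.map g⟩
  have hE1 : Edge T K₁ K₂ := by
    have h := hE 1
    rwa [map_conj_one, map_conj_one] at h
  set P := (K₁ ⊔ T) ⊔ (K₂ ⊔ T) with hP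
  let R : Subgroup G :=
    { carrier := {g | ∃ n, Walk T n K₁ (K₁.map (MulAut.conj g).toMonoidHom)}
      one_mem' := ⟨0, (map_conj_one K₁).symm⟩
      mul_mem' := by
        rintro g h ⟨n, hn⟩ ⟨m, hm⟩
        refine ⟨n + m, hn.append ?_⟩
        have h' := hm.map g
        rwa [← map_conj_mul] at h'
      inv_mem' := by
        rintro g ⟨n, hn⟩
        have h' := hn.map g⁻¹
        rw [← map_conj_mul, inv_mul_cancel, map_conj_one] at h'
        exact h'.reverse }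
  have hPR : P ≤ R := by
    have hone : ∀ {x : G}, x ∈ normalizer (K₁ : Set G) → x ∈ R := fun {x} hx =>
      ⟨0, (mem_normalizer_iff_map_conj_eq.mp hx).symm⟩
    have htwo : ∀ {x : G}, x ∈ normalizer (K₂ : Set G) → x ∈ R := fun {x} hx => by
      refine ⟨2, K₂, hE1, _, ?_, rfl⟩
      have h := (hE x).symm
      rwa [show K₂.map (MulAut.conj x).toMonoidHom = K₂ from mem_normalizer_iff_map_conj_eq.mp hx] at h
    exact sup_le (sup_le (fun x hx => hone (le_normalizer hx))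
      (fun x hx => hone (q.pair.T_le_normalizer hx)))
      (sup_le (fun x hx => htwo (le_normalizer hx)) (fun x hx => hone (q.pair.T_le_normalizer hx)))
  set U : Set G := {z | ∃ g ∈ P, ∃ u ∈ Cfsg.wOf K₁, z = g * u * g⁻¹} with hU
  have hcomm : ∀ z ∈ U, ∀ z' ∈ U, z * z' = z' * z := by
    rintro _ ⟨g, hg, u, hu, rfl⟩ _ ⟨g', hg', u', hu', rfl⟩
    obtain ⟨n, hn⟩ := hPR (mul_mem (inv_mem hg) hg')
    have h := Walk.commute hT n hn K₂ hE1 u hu (g⁻¹ * g' * u' * (g⁻¹ * g')⁻¹)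
      (by rw [← map_wOf]; exact ⟨u', hu', rfl⟩)
    calc g * u * g⁻¹ * (g' * u' * g'⁻¹) = g * (u * (g⁻¹ * g' * u' * (g⁻¹ * g')⁻¹)) * g⁻¹ := by group
      _ = g * ((g⁻¹ * g' * u' * (g⁻¹ * g')⁻¹) * u) * g⁻¹ := by rw [h]
      _ = _ := by group
  set N := Subgroup.closure U with hN
  have hNP : N ≤ P := (closure_le _).mpr fun z ⟨g, hg, u, hu, e⟩ => e ▸
    mul_mem (mul_mem hg (le_sup_left (b := K₂ ⊔ T) (mem_sup_right (q.pair.one.wOf_le_T hu))))
      (inv_mem hg)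
  have hPN : P ≤ normalizer (N : Set G) := by
    have hmap : ∀ g ∈ P, ∀ z ∈ N, g * z * g⁻¹ ∈ N := by
      intro g hg z hz
      induction hz using Subgroup.closure_induction with
      | mem z hz =>
        obtain ⟨h, hh, u, hu, rfl⟩ := hz
        exact subset_closure ⟨g * h, mul_mem hg hh, u, hu, by group⟩
      | one => simp
      | mul u v _ _ iu iv => simpa [mul_assoc] using mul_mem iu iv
      | inv u _ iu => simpa [mul_assoc] using inv_mem iu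
    intro g hg
    refine mem_normalizer_iff.mpr fun z => ⟨hmap g hg z, fun h => ?_⟩
    simpa [mul_assoc] using hmap g⁻¹ (inv_mem hg) _ h
  have hNc : IsMulCommutative N := isMulCommutative_closure hcomm
  have hN2 : ∀ z ∈ N, z * z = 1 := by
    intro z hz
    induction hz using Subgroup.closure_induction with
    | mem z hz =>
      obtain ⟨g, -, u, hu, rfl⟩ := hz
      calc g * u * g⁻¹ * (g * u * g⁻¹) = g * (u * u) * g⁻¹ := by group
        _ = 1 := by rw [q.pair.one.comp.2.2.2.2.2 u hu]; group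
    | one => simp
    | mul a b ha hb ia ib =>
      have hab : a * b = b * a := le_centralizer_iff_isMulCommutative.mpr hNc hb a ha
      calc a * b * (a * b) = a * (b * a) * b := by group
        _ = (a * a) * (b * b) := by rw [← hab]; group
        _ = 1 := by rw [ia, ib, one_mul]
    | inv a _ ia => rw [← mul_inv_rev, ia, inv_one]
  have hle : N ≤ Cfsg.pCoreOf 2 P := le_pCoreOf hNP hPN fun z => ⟨1, Subtype.ext (by
    simpa [pow_two] using hN2 z z.2)⟩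
  rw [q.pair.core_eq_bot, le_bot_iff] at hle
  obtain ⟨w, hw, hw1⟩ := q.pair.one.exists_w
  exact hw1 (mem_bot.mp (hle ▸ subset_closure ⟨1, one_mem _, w, hw.2, by group⟩))

end CfsgLib.JComp
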