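import Cfsg.Agent.JComp.Small
import Cfsg.Agent.PLocal.Thompson
import Cfsg.Agent.Coprime.Generation
import Mathlib.GroupTheory.Nilpotent

/-!
Offenders on a `2`-module of a finite group whose Fitting subgroup has odd order.

`Γ` acts faithfully on an elementary abelian `2`-group `V` and has a normal nilpotent subgroup `F`
of odd order with `C_Γ(F) ≤ F`.  An elementary abelian `2`-subgroup `A` has
`|A| ≤ |V : C_V(A)|`, with equality only if `A` is generated by transvections; every transvection
inverts an element `y` of order `3` of `F` with `[V, y]` a four-group, these elements commute, and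
their four-groups are independent.
-/

set_option autoImplicit false

namespace CfsgLib.JComp

open Subgroup

variable {Γ V : Type*} [Group Γ] [CommGroup V] [MulDistribMulAction Γ V]

/-! ### Commutators with a single element -/

/-- `v ↦ (g • v) / v`. -/
def moved (g : Γ) : V →* V where
  toFun v := (g • v) / v
  map_one' := by simp
  map_mul' u v := by rw [smul_mul', mul_div_mul_comm]

/-- `[V, g]`. -/
def modComm (g : Γ) : Subgroup V := (moved g).range

/-- `C_V(A)`. -/
def fix (A : Set Γ) : Subgroup V where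
  carrier := {v | ∀ a ∈ A, a • v = v}
  one_mem' a _ := smul_one a
  mul_mem' {u v} hu hv a ha := by rw [smul_mul', hu a ha, hv a ha]
  inv_mem' {u} hu a ha := by rw [smul_inv', hu a ha]

/-- A transvection: an involution fixing a hyperplane. -/
def IsTransvection (V : Type*) [CommGroup V] [MulDistribMulAction Γ V] (t : Γ) : Prop :=
  t * t = 1 ∧ Nat.card (modComm (V := V) t) = 2

/-- The standing hypotheses. -/
structure Setting (Γ V : Type*) [Group Γ] [CommGroup V] [MulDistribMulAction Γ V]
    (F : Subgroup Γ) : Prop where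
  sq : ∀ v : V, v * v = 1
  faith : ∀ g : Γ, (∀ v : V, g • v = v) → g = 1
  odd : Odd (Nat.card F)
  normal : F.Normal
  nil : Group.IsNilpotent F
  self : Subgroup.centralizer (F : Set Γ) ≤ F

@[simp] theorem moved_apply (g : Γ) (v : V) : moved g v = (g • v) / v := rfl

theorem div_mem_modComm (g : Γ) (v : V) : (g • v) / v ∈ modComm (V := V) g := ⟨v, rfl⟩

theorem mem_fix {A : Set Γ} {v : V} : v ∈ fix (V := V) A ↔ ∀ a ∈ A, a • v = v := Iff.rfl

theorem mem_fix_singleton {g : Γ} {v : V} : v ∈ fix (V := V) {g} ↔ g • v = v := by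
  simp [mem_fix]

theorem fix_mono {A B : Set Γ} (h : A ⊆ B) : fix (V := V) B ≤ fix A := fun _ hv a ha => hv a (h ha)

theorem ker_moved (g : Γ) : (moved (V := V) g).ker = fix {g} := by
  ext v; simp [mem_fix_singleton, div_eq_one]

theorem card_modComm (g : Γ) :
    Nat.card (modComm (V := V) g) = (fix (V := V) {g}).index := by
  rw [← ker_moved, index_ker, modComm]

theorem modComm_mul_le (g h : Γ) :
    modComm (V := V) (g * h) ≤ modComm g ⊔ modComm h := by
  rintro _ ⟨v, rfl⟩
  have : moved (g * h) v = ((g • h • v) / (h • v)) * ((h • v) / v) := by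
    rw [moved_apply, mul_smul]; simp
  rw [this]
  exact mul_mem (mem_sup_left (div_mem_modComm g _)) (mem_sup_right (div_mem_modComm h v))

theorem smul_mem_of_modComm_le {g : Γ} {U : Subgroup V} (h : modComm (V := V) g ≤ U) {u : V}
    (hu : u ∈ U) : g • u ∈ U := by
  have := U.mul_mem (h (div_mem_modComm g u)) hu
  rwa [div_mul_cancel] at this

theorem smul_mem_modComm {g : Γ} {u : V} (hu : u ∈ modComm (V := V) g) :
    g • u ∈ modComm (V := V) g :=
  smul_mem_of_modComm_le le_rfl hu

theorem modComm_inv (g : Γ) : modComm (V := V) g⁻¹ = modComm g := by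
  suffices h : ∀ g : Γ, modComm (V := V) g⁻¹ ≤ modComm g by
    exact le_antisymm (h g) (by simpa using h g⁻¹)
  rintro g _ ⟨v, rfl⟩
  have := (modComm (V := V) g).inv_mem (div_mem_modComm g (g⁻¹ • v))
  simpa using this

theorem smul_modComm_mem {g h : Γ} {v : V} (hv : v ∈ modComm (V := V) g) :
    h • v ∈ modComm (V := V) (h * g * h⁻¹) := by
  obtain ⟨u, rfl⟩ := hv
  refine ⟨h • u, ?_⟩
  simp [mul_smul, smul_div']

theorem smul_fix_mem {g h : Γ} {v : V} (hv : v ∈ fix (V := V) {g}) :
    h • v ∈ fix (V := V) {h * g * h⁻¹} := by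
  rw [mem_fix_singleton] at hv ⊢
  simp [mul_smul, hv]

theorem card_modComm_conj (g h : Γ) :
    Nat.card (modComm (V := V) (h * g * h⁻¹)) = Nat.card (modComm (V := V) g) := by
  refine (Nat.card_congr ?_).symm
  exact {
    toFun := fun v => ⟨h • (v : V), smul_modComm_mem v.2⟩
    invFun := fun v => ⟨h⁻¹ • (v : V), by
      have := smul_modComm_mem (h := h⁻¹) v.2
      simpa [mul_assoc] using this⟩
    left_inv := fun v => by simp
    right_inv := fun v => by simp }

theorem smul_modComm_of_commute {g h : Γ} (hc : Commute h g) {v : V}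
    (hv : v ∈ modComm (V := V) g) : h • v ∈ modComm (V := V) g := by
  have := smul_modComm_mem (h := h) hv
  rwa [hc.eq, mul_inv_cancel_right] at this

theorem smul_fix_of_commute {g h : Γ} (hc : Commute h g) {v : V}
    (hv : v ∈ fix (V := V) {g}) : h • v ∈ fix (V := V) {g} := by
  have := smul_fix_mem (h := h) hv
  rwa [hc.eq, mul_inv_cancel_right] at this

section Exponent

variable (hV : ∀ v : V, v * v = 1)
include hV

theorem inv_eq_self' (v : V) : v⁻¹ = v := inv_eq_of_mul_eq_one_right (hV v)

theorem div_eq_mul' (u v : V) : u / v = u * v := by rw [div_eq_mul_inv, inv_eq_self' hV]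

theorem pow_smul_of_smul_eq {g : Γ} {v u : V} (hgu : g • u = u) (h : g • v = v * u) (n : ℕ) :
    g ^ n • v = v * u ^ n := by
  induction n with
  | zero => simp
  | succ n ih => rw [pow_succ', mul_smul, ih, smul_mul', smul_pow', hgu, h, pow_succ', mul_assoc]

theorem odd_pow_eq (u : V) {n : ℕ} (hn : Odd n) : u ^ n = u := by
  obtain ⟨m, rfl⟩ := hn
  rw [pow_succ, pow_mul, pow_two, hV, one_pow, one_mul]

/-- An element of odd order fixes nothing in `[V, g]`. -/
theorem eq_one_of_fixed {g : Γ} (hg : Odd (orderOf g)) {u : V} (hu : u ∈ modComm (V := V) g)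
    (hfix : g • u = u) : u = 1 := by
  obtain ⟨v, rfl⟩ := hu
  have h1 : g • v = v * moved g v := by
    rw [moved_apply, mul_comm, div_mul_cancel]
  have := pow_smul_of_smul_eq hV hfix h1 (orderOf g)
  rwa [pow_orderOf_eq_one, one_smul, odd_pow_eq hV _ hg, left_eq_mul] at this

theorem modComm_inf_fix {g : Γ} (hg : Odd (orderOf g)) :
    modComm (V := V) g ⊓ fix {g} = ⊥ :=
  (Subgroup.eq_bot_iff_forall _).mpr fun _ hu =>
    eq_one_of_fixed hV hg hu.1 (mem_fix_singleton.mp hu.2)

theorem exists_mul_eq [Finite V] {g : Γ} (hg : Odd (orderOf g)) (v : V) :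
    ∃ u ∈ modComm (V := V) g, ∃ c ∈ fix (V := V) {g}, u * c = v := by
  rw [← Subgroup.mem_sup]
  suffices h : modComm (V := V) g ⊔ fix {g} = ⊤ by rw [h]; trivial
  refine Subgroup.eq_top_of_card_eq _ (le_antisymm (Subgroup.card_le_card_group _) ?_)
  have h1 := Subgroup.card_mul_index (fix (V := V) {g})
  rw [← card_modComm] at h1
  have h2 : (fix (V := V) {g}).relIndex (modComm (V := V) g ⊔ fix {g}) =
      Nat.card (modComm (V := V) g) := by
    rw [relIndex_sup_right, ← inf_relIndex_left, modComm_inf_fix hV hg, relIndex_bot_left]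
  have h3 := CfsgLib.PLocal.card_mul_relIndex
    (le_sup_right : fix (V := V) {g} ≤ modComm (V := V) g ⊔ fix {g})
  rw [h2, h1] at h3
  omega

/-- Two elements agreeing on `[V,g]` and on `C_V(g)` are equal on `V`. -/
theorem smul_eq_of_agree [Finite V] {g a b : Γ} (hg : Odd (orderOf g))
    (h1 : ∀ u ∈ modComm (V := V) g, a • u = b • u)
    (h2 : ∀ u ∈ fix (V := V) {g}, a • u = b • u) (v : V) : a • v = b • v := by
  obtain ⟨u, hu, c, hc, rfl⟩ := exists_mul_eq hV hg v
  rw [smul_mul', smul_mul', h1 u hu, h2 c hc]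

/-- An element of odd order stabilising `1 ≤ U ≤ V` is trivial. -/
theorem smul_eq_of_stab {g : Γ} (hg : Odd (orderOf g)) {U : Subgroup V}
    (h1 : modComm (V := V) g ≤ U) (h2 : ∀ u ∈ U, g • u = u) (v : V) : g • v = v := by
  have := eq_one_of_fixed hV hg (div_mem_modComm g v) (h2 _ (h1 (div_mem_modComm g v)))
  rwa [div_eq_one] at this

end Exponent

/-! ### Faithful actions -/

variable {F : Subgroup Γ}

theorem Setting.eq_of_smul_eq (h : Setting Γ V F) {a b : Γ} (hab : ∀ v : V, a • v = b • v) :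
    a = b := by
  refine (inv_mul_eq_one.mp (h.faith _ fun v => ?_)).symm
  rw [mul_smul, hab, inv_smul_smul]

theorem Setting.eq_of_agree [Finite V] (h : Setting Γ V F) {g a b : Γ} (hg : Odd (orderOf g))
    (h1 : ∀ u ∈ modComm (V := V) g, a • u = b • u)
    (h2 : ∀ u ∈ fix (V := V) {g}, a • u = b • u) : a = b :=
  h.eq_of_smul_eq (smul_eq_of_agree h.sq hg h1 h2)

theorem odd_orderOf_mem {y : Γ} {K : Subgroup Γ} (hK : Odd (Nat.card K)) (hy : y ∈ K) :
    Odd (orderOf y) :=
  hK.of_dvd_nat (K.orderOf_dvd_natCard hy)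

theorem mem_zpowers_sq {y : Γ} (hy : Odd (orderOf y)) : y ∈ zpowers (y ^ 2) := by
  obtain ⟨m, hm⟩ := hy
  refine mem_zpowers_iff.mpr ⟨(m + 1 : ℕ), ?_⟩
  rw [zpow_natCast, ← pow_mul, show 2 * (m + 1) = orderOf y + 1 by omega, pow_succ,
    pow_orderOf_eq_one, one_mul]

theorem eq_one_of_inv_eq {y : Γ} (hy : Odd (orderOf y)) (h : y⁻¹ = y) : y = 1 := by
  have := mem_zpowers_sq hy
  rw [pow_two] at this
  nth_rewrite 1 [← h] at this
  rw [inv_mul_cancel, zpowers_one_eq_bot, mem_bot] at this
  exact this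

theorem smul_eq_of_sq_fix {y : Γ} (hy : Odd (orderOf y)) {v : V} (h : y ^ 2 • v = v) :
    y • v = v :=
  MulAction.mem_stabilizer_iff.mp
    ((zpowers_le.mpr (MulAction.mem_stabilizer_iff.mpr h)) (mem_zpowers_sq hy))

/-- Thompson's `P × Q` lemma. -/
theorem smul_eq_of_fix_le (hV : ∀ v : V, v * v = 1) {s : Set Γ} (hs : s.Finite)
    (hcomm : ∀ a ∈ s, ∀ b ∈ s, Commute a b) (hinv : ∀ a ∈ s, a * a = 1) {y : Γ}
    (hy : Odd (orderOf y)) (hys : ∀ a ∈ s, Commute y a)
    (hfix : ∀ v ∈ fix (V := V) s, y • v = v) (v : V) : y • v = v := by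
  induction s, hs using Set.Finite.induction_on generalizing v with
  | empty => exact hfix v fun a ha => absurd ha (Set.notMem_empty a)
  | @insert b s _ _ ih =>
    refine ih (fun a ha c hc => hcomm a (Set.mem_insert_of_mem _ ha) c (Set.mem_insert_of_mem _ hc))
      (fun a ha => hinv a (Set.mem_insert_of_mem _ ha))
      (fun a ha => hys a (Set.mem_insert_of_mem _ ha)) ?_ v
    intro u hu
    set w := (y • u) / u with hw
    have hbb : ∀ x : V, b • b • x = x := fun x => by
      rw [← mul_smul, hinv b (Set.mem_insert _ _), one_smul]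
    -- `u * (b • u)` is fixed by `b` and by `s`, so by `y`
    have h1 : y • (u * b • u) = u * b • u := by
      refine hfix _ fun a ha => ?_
      rcases Set.mem_insert_iff.mp ha with rfl | ha
      · rw [smul_mul', hbb, mul_comm]
      · rw [smul_mul', hu a ha, ← mul_smul,
          (hcomm a (Set.mem_insert_of_mem _ ha) b (Set.mem_insert _ _)).eq, mul_smul, hu a ha]
    have h2 : b • w = w := by
      have e : y • b • u = b • y • u := by
        rw [← mul_smul, ← mul_smul, (hys b (Set.mem_insert _ _)).eq]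
      rw [smul_mul', e] at h1
      rw [hw, div_eq_mul' hV, smul_mul']
      calc b • y • u * b • u = (y • u)⁻¹ * (u * b • u) * b • u := by
            nth_rewrite 1 [← h1]; rw [inv_mul_cancel_left]
        _ = (y • u) * u := by
            rw [inv_eq_self' hV, mul_assoc, mul_assoc u, hV, mul_one]
    have h3 : y • w = w := by
      refine hfix _ fun a ha => ?_
      rcases Set.mem_insert_iff.mp ha with rfl | ha'
      · exact h2
      · rw [hw, smul_div', ← mul_smul, ← (hys a ha).eq, mul_smul, hu a ha']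
    apply smul_eq_of_sq_fix hy
    have h4 : y • u = u * w := by rw [hw, mul_comm, div_mul_cancel]
    rw [pow_smul_of_smul_eq hV h3 h4, pow_two, hV, mul_one]

/-! ### Elementary abelian subgroups and hyperplanes -/

theorem hyperplane_card {A B : Subgroup Γ} [Finite Γ] (hBA : B ≤ A) {a : Γ} (ha : a ∈ A)
    (haa : a * a = 1) (haB : a ∉ B) (hcov : ∀ x ∈ A, x ∈ B ∨ a * x ∈ B) :
    Nat.card A = 2 * Nat.card B := by
  classical
  let e : A ≃ Bool × B :=
    { toFun := fun x => if hx : (x : Γ) ∈ B then (false, ⟨x, hx⟩)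
        else (true, ⟨a * x, (hcov x x.2).resolve_left hx⟩)
      invFun := fun p => if p.1 then ⟨a * p.2, A.mul_mem ha (hBA p.2.2)⟩ else ⟨p.2, hBA p.2.2⟩
      left_inv := fun x => by
        by_cases hx : (x : Γ) ∈ B <;> simp [hx, ← mul_assoc, haa]
      right_inv := fun ⟨c, b⟩ => by
        cases c
        · simp
        · have hn : a * (b : Γ) ∉ B := fun h => haB (by simpa using B.mul_mem h (B.inv_mem b.2))
          simp [hn, ← mul_assoc, haa] }
  rw [Nat.card_congr e, Nat.card_prod]
  simp

variable [Finite Γ]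

/-- An involution of an elementary abelian `A` faithful on `F` is outside a hyperplane whose
centraliser in `F` it moves. -/
theorem exists_hyperplane (h : Setting Γ V F) {A : Subgroup Γ}
    (hA : Cfsg.IsElementaryAbelian 2 A) {a : Γ} (ha : a ∈ A) (ha1 : a ≠ 1) :
    ∃ B ≤ A, a ∉ B ∧ (∀ x ∈ A, x ∈ B ∨ a * x ∈ B) ∧
      ∃ x ∈ F, (∀ b ∈ B, Commute x b) ∧ a * x ≠ x * a := by
  have hcA : ∀ u ∈ A, ∀ w ∈ A, Commute u w := fun u hu w hw =>
    le_centralizer_iff_isMulCommutative.mpr hA.1 hw u hu
  have haa : a * a = 1 := by rw [← pow_two]; exact hA.2 a ha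
  let P : Subgroup Γ → Prop := fun B => B ≤ A ∧ a ∉ B ∧
    ∃ x ∈ F, (∀ b ∈ B, Commute x b) ∧ a * x ≠ x * a
  have hne : {B | P B}.Nonempty := by
    refine ⟨⊥, bot_le, by simpa using ha1, ?_⟩
    by_contra hno
    have haF : a ∈ F := h.self fun x hx => by
      by_contra hax
      exact hno ⟨x, hx, fun b hb => by rw [mem_bot.mp hb]; exact Commute.one_right x,
        fun h' => hax h'.symm⟩
    exact ha1 (eq_one_of_inv_eq (odd_orderOf_mem h.odd haF) (inv_eq_of_mul_eq_one_right haa))
  obtain ⟨B, ⟨hBA, haB, x, hxF, hxB, hxa⟩, hmax⟩ :=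
    Set.exists_max_image {B | P B} (fun B => Nat.card B) (Set.toFinite _) hne
  refine ⟨B, hBA, haB, ?_, x, hxF, hxB, hxa⟩
  intro b hb
  by_contra hcon
  rw [not_or] at hcon
  obtain ⟨hbB, habB⟩ := hcon
  have hbb : b * b = 1 := by rw [← pow_two]; exact hA.2 b hb
  -- the four-group `⟨a, b⟩` acts on `C_F(B)`
  set H := F ⊓ centralizer (B : Set Γ) with hH
  set A₁ := Subgroup.closure ({a, b} : Set Γ) with hA₁def
  have hA₁A : A₁ ≤ A := by
    rw [hA₁def, closure_le]; rintro _ (rfl | rfl) <;> assumption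
  have hA₁ := CfsgLib.PLocal.isElementaryAbelian_of_le hA hA₁A
  have : IsMulCommutative A₁ := hA₁.1
  have hmem : ∀ c ∈ A₁, c = 1 ∨ c = a ∨ c = b ∨ c = a * b := by
    intro c hc
    induction hc using Subgroup.closure_induction with
    | mem u hu => rcases hu with rfl | rfl <;> simp
    | one => simp
    | mul u w _ _ ihu ihw =>
      have hba : b * a = a * b := (hcA b hb a ha).eq
      have e1 : a * (a * b) = b := by rw [← mul_assoc, haa, one_mul]
      have e2 : b * (a * b) = a := by rw [← mul_assoc, hba, mul_assoc, hbb, mul_one]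
      have e3 : a * b * a = b := by rw [mul_assoc, hba, e1]
      have e4 : a * b * b = a := by rw [mul_assoc, hbb, mul_one]
      have e5 : a * b * (a * b) = 1 := by rw [← mul_assoc, e3, hbb]
      rcases ihu with rfl | rfl | rfl | rfl <;> rcases ihw with rfl | rfl | rfl | rfl <;>
        simp [haa, hbb, hba, e1, e2, e3, e4, e5]
    | inv u _ ihu =>
      have hia : a⁻¹ = a := inv_eq_of_mul_eq_one_right haa
      have hib : b⁻¹ = b := inv_eq_of_mul_eq_one_right hbb
      have hba : b * a = a * b := (hcA b hb a ha).eq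
      rcases ihu with rfl | rfl | rfl | rfl <;> simp [hia, hib, hba]
  have hncyc : ¬ IsCyclic A₁ := by
    intro hcyc
    obtain ⟨⟨g, hg⟩, hgen⟩ := hcyc.exists_generator
    have hgg : (⟨g, hg⟩ : A₁) ^ 2 = 1 := Subtype.ext (hA₁.2 g hg)
    have hpair : ∀ c ∈ A₁, c = 1 ∨ c = g := by
      intro c hc
      obtain ⟨n, hn⟩ := mem_zpowers_iff.mp (hgen ⟨c, hc⟩)
      rw [← zpow_mod_orderOf] at hn
      have hle : orderOf (⟨g, hg⟩ : A₁) ≤ 2 := orderOf_le_of_pow_eq_one (by norm_num) hgg
      have hpos := orderOf_pos (⟨g, hg⟩ : A₁)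
      have h0 := Int.emod_nonneg n (show (orderOf (⟨g, hg⟩ : A₁) : ℤ) ≠ 0 by omega)
      have h2 := Int.emod_lt_of_pos n (show (0 : ℤ) < orderOf (⟨g, hg⟩ : A₁) by omega)
      have : n % (orderOf (⟨g, hg⟩ : A₁) : ℤ) = 0 ∨ n % (orderOf (⟨g, hg⟩ : A₁) : ℤ) = 1 := by
        omega
      rcases this with e | e <;> rw [e] at hn
      · left; simpa using (congrArg Subtype.val hn).symm
      · right; simpa using (congrArg Subtype.val hn).symm
    have hab : a ≠ b := fun e => habB (by rw [← e, haa]; exact one_mem B)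
    have hb1 : b ≠ 1 := fun e => hbB (e ▸ one_mem B)
    rcases hpair a (subset_closure (by simp)) with e | e
    · exact ha1 e
    rcases hpair b (subset_closure (by simp)) with e' | e'
    · exact hb1 e'
    exact hab (e.trans e'.symm)
  have hHn : A₁ ≤ normalizer (H : Set Γ) := by
    have := h.normal
    refine hA₁A.trans fun u hu => mem_normalizer_iff.mpr fun w => ?_
    have hub : ∀ c ∈ B, Commute u c := fun c hc => hcA u hu c (hBA hc)
    have key : ∀ (u : Γ), (∀ c ∈ B, Commute u c) → ∀ w ∈ H, u * w * u⁻¹ ∈ H := by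
      intro u hu w hw
      refine ⟨this.conj_mem w hw.1 u, mem_centralizer_iff.mpr fun c hc => ?_⟩
      have h1 : Commute c w := mem_centralizer_iff.mp hw.2 c hc
      exact ((hu c hc).symm.mul_right h1).mul_right (hu c hc).symm.inv_right
    refine ⟨key u hub w, fun hw => ?_⟩
    have := key u⁻¹ (fun c hc => (hub c hc).inv_left) _ hw
    simpa [mul_assoc] using this
  have hcop : (Nat.card A₁).Coprime (Nat.card H) := by
    obtain ⟨n, hn⟩ := IsPGroup.iff_card.mp (CfsgLib.PLocal.isPGroup_of_isElementaryAbelian hA₁)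
    rw [hn]
    exact Nat.Coprime.pow_left n (Nat.coprime_two_left.mpr
      (h.odd.of_dvd_nat (card_dvd_of_le (inf_le_left : H ≤ F))))
  have key : ¬ H ≤ H ⊓ centralizer ({a} : Set Γ) := fun hle =>
    hxa (mem_centralizer_singleton_iff.mp (hle ⟨hxF, mem_centralizer_iff.mpr fun c hc =>
      (hxB c hc).symm.eq⟩).2).symm
  have grow : ∀ {c : Γ}, c ∉ B → a * c ∉ B → c ∈ A →
      ∀ z ∈ H ⊓ centralizer ({c} : Set Γ), ¬ z * a = a * z → False := by
    intro c hcB hacB hcA' z hz hza
    have hlt : B < B ⊔ zpowers c := lt_of_le_not_ge le_sup_left fun hle =>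
      hcB (hle (mem_sup_right (mem_zpowers c)))
    have hc2 : c * c = 1 := by rw [← pow_two]; exact hA.2 c hcA'
    have hcz : zpowers c = Subgroup.closure {c} := zpowers_eq_closure c
    have hP : P (B ⊔ zpowers c) := by
      refine ⟨sup_le hBA (zpowers_le.mpr hcA'), fun hin => ?_, z, hz.1.1, ?_, fun e => hza e.symm⟩
      · have hnorm : zpowers c ≤ normalizer (B : Set Γ) := by
          refine zpowers_le.mpr ?_
          refine centralizer_le_normalizer _ (mem_centralizer_iff.mpr fun d hd => ?_)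
          exact (hcA d (hBA hd) c hcA').eq
        rw [← SetLike.mem_coe, coe_mul_of_right_le_normalizer_left B _ hnorm] at hin
        obtain ⟨d, hd, e, he, hde⟩ := hin
        replace hde : d * e = a := hde
        obtain ⟨n, rfl⟩ := mem_zpowers_iff.mp he
        rcases Int.even_or_odd n with ⟨m, rfl⟩ | ⟨m, rfl⟩
        · rw [← two_mul, zpow_mul, zpow_two, hc2, one_zpow, mul_one] at hde
          exact haB (hde ▸ hd)
        · rw [zpow_add, zpow_mul, zpow_two, hc2, one_zpow, zpow_one, one_mul] at hde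
          apply hacB
          rw [← hde, mul_assoc, hc2, mul_one]
          exact hd
      · intro d hd
        have hle : B ⊔ zpowers c ≤ centralizer ({z} : Set Γ) := by
          refine sup_le (fun e he => mem_centralizer_singleton_iff.mpr ?_)
            (zpowers_le.mpr (mem_centralizer_singleton_iff.mpr ?_))
          · exact mem_centralizer_iff.mp hz.1.2 e he
          · exact (mem_centralizer_singleton_iff.mp hz.2).symm
        exact (mem_centralizer_singleton_iff.mp (hle hd)).symm
    have h1 : Nat.card ↥(B ⊔ zpowers c) ≤ Nat.card ↥B := hmax _ hP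
    exact hlt.ne (Subgroup.eq_of_le_of_card_ge hlt.le h1)
  apply key
  refine CfsgLib.Coprime.le_of_forall_inf_centralizer_le hncyc hHn hcop fun c hc hc1 => ?_
  rcases hmem c hc with rfl | rfl | rfl | rfl
  · exact absurd rfl hc1
  · exact le_rfl
  all_goals
    refine le_inf inf_le_left fun z hz => ?_
    by_contra hza
    rw [mem_centralizer_singleton_iff] at hza
  · exact grow hbB habB hb z hz hza
  · refine grow habB (by rw [← mul_assoc, haa, one_mul]; exact hbB) (A.mul_mem ha hb) z hz hza

end CfsgLib.JComp
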