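import Cfsg.Agent.JComp.Module

/-!
The offender inequality and its equality case.
-/

set_option autoImplicit false

namespace CfsgLib.JComp

open Subgroup

variable {Γ V : Type*} [Group Γ] [Finite Γ] [CommGroup V] [Finite V] [MulDistribMulAction Γ V]
variable {F : Subgroup Γ}

/-- An element of odd order commuting with an elementary abelian `B` and fixing `C_V(B)` is trivial. -/
theorem Setting.eq_one_of_fix_le (h : Setting Γ V F) {B : Subgroup Γ}
    (hB : Cfsg.IsElementaryAbelian 2 B) {y : Γ} (hy : Odd (orderOf y))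
    (hyB : ∀ b ∈ B, Commute y b) (hfix : ∀ v ∈ fix (V := V) (B : Set Γ), y • v = v) : y = 1 :=
  h.faith y (smul_eq_of_fix_le h.sq (B : Set Γ).toFinite
    (fun a ha b hb => le_centralizer_iff_isMulCommutative.mpr hB.1 hb a ha)
    (fun a ha => by rw [← pow_two]; exact hB.2 a ha) hy hyB hfix)

/-- `a` moves some vector fixed by the hyperplane `B`. -/
theorem Setting.exists_moved (h : Setting Γ V F) {A B : Subgroup Γ}
    (hA : Cfsg.IsElementaryAbelian 2 A) (hBA : B ≤ A) {a : Γ} (ha : a ∈ A) {x : Γ} (hxF : x ∈ F)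
    (hxB : ∀ b ∈ B, Commute x b) (hxa : a * x ≠ x * a) :
    ∃ v ∈ fix (V := V) (B : Set Γ), a • v ≠ v := by
  have haa : a * a = 1 := by rw [← pow_two]; exact hA.2 a ha
  have hai : a⁻¹ = a := inv_eq_of_mul_eq_one_right haa
  set y := x⁻¹ * (a * x * a) with hydef
  have hyF : y ∈ F := by
    have h1 := h.normal.conj_mem x hxF a
    rw [hai] at h1
    exact F.mul_mem (F.inv_mem hxF) h1
  have hy1 : y ≠ 1 := by
    intro e
    rw [hydef, inv_mul_eq_one] at e
    apply hxa
    nth_rewrite 2 [e]
    rw [mul_assoc (a * x), haa, mul_one]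
  have hyinv : a * y * a = y⁻¹ := by
    rw [hydef, mul_inv_rev, mul_inv_rev, mul_inv_rev, hai, inv_inv]
    simp only [mul_assoc]
    rw [haa, mul_one]
  have hyB : ∀ b ∈ B, Commute y b := by
    intro b hb
    have hab : Commute a b := le_centralizer_iff_isMulCommutative.mpr hA.1 (hBA hb) a ha
    exact (hxB b hb).inv_left.mul_left ((hab.mul_left (hxB b hb)).mul_left hab)
  have hodd := odd_orderOf_mem h.odd hyF
  by_contra hno
  push_neg at hno
  apply hy1
  refine h.eq_one_of_fix_le (CfsgLib.PLocal.isElementaryAbelian_of_le hA hBA) hodd hyB ?_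
  intro v hv
  apply smul_eq_of_sq_fix hodd
  have hyv : y • v ∈ fix (V := V) (B : Set Γ) := fun b hb => by
    rw [← mul_smul, ← (hyB b hb).eq, mul_smul, hv b hb]
  have h1 : y⁻¹ • v = y • v := by
    rw [← hyinv, mul_smul, mul_smul, hno v hv, hno _ hyv]
  rw [pow_two, mul_smul]
  rw [← h1, smul_inv_smul]

/-- **Offenders**: `|A| ≤ |V : C_V(A)|`, with equality only when transvections generate `A`. -/
theorem Setting.offender (h : Setting Γ V F) : ∀ {A : Subgroup Γ},
    Cfsg.IsElementaryAbelian 2 A →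
      Nat.card A ≤ (fix (V := V) (A : Set Γ)).index ∧
        (Nat.card A = (fix (V := V) (A : Set Γ)).index →
          A ≤ Subgroup.closure {t | t ∈ A ∧ IsTransvection V t}) := by
  intro A
  induction hn : Nat.card A using Nat.strong_induction_on generalizing A with
  | h n ih =>
  subst hn
  intro hA
  rcases eq_or_ne A ⊥ with rfl | hne
  · refine ⟨?_, fun _ => bot_le⟩
    rw [Subgroup.card_bot]
    exact Nat.one_le_iff_ne_zero.mpr (fix (V := V) _).index_ne_zero_of_finite
  -- the basic step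
  have step : ∀ a ∈ A, a ≠ 1 → ∃ B ≤ A, a ∉ B ∧ (∀ x ∈ A, x ∈ B ∨ a * x ∈ B) ∧
      Nat.card A = 2 * Nat.card B ∧ Nat.card A ≤ (fix (V := V) (A : Set Γ)).index ∧
      (Nat.card A = (fix (V := V) (A : Set Γ)).index →
        B ≤ Subgroup.closure {t | t ∈ B ∧ IsTransvection V t}) := by
    intro a ha ha1
    obtain ⟨B, hBA, haB, hcov, x, hxF, hxB, hxa⟩ := exists_hyperplane h hA ha ha1
    have hcard := hyperplane_card hBA ha (by rw [← pow_two]; exact hA.2 a ha) haB hcov
    have hpos : 0 < Nat.card B := Nat.card_pos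
    obtain ⟨h1, h2⟩ := ih (Nat.card B) (by omega) rfl
      (CfsgLib.PLocal.isElementaryAbelian_of_le hA hBA)
    have hle : fix (V := V) (A : Set Γ) ≤ fix (B : Set Γ) := fix_mono hBA
    have hidx := relIndex_mul_index hle
    have hrel : 2 ≤ (fix (V := V) (A : Set Γ)).relIndex (fix (B : Set Γ)) := by
      have h0 : (fix (V := V) (A : Set Γ)).relIndex (fix (B : Set Γ)) ≠ 0 :=
        Subgroup.index_ne_zero_of_finite
      have h1' : (fix (V := V) (A : Set Γ)).relIndex (fix (B : Set Γ)) ≠ 1 := by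
        rw [Ne, relIndex_eq_one]
        obtain ⟨v, hv, hav⟩ := h.exists_moved hA hBA ha hxF hxB hxa
        exact fun hle' => hav (hle' hv a ha)
      omega
    have hmul := Nat.mul_le_mul hrel h1
    refine ⟨B, hBA, haB, hcov, hcard, by omega, fun e => h2 ?_⟩
    have h3 : 2 * (fix (V := V) (B : Set Γ)).index ≤
        (fix (V := V) (A : Set Γ)).relIndex (fix (B : Set Γ)) * (fix (V := V) (B : Set Γ)).index :=
      Nat.mul_le_mul hrel le_rfl
    omega
  obtain ⟨⟨a, ha⟩, ha1⟩ : ∃ a : A, (a : Γ) ≠ 1 := by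
    by_contra hno
    push_neg at hno
    exact hne ((Subgroup.eq_bot_iff_forall A).mpr fun x hx => hno ⟨x, hx⟩)
  obtain ⟨B, hBA, haB, hcov, hcard, hle, hgen⟩ := step a ha ha1
  refine ⟨hle, fun heq => ?_⟩
  have hmono : ∀ {C : Subgroup Γ}, C ≤ A →
      Subgroup.closure {t | t ∈ C ∧ IsTransvection V t} ≤
        Subgroup.closure {t | t ∈ A ∧ IsTransvection V t} :=
    fun hC => closure_mono fun t ht => ⟨hC ht.1, ht.2⟩
  rcases eq_or_ne B ⊥ with rfl | hBne
  · rw [Subgroup.card_bot, mul_one] at hcard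
    have hAset : (A : Set Γ) = {1, a} := by
      ext x
      refine ⟨fun hx => ?_, ?_⟩
      · rcases hcov x hx with e | e
        · exact Or.inl (mem_bot.mp e)
        · right
          rw [Set.mem_singleton_iff, ← inv_eq_of_mul_eq_one_right (mem_bot.mp e)]
          exact inv_eq_of_mul_eq_one_right (by rw [← pow_two]; exact hA.2 a ha)
      · rintro (rfl | rfl) <;> [exact one_mem A; exact ha]
    have hfix : fix (V := V) (A : Set Γ) = fix {a} := by
      refine le_antisymm (fix_mono (by simpa using ha)) fun v hv b hb => ?_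
      rw [hAset] at hb
      rcases hb with rfl | rfl
      · exact one_smul _ v
      · exact mem_fix_singleton.mp hv
    intro x hx
    rw [← SetLike.mem_coe, hAset] at hx
    rcases hx with rfl | rfl
    · exact one_mem _
    · refine subset_closure ⟨ha, by rw [← pow_two]; exact hA.2 _ ha, ?_⟩
      rw [card_modComm, ← hfix, ← heq, hcard]
  obtain ⟨⟨b, hb⟩, hb1⟩ : ∃ b : B, (b : Γ) ≠ 1 := by
    by_contra hno
    push_neg at hno
    exact hBne ((Subgroup.eq_bot_iff_forall B).mpr fun x hx => hno ⟨x, hx⟩)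
  obtain ⟨B', hB'A, hbB', hcov', hcard', -, hgen'⟩ := step b (hBA hb) hb1
  obtain ⟨c, hcB', hcB⟩ : ∃ c ∈ B', c ∉ B := by
    by_contra hno
    push_neg at hno
    have hsub : B' ≤ B := hno
    have := Subgroup.eq_of_le_of_card_ge hsub (by omega)
    exact hbB' (this ▸ hb)
  intro x hx
  rcases hcov x hx with hxB | hxB
  · exact hmono hBA (hgen heq hxB)
  · have hac : a * c ∈ B := (hcov c (hB'A hcB')).resolve_left hcB
    have hcm := hmono hB'A (hgen' heq hcB')
    have e : x = c * ((a * c)⁻¹ * (a * x)) := by group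
    rw [e]
    exact mul_mem hcm (hmono hBA (hgen heq (B.mul_mem (B.inv_mem hac) hxB)))

end CfsgLib.JComp
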