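import Cfsg.Agent.JComp.Bound

/-!
The subgroup `P = ⟨K, T⟩` of a component normalised by `T`, and the basic facts on pairs of components.
-/

set_option autoImplicit false

namespace CfsgLib.JComp

open Subgroup
open scoped IsMulCommutative commutatorElement

variable {G : Type*} [Group G]

/-- `C_T(W)`. -/
abbrev cw (T K : Subgroup G) : Subgroup G := T ⊓ centralizer (Cfsg.wOf K : Set G)

/-- In a group of order four with a given involution the elements are `1`, `w`, `v`, `v w`. -/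
theorem eq_of_card_four {W : Subgroup G} (hc : Nat.card W = 4) {w v : G} (hw : w ∈ W) (hv : v ∈ W)
    (hw1 : w ≠ 1) (hv1 : v ≠ 1) (hvw : v ≠ w) (hvw1 : v * w ≠ 1) {u : G} (hu : u ∈ W) :
    u = 1 ∨ u = w ∨ u = v ∨ u = v * w := by
  classical
  have : Finite W := Nat.finite_of_card_ne_zero (by omega)
  by_contra h
  push Not at h
  let f : Fin 5 → W := ![⟨1, W.one_mem⟩, ⟨w, hw⟩, ⟨v, hv⟩, ⟨v * w, W.mul_mem hv hw⟩, ⟨u, hu⟩]
  have hf : Function.Injective f := by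
    intro i j hij
    fin_cases i <;> fin_cases j <;> simp [f, Subtype.ext_iff] at hij ⊢
    all_goals
      first
        | exact hw1 hij | exact hw1 hij.symm | exact hv1 hij | exact hv1 hij.symm
        | exact hvw hij | exact hvw hij.symm | exact hvw1 hij | exact hvw1 hij.symm
        | exact h.1 hij | exact h.1 hij.symm | exact h.2.1 hij | exact h.2.1 hij.symm
        | exact h.2.2.1 hij | exact h.2.2.1 hij.symm | exact h.2.2.2 hij | exact h.2.2.2 hij.symm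
  have := Nat.card_le_card_of_injective f hf
  rw [Nat.card_fin, hc] at this
  omega

variable [Finite G] {T K L : Subgroup G}

theorem Main.map (m : Main T K L) (g : G) :
    Main (T.map (MulAut.conj g).toMonoidHom) (K.map (MulAut.conj g).toMonoidHom)
      (L.map (MulAut.conj g).toMonoidHom) :=
  ⟨isJComponent_map _ m.comp, m.above.map g, m.ctx.map g⟩

namespace Main

theorem exists_w (m : Main T K L) : ∃ w ∈ jZ T ⊓ Cfsg.wOf K, w ≠ 1 := by
  by_contra hno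
  push Not at hno
  have h := card_jZ_inf_wOf m.ctx.isPGroup m.comp
  rw [(Subgroup.eq_bot_iff_forall _).mpr hno, Subgroup.card_bot] at h
  omega

theorem normalizer_wOf_le (m : Main T K L) : normalizer (Cfsg.wOf K : Set G) ≤ L := by
  obtain ⟨S, k, d⟩ := exists_compData m.ctx.isPGroup m.comp
  exact m.above.top _ ⟨_, CfsgLib.PLocal.isPGroup_of_isElementaryAbelian d.wOf_elem, d.wOf_ne_bot,
    rfl⟩ d.H_le_normalizer

theorem wOf_le_VOf (m : Main T K L) : Cfsg.wOf K ≤ VOf L := m.ctx.component_wOf_le m.comp m.K_le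

theorem wOf_le_T (m : Main T K L) : Cfsg.wOf K ≤ T := m.wOf_le_VOf.trans m.ctx.VOf_le_T

theorem pCoreOf_le_T (m : Main T K L) : Cfsg.pCoreOf 2 K ≤ T := by
  obtain ⟨a, k, -, hp, hK, -⟩ := m.ctx.classify m.comp m.K_le
  rw [hK, m.ctx.pCoreOf_compK hp]
  exact inf_le_right.trans m.ctx.pCoreOf_le_T

theorem pCoreOf_le_cw (m : Main T K L) : Cfsg.pCoreOf 2 K ≤ cw T K :=
  le_inf m.pCoreOf_le_T fun _ hq => mem_centralizer_iff.mpr fun v hv =>
    (mem_centralizer_iff.mp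
      (omegaCenterOf_le_centralizer _ ((IsThree.of_isJComponent m.comp).wOf_le hv)) _ hq).symm

theorem pCoreOf_L_le_cw (m : Main T K L) : Cfsg.pCoreOf 2 L ≤ cw T K :=
  le_inf m.ctx.pCoreOf_le_T fun _ hq => mem_centralizer_iff.mpr fun _ hv =>
    (mem_centralizer_iff.mp (omegaCenterOf_le_centralizer _ (m.wOf_le_VOf hv)) _ hq).symm

theorem centralizer_cw_le (m : Main T K L) : centralizer (cw T K : Set G) ≤ cw T K := fun _ hx =>
  m.pCoreOf_L_le_cw (m.ctx.self (Subgroup.centralizer_le m.pCoreOf_L_le_cw hx))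

theorem T_fix (m : Main T K L) (hTK : T ≤ normalizer (K : Set G)) {g w : G} (hg : g ∈ T)
    (hw : w ∈ jZ T ⊓ Cfsg.wOf K) : g * w * g⁻¹ = w := by
  have hgJ : g ∈ normalizer (Cfsg.thompsonSubgroupOf 2 T : Set G) :=
    CfsgLib.PLocal.normalizer_le_normalizer_thompsonSubgroupOf 2 T (le_normalizer hg)
  by_cases hw1 : w = 1
  · simp [hw1]
  have hmem : g * w * g⁻¹ ∈ jZ T ⊓ Cfsg.wOf K :=
    ⟨(mem_normalizer_iff.mp (normalizer_le_normalizer_omegaCenterOf _ hgJ) w).mp hw.1,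
      (mem_normalizer_iff.mp (normalizer_le_normalizer_wOf K (hTK hg)) w).mp hw.2⟩
  rcases eq_one_or_eq_of_card_two (card_jZ_inf_wOf m.ctx.isPGroup m.comp) hw hw1 hmem with e | e
  · exact absurd (conj_eq_one_iff.mp e) hw1
  · exact e

theorem wOf_cases (m : Main T K L) {w v u : G} (hw : w ∈ jZ T ⊓ Cfsg.wOf K) (hw1 : w ≠ 1)
    (hv : v ∈ Cfsg.wOf K) (hvZ : v ∉ jZ T) (hu : u ∈ Cfsg.wOf K) :
    u = 1 ∨ u = w ∨ u = v ∨ u = v * w := by
  refine eq_of_card_four m.comp.2.2.2.2.1 hw.2 hv hw1 (fun e => hvZ (e ▸ one_mem _))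
    (fun e => hvZ (e ▸ hw.1)) (fun e => hvZ ?_) hu
  rw [mul_eq_one_iff_eq_inv.mp e]
  exact inv_mem hw.1

theorem exists_v (m : Main T K L) : ∃ v ∈ Cfsg.wOf K, v ∉ jZ T := by
  by_contra hno
  push Not at hno
  have h := card_jZ_inf_wOf m.ctx.isPGroup m.comp
  rw [inf_eq_right.mpr hno, show Nat.card (Cfsg.wOf K) = 4 from m.comp.2.2.2.2.1] at h
  omega

theorem conj_cases (m : Main T K L) (hTK : T ≤ normalizer (K : Set G)) {g w v : G} (hg : g ∈ T)
    (hw : w ∈ jZ T ⊓ Cfsg.wOf K) (hw1 : w ≠ 1) (hv : v ∈ Cfsg.wOf K) (hvZ : v ∉ jZ T) :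
    g * v * g⁻¹ = v ∨ g * v * g⁻¹ = v * w := by
  have hv' : g * v * g⁻¹ ∈ Cfsg.wOf K :=
    (mem_normalizer_iff.mp (normalizer_le_normalizer_wOf K (hTK hg)) v).mp hv
  have hgJ : g ∈ normalizer (Cfsg.thompsonSubgroupOf 2 T : Set G) :=
    CfsgLib.PLocal.normalizer_le_normalizer_thompsonSubgroupOf 2 T (le_normalizer hg)
  have hnot : g * v * g⁻¹ ∉ jZ T := fun h =>
    hvZ ((mem_normalizer_iff.mp (normalizer_le_normalizer_omegaCenterOf _ hgJ) v).mpr h)
  rcases m.wOf_cases hw hw1 hv hvZ hv' with e | e | e | e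
  · exact absurd (e ▸ one_mem _) hnot
  · exact absurd (e ▸ hw.1) hnot
  · exact Or.inl e
  · exact Or.inr e

theorem mem_cw_of_fix (m : Main T K L) (hTK : T ≤ normalizer (K : Set G)) {g v : G} (hg : g ∈ T)
    (hv : v ∈ Cfsg.wOf K) (hvZ : v ∉ jZ T) (hfix : g * v * g⁻¹ = v) : g ∈ cw T K := by
  obtain ⟨w, hw, hw1⟩ := m.exists_w
  refine ⟨hg, mem_centralizer_iff.mpr fun u hu => ?_⟩
  have hgw := mul_inv_eq_iff_eq_mul.mp (m.T_fix hTK hg hw)
  have hgv := mul_inv_eq_iff_eq_mul.mp hfix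
  rcases m.wOf_cases hw hw1 hv hvZ hu with rfl | rfl | rfl | rfl
  · simp
  · exact hgw.symm
  · exact hgv.symm
  · rw [mul_assoc, ← hgw, ← mul_assoc, ← hgv, mul_assoc]

theorem cw_lt (m : Main T K L) : ∃ t ∈ T, t ∉ cw T K := by
  obtain ⟨S, k, d⟩ := exists_compData m.ctx.isPGroup m.comp
  obtain ⟨A, hA, hmove⟩ := d.exists_moving
  obtain ⟨a, ha, hna⟩ := SetLike.not_le_iff_exists.mp hmove
  exact ⟨a, hA.1 ha, fun h => hna h.2⟩

theorem inv_mul_mem_cw (m : Main T K L) (hTK : T ≤ normalizer (K : Set G)) {g g' : G} (hg : g ∈ T)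
    (hg' : g' ∈ T) (hn : g ∉ cw T K) (hn' : g' ∉ cw T K) : g⁻¹ * g' ∈ cw T K := by
  obtain ⟨w, hw, hw1⟩ := m.exists_w
  obtain ⟨v, hv, hvZ⟩ := m.exists_v
  have e := (m.conj_cases hTK hg hw hw1 hv hvZ).resolve_left (fun h => hn (m.mem_cw_of_fix hTK hg hv hvZ h))
  have e' := (m.conj_cases hTK hg' hw hw1 hv hvZ).resolve_left
    (fun h => hn' (m.mem_cw_of_fix hTK hg' hv hvZ h))
  refine m.mem_cw_of_fix hTK (mul_mem (inv_mem hg) hg') hv hvZ ?_
  calc g⁻¹ * g' * v * (g⁻¹ * g')⁻¹ = g⁻¹ * (g' * v * g'⁻¹) * g := by group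
    _ = g⁻¹ * (g * v * g⁻¹) * g := by rw [e', e]
    _ = v := by group

theorem card_T (m : Main T K L) (hTK : T ≤ normalizer (K : Set G)) :
    Nat.card T = 2 * Nat.card ↥(cw T K) := by
  obtain ⟨t, ht, htn⟩ := m.cw_lt
  have h2 : ((cw T K).subgroupOf T).index = 2 := by
    rw [index_eq_two_iff']
    refine ⟨⟨t, ht⟩, fun b => ?_⟩
    rw [xor_comm]
    by_cases hb : (b : G) ∈ cw T K
    · exact Or.inl ⟨hb, fun h => htn
        ((Subgroup.mul_mem_cancel_right (cw T K) hb).mp (mem_subgroupOf.mp h))⟩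
    · refine Or.inr ⟨?_, fun h => hb h⟩
      have h1 := m.inv_mul_mem_cw hTK (inv_mem ht) b.2 (fun h => htn (by simpa using inv_mem h)) hb
      rw [inv_inv] at h1
      exact mem_subgroupOf.mpr h1
  have h := CfsgLib.PLocal.card_mul_relIndex (inf_le_left : cw T K ≤ T)
  rw [show (cw T K).relIndex T = ((cw T K).subgroupOf T).index from rfl, h2] at h
  rw [← h, mul_comm]

theorem exists_k (m : Main T K L) : ∃ k ∈ K, orderOf k = 3 ∧
    (∀ v ∈ Cfsg.wOf K, k * v * k⁻¹ = v → v = 1) ∧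
    ∀ x ∈ K, ∃ i : ℕ, x * (k ^ i)⁻¹ ∈ Cfsg.pCoreOf 2 K := by
  obtain ⟨S, k, d⟩ := exists_compData m.ctx.isPGroup m.comp
  exact ⟨k, d.memk, d.ordk, d.fpf, d.gen⟩

theorem sup_inf_centralizer (m : Main T K L) (hTK : T ≤ normalizer (K : Set G)) :
    (K ⊔ T) ⊓ centralizer (Cfsg.wOf K : Set G) = cw T K := by
  refine le_antisymm (fun x hx => ⟨?_, hx.2⟩) (inf_le_inf_right _ le_sup_right)
  obtain ⟨k, hk, hk3, hfpf, hgen⟩ := m.exists_k
  obtain ⟨w, hw, hw1⟩ := m.exists_w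
  have hxP : x ∈ K ⊔ T := hx.1
  rw [← SetLike.mem_coe, coe_mul_of_right_le_normalizer_left K T hTK] at hxP
  obtain ⟨a, ha, t, ht, rfl⟩ := hxP
  obtain ⟨i, hi⟩ := hgen a ha
  set q := a * (k ^ i)⁻¹ with hq
  have hqc := (m.pCoreOf_le_cw hi).2
  have he : a = q * k ^ i := by rw [hq, inv_mul_cancel_right]
  suffices hki : k ^ i = 1 by
    rw [he, hki, mul_one]
    exact mul_mem (m.pCoreOf_le_T hi) ht
  by_contra hne
  apply hw1
  refine hfpf w hw.2 ?_
  have h2 : k ^ i * t ∈ centralizer (Cfsg.wOf K : Set G) := by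
    have h := (centralizer (Cfsg.wOf K : Set G)).mul_mem (inv_mem hqc) hx.2
    rwa [show q⁻¹ * (a * t) = k ^ i * t by rw [he]; group] at h
  have hkiw : k ^ i * w * (k ^ i)⁻¹ = w :=
    calc k ^ i * w * (k ^ i)⁻¹ = k ^ i * (t * w * t⁻¹) * (k ^ i)⁻¹ := by rw [m.T_fix hTK ht hw]
      _ = (k ^ i * t) * w * (k ^ i * t)⁻¹ := by group
      _ = w := by rw [← mem_centralizer_iff.mp h2 w hw.2, mul_inv_cancel_right]
  have hmem : k ^ i ∈ centralizer ({w} : Set G) :=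
    mem_centralizer_singleton_iff.mpr (mul_inv_eq_iff_eq_mul.mp hkiw)
  have hk' : k ∈ centralizer ({w} : Set G) := zpowers_le.mpr hmem
    (zpowers_eq_of_mem hk3 (pow_mem (mem_zpowers k) i) hne ▸ mem_zpowers k)
  rw [mem_centralizer_singleton_iff.mp hk', mul_inv_cancel_right]

theorem sup_le_normalizer_cw (m : Main T K L) (hTK : T ≤ normalizer (K : Set G)) :
    K ⊔ T ≤ normalizer (cw T K : Set G) := by
  rw [← m.sup_inf_centralizer hTK]
  have h1 : K ⊔ T ≤ normalizer (Cfsg.wOf K : Set G) :=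
    (sup_le le_normalizer hTK).trans (normalizer_le_normalizer_wOf K)
  exact (le_inf le_normalizer fun g hg =>
    CompData.centralizer_le_S.normalizer_le_normalizer_centralizer_wOf (h1 hg)).trans
      inf_normalizer_le_normalizer_inf

theorem inf_T (m : Main T K L) : T ⊓ K = Cfsg.pCoreOf 2 K := by
  obtain ⟨k, hk, hk3, hfpf, hgen⟩ := m.exists_k
  refine le_antisymm (fun x hx => ?_) (le_inf m.pCoreOf_le_T (pCoreOf_le 2 K))
  obtain ⟨i, hi⟩ := hgen x hx.2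
  have hki : k ^ i ∈ T := by
    have h := mul_mem (inv_mem (m.pCoreOf_le_T hi)) hx.1
    simpa using h
  obtain ⟨n, hn⟩ := m.ctx.isPGroup ⟨_, hki⟩
  have h1 : k ^ i = 1 := orderOf_eq_one_iff.mp (Nat.eq_one_of_dvd_coprimes
    (Nat.Coprime.pow_left n (show Nat.Coprime 2 3 by decide))
    (orderOf_dvd_of_pow_eq_one (by simpa using congrArg Subtype.val hn))
    (hk3 ▸ orderOf_dvd_of_mem_zpowers (pow_mem (mem_zpowers k) i)))
  rw [h1, inv_one, mul_one] at hi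
  exact hi

theorem card_sup (m : Main T K L) (hTK : T ≤ normalizer (K : Set G)) :
    Nat.card ↥(K ⊔ T) = 6 * Nat.card ↥(cw T K) := by
  have hinf := m.inf_T
  have h := Ctx.img_le_closure.card_sup_mul_card_inf T K hTK
  rw [hinf, sup_comm, m.card_T hTK,
    ← CfsgLib.PLocal.card_mul_relIndex (pCoreOf_le 2 K), m.comp.2.2.1] at h
  refine Nat.eq_of_mul_eq_mul_right (Nat.card_pos (α := ↥(Cfsg.pCoreOf 2 K))) ?_
  rw [h]; ring

theorem not_le_T (m : Main T K L) : ¬ K ≤ T := by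
  intro h
  obtain ⟨k, hk, hk3, -, -⟩ := m.exists_k
  obtain ⟨n, hn⟩ := m.ctx.isPGroup ⟨k, h hk⟩
  have := Nat.eq_one_of_dvd_coprimes (Nat.Coprime.pow_left n (show Nat.Coprime 2 3 by decide))
    (orderOf_dvd_of_pow_eq_one (show k ^ 2 ^ n = 1 by simpa using congrArg Subtype.val hn)) hk3.dvd
  rw [hk3] at this
  omega

theorem isSylowTwoIn_sup (m : Main T K L) (hTK : T ≤ normalizer (K : Set G)) :
    Cfsg.IsSylowTwoIn T (K ⊔ T) := by
  refine ⟨le_sup_right, m.ctx.isPGroup, ?_⟩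
  have h := CfsgLib.PLocal.card_mul_relIndex (le_sup_right : T ≤ K ⊔ T)
  rw [m.card_sup hTK, m.card_T hTK] at h
  have h' : T.relIndex (K ⊔ T) = 3 :=
    Nat.eq_of_mul_eq_mul_left (Nat.mul_pos two_pos (Nat.card_pos (α := ↥(cw T K)))) (h.trans (by ring))
  rw [h']; decide

theorem pCoreOf_sup (m : Main T K L) (hTK : T ≤ normalizer (K : Set G)) :
    Cfsg.pCoreOf 2 (K ⊔ T) = cw T K := by
  refine le_antisymm ?_ (le_pCoreOf (inf_le_left.trans le_sup_right) (m.sup_le_normalizer_cw hTK)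
    (m.ctx.isPGroup.to_le inf_le_left))
  have h2 : Fact (Nat.Prime 2) := ⟨Nat.prime_two⟩
  set Q := Cfsg.pCoreOf 2 (K ⊔ T) with hQ
  have hQT : Q ≤ T := by
    have h := eq_of_sylowTwoIn_le (P := T ⊔ Q) (m.isSylowTwoIn_sup hTK) le_sup_left
      (sup_le le_sup_right (pCoreOf_le 2 _))
      (IsPGroup.to_sup_of_normal_right' m.ctx.isPGroup (isPGroup_pCoreOf 2 _)
        (le_sup_right.trans (le_normalizer_pCoreOf 2 _)))
    exact h ▸ le_sup_right
  intro q hq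
  by_contra hqn
  have hTQ : T ≤ Q := fun t ht => by
    have hcQ : cw T K ≤ Q := le_pCoreOf (inf_le_left.trans le_sup_right)
      (m.sup_le_normalizer_cw hTK) (m.ctx.isPGroup.to_le inf_le_left)
    by_cases htn : t ∈ cw T K
    · exact hcQ htn
    · have h := mul_mem hq (hcQ (m.inv_mul_mem_cw hTK (hQT hq) ht hqn htn))
      rwa [mul_inv_cancel_left] at h
  apply m.not_le_T
  rw [← m.comp.2.1, commutator_le]
  intro x hx j hj
  have hj' := CfsgLib.PLocal.thompsonSubgroupOf_le 2 T hj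
  exact mul_mem (hQT ((mem_normalizer_iff.mp (le_normalizer_pCoreOf 2 _ (mem_sup_left hx)) j).mp
    (hTQ hj'))) (inv_mem hj')

end Main

/-! ### Pairs -/

namespace Pair

variable {K₁ K₂ L₁ L₂ : Subgroup G}

theorem symm (p : Pair T K₁ K₂ L₁ L₂) : Pair T K₂ K₁ L₂ L₁ := ⟨p.two, p.one, p.ne.symm⟩

theorem map (p : Pair T K₁ K₂ L₁ L₂) (g : G) :
    Pair (T.map (MulAut.conj g).toMonoidHom) (K₁.map (MulAut.conj g).toMonoidHom)
      (K₂.map (MulAut.conj g).toMonoidHom) (L₁.map (MulAut.conj g).toMonoidHom)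
      (L₂.map (MulAut.conj g).toMonoidHom) :=
  ⟨p.one.map g, p.two.map g, fun e =>
    p.ne (Subgroup.map_injective (f := (MulAut.conj g).toMonoidHom) (MulAut.conj g).injective e)⟩

theorem not_le (p : Pair T K₁ K₂ L₁ L₂) : ¬ K₂ ≤ L₁ := fun h =>
  p.ne (p.one.above.max.2 _ p.two.above.max.1
    (p.two.above.top _ p.one.above.max.1 (sup_le h (le_sup_right.trans p.one.above.le)))).symm

theorem facts (p : Pair T K₁ K₂ L₁ L₂) : T ≤ normalizer (K₁ : Set G) ∧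
    Nat.card ↥(cen T K₁) ≤ 2 ∧ Nat.card ↥(jZ T) ≤ 4 ∧ Cfsg.omegaCenterOf T = jZ T := by
  obtain ⟨S, hS⟩ := p.one.ctx.isPGroup.exists_le_sylow
  exact p.one.of_other hS p.two.comp p.not_le

theorem T_le_normalizer (p : Pair T K₁ K₂ L₁ L₂) : T ≤ normalizer (K₁ : Set G) := p.facts.1

theorem jZ_le_centralizer (p : Pair T K₁ K₂ L₁ L₂) : jZ T ≤ centralizer (T : Set G) :=
  p.facts.2.2.2 ▸ omegaCenterOf_le_centralizer T

theorem jZ_le_T (p : Pair T K₁ K₂ L₁ L₂) : jZ T ≤ T := p.facts.2.2.2 ▸ omegaCenterOf_le T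

theorem jZ_le_cw (p : Pair T K₁ K₂ L₁ L₂) : jZ T ≤ cw T K₁ := fun _ hz =>
  ⟨p.jZ_le_T hz, Subgroup.centralizer_le p.one.wOf_le_T (p.jZ_le_centralizer hz)⟩

theorem core_eq_bot (p : Pair T K₁ K₂ L₁ L₂) :
    Cfsg.pCoreOf 2 ((K₁ ⊔ T) ⊔ (K₂ ⊔ T)) = ⊥ := by
  by_contra hne
  set Y := (K₁ ⊔ T) ⊔ (K₂ ⊔ T)
  have hY : Y ≤ normalizer (Cfsg.pCoreOf 2 Y : Set G) := le_normalizer_pCoreOf 2 Y
  have h := p.one.above.top _ ⟨_, isPGroup_pCoreOf 2 Y, hne, rfl⟩
    ((sup_le_sup_left (CfsgLib.PLocal.thompsonSubgroupOf_le 2 T) K₁).trans (le_sup_left.trans hY))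
  exact p.not_le ((le_sup_left.trans (le_sup_right.trans hY)).trans h)

end Pair

end CfsgLib.JComp
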