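import Cfsg.Agent.JComp.Setup

/-!
Inverting pairs `(τ, k)` in `L`: a `2`-element inducing a transvection and an element of order `3`
inducing its block element, inverted modulo `O₂(L)`. The block element determines `k` modulo `O₂(L)`.
-/

set_option autoImplicit false

namespace CfsgLib.JComp

open Subgroup
open scoped IsMulCommutative

variable {G : Type*} [Group G] [Finite G]

/-- `L → L / O₂(L)`. -/
abbrev qm (L : Subgroup G) : L →* L ⧸ Cfsg.pCore 2 L := QuotientGroup.mk' (Cfsg.pCore 2 L)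

/-- A `2`-element inducing a transvection and an element of order `3` inducing a block element, inverted
modulo `O₂(L)`. -/
structure IsPair (L : Subgroup G) (τ k : L) : Prop where
  two : ∃ n : ℕ, τ ^ 2 ^ n = 1
  trans : IsTransvection (VOf L) (bar L τ)
  order : orderOf k = 3
  block : IsBlockElt (VOf L) (Cfsg.fittingSubgroup (Gam L)) (bar L k)
  inv : qm L (τ * k * τ⁻¹) = (qm L k)⁻¹

theorem bar_eq_of_qm_eq {L : Subgroup G} {x y : L} (h : qm L x = qm L y) :
    bar L x = bar L y := by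
  rw [QuotientGroup.mk'_eq_mk'] at h
  obtain ⟨z, hz, rfl⟩ := h
  rw [map_mul]
  have h1 : bar L z = 1 := by
    refine bar_eq_one_iff.mpr (mem_centralizer_iff.mpr fun v hv => ?_)
    exact (mem_centralizer_iff.mp (omegaCenterOf_le_centralizer _ hv) z ⟨z, hz, rfl⟩).symm
  rw [h1, mul_one]

theorem IsPair.bar_inv {L : Subgroup G} {τ k : L} (h : IsPair L τ k) :
    bar L τ * bar L k * bar L τ = (bar L k)⁻¹ := by
  have h1 := bar_eq_of_qm_eq (h.inv.trans (map_inv (qm L) k).symm)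
  rwa [map_mul, map_mul, map_inv, map_inv, inv_eq_of_mul_eq_one_right h.trans.1] at h1

theorem IsPair.pow_three {L : Subgroup G} {τ k : L} (h : IsPair L τ k) : k ^ 3 = 1 :=
  h.order ▸ pow_orderOf_eq_one k

theorem IsPair.inv_right {L : Subgroup G} {τ k : L} (h : IsPair L τ k) : IsPair L τ k⁻¹ := by
  refine ⟨h.two, h.trans, by rw [orderOf_inv, h.order], by rw [map_inv]; exact h.block.inv, ?_⟩
  rw [← conj_inv, map_inv, h.inv, map_inv]

namespace Ctx

variable {T L : Subgroup G}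

/-- A `2`-element of `L` centralising `V` lies in `O₂(L)`. -/
theorem mem_pCore_of_bar_eq_one (h : Ctx T L) {x : L} (hx : bar L x = 1) {n : ℕ}
    (hn : x ^ 2 ^ n = 1) : x ∈ Cfsg.pCore 2 L := by
  have h2 : Fact (Nat.Prime 2) := ⟨Nat.prime_two⟩
  obtain ⟨m, -, hm⟩ := (Nat.dvd_prime_pow Nat.prime_two).mp (orderOf_dvd_of_pow_eq_one hn)
  obtain ⟨P, hP⟩ := (IsPGroup.of_card (n := m) (by rw [Nat.card_zpowers, hm]) :
    IsPGroup 2 (zpowers x)).exists_le_sylow
  obtain ⟨P₀, hP₀⟩ := h.exists_sylow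
  obtain ⟨g, hg⟩ := MulAction.exists_smul_eq L P₀ P
  have hxP : x ∈ (P₀ : Subgroup L).map (MulAut.conj g).toMonoidHom := by
    have h1 : x ∈ ((g • P₀ : Sylow 2 L) : Subgroup L) := by rw [hg]; exact hP (mem_zpowers x)
    exact h1
  obtain ⟨y, hy, rfl⟩ := hxP
  rw [SetLike.mem_coe, hP₀, mem_subgroupOf] at hy
  have hby : bar L y = 1 := by
    have h1 : bar L (g * y * g⁻¹) = 1 := hx
    rw [map_mul, map_mul, map_inv, mul_inv_eq_one, mul_eq_left] at h1
    exact h1
  have hmem : y ∈ Cfsg.pCore 2 L := by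
    have h1 := h.centralizer_inf_le ⟨⟨y.2, bar_eq_one_iff.mp hby⟩, hy⟩
    obtain ⟨z, hz, hzy⟩ := h1
    rwa [← Subtype.ext (a1 := z) (a2 := y) hzy]
  exact (inferInstance : (Cfsg.pCore 2 L).Normal).conj_mem y hmem g

/-- `C_L(V)` is central relative to `2`-elements modulo `O₂(L)`. -/
theorem qm_commute (h : Ctx T L) {c τ : L} (hc : bar L c = 1) {n : ℕ} (hτ : τ ^ 2 ^ n = 1) :
    Commute (qm L c) (qm L τ) := by
  have h2 : Fact (Nat.Prime 2) := ⟨Nat.prime_two⟩
  obtain ⟨m, -, hm⟩ := (Nat.dvd_prime_pow Nat.prime_two).mp (orderOf_dvd_of_pow_eq_one hτ)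
  obtain ⟨P, hP⟩ := (IsPGroup.of_card (n := m) (by rw [Nat.card_zpowers, hm]) :
    IsPGroup 2 (zpowers τ)).exists_le_sylow
  obtain ⟨P₀, hP₀⟩ := h.exists_sylow
  obtain ⟨g, hg⟩ := MulAction.exists_smul_eq L P₀ P
  have hxP : τ ∈ (P₀ : Subgroup L).map (MulAut.conj g).toMonoidHom := by
    have h1 : τ ∈ ((g • P₀ : Sylow 2 L) : Subgroup L) := by rw [hg]; exact hP (mem_zpowers τ)
    exact h1
  obtain ⟨y, hy, rfl⟩ := hxP
  rw [SetLike.mem_coe, hP₀, mem_subgroupOf] at hy
  set d := g⁻¹ * c * g with hd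
  have hbd : bar L d = 1 := by rw [hd, map_mul, map_mul, map_inv, hc, mul_one, inv_mul_cancel]
  obtain ⟨z, hz, hzy⟩ := h.commutator_mem (c := (d : G)) ⟨d.2, bar_eq_one_iff.mp hbd⟩ hy
  have hz' : d * y * d⁻¹ * y⁻¹ ∈ Cfsg.pCore 2 L := by
    have e : z = d * y * d⁻¹ * y⁻¹ := Subtype.ext (by simpa using hzy)
    rwa [← e]
  have hcomm : Commute (qm L d) (qm L y) := by
    have h1 : qm L (d * y * d⁻¹ * y⁻¹) = 1 := (QuotientGroup.eq_one_iff _).mpr hz'
    rw [map_mul, map_mul, map_mul, map_inv, map_inv, mul_inv_eq_one, mul_inv_eq_iff_eq_mul] at h1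
    exact h1
  have e1 : c = g * d * g⁻¹ := by rw [hd]; group
  have h3 := hcomm.map (MulAut.conj (qm L g)).toMonoidHom
  simp only [MulEquiv.coe_toMonoidHom, MulAut.conj_apply, ← map_inv, ← map_mul] at h3
  rw [e1]
  exact h3

/-- `C_L(V) / O₂(L)` has no involution. -/
theorem qm_eq_one (h : Ctx T L) {c : L} (hc : bar L c = 1) (h2 : qm L c ^ 2 = 1) :
    qm L c = 1 := by
  rw [← map_pow, QuotientGroup.mk'_apply, QuotientGroup.eq_one_iff] at h2
  obtain ⟨m, hm⟩ := CfsgLib.PLocal.isPGroup_pCore 2 L ⟨_, h2⟩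
  have hm' : c ^ 2 ^ (m + 1) = 1 := by
    rw [pow_succ', pow_mul]; simpa using congrArg Subtype.val hm
  exact (QuotientGroup.eq_one_iff c).mpr (h.mem_pCore_of_bar_eq_one hc hm')

/-- An element inverted by a pair commutes with `C_L(V)` modulo `O₂(L)`. -/
theorem pair_commute (h : Ctx T L) {τ k c : L} (hp : IsPair L τ k) (hc : bar L c = 1) :
    Commute (qm L c) (qm L k) := by
  obtain ⟨n, hn⟩ := hp.two
  have hc' : bar L (k * c * k⁻¹) = 1 := by
    rw [map_mul, map_mul, map_inv, hc, mul_one, mul_inv_cancel]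
  have h1 := (h.qm_commute hc hn).eq
  have h2 := (h.qm_commute hc' hn).eq
  have h3 := hp.inv
  simp only [map_mul, map_inv] at h2 h3
  set K := qm L k
  set t := qm L τ
  set C := qm L c
  have h4 : K * C * K⁻¹ = K⁻¹ * C * K := by
    calc K * C * K⁻¹ = t * (K * C * K⁻¹) * t⁻¹ := by rw [← h2, mul_inv_cancel_right]
      _ = (t * K * t⁻¹) * (t * C * t⁻¹) * (t * K * t⁻¹)⁻¹ := by group
      _ = K⁻¹ * C * K := by rw [h3, ← h1, mul_inv_cancel_right, inv_inv]
  have hK3 : K ^ 3 = 1 := by rw [← map_pow, hp.pow_three, map_one]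
  have hK2 : K * K = K⁻¹ := by
    rw [← mul_eq_one_iff_eq_inv, mul_assoc, ← pow_two, ← pow_succ', hK3]
  have h5 : C * (K * K) = (K * K) * C := by
    calc C * (K * K) = K * (K⁻¹ * C * K) * K := by group
      _ = K * (K * C * K⁻¹) * K := by rw [h4]
      _ = (K * K) * C := by group
  rw [hK2] at h5
  have h6 : Commute C K⁻¹ := h5
  have h7 := h6.inv_right
  rwa [inv_inv] at h7

/-- The block element determines `k` modulo `O₂(L)`. -/
theorem pair_unique (h : Ctx T L) {τ k τ' k' : L} (hp : IsPair L τ k) (hp' : IsPair L τ' k')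
    (hbar : bar L k' = bar L k) : qm L k' = qm L k := by
  obtain ⟨n, hn⟩ := hp.two
  obtain ⟨n', hn'⟩ := hp'.two
  have hτ'inv : bar L τ' * bar L k * bar L τ' = (bar L k)⁻¹ := by
    have h1 := hp'.bar_inv; rwa [hbar] at h1
  have hmem := hp.block.mul_mem_zpowers h.setting hp.trans hp.bar_inv hp'.trans hτ'inv
  obtain ⟨e, he⟩ := mem_zpowers_iff.mp hmem
  -- `τ' = τ k^e c₁` and `k' = k c`
  set c := k⁻¹ * k'
  set c₁ := (τ * k ^ e)⁻¹ * τ'
  have hc : bar L c = 1 := by rw [map_mul, map_inv, hbar, inv_mul_cancel]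
  have hc₁ : bar L c₁ = 1 := by
    rw [map_mul, map_inv, map_mul, map_zpow, he, ← mul_assoc, hp.trans.1, one_mul, inv_mul_cancel]
  set K := qm L k
  set t := qm L τ
  set C := qm L c
  set D := qm L c₁
  have hk' : qm L k' = K * C := by simp [K, C, c]
  have ht' : qm L τ' = t * K ^ e * D := by
    rw [← map_zpow, ← map_mul, ← map_mul]
    congr 1
    show τ' = τ * k ^ e * ((τ * k ^ e)⁻¹ * τ')
    rw [mul_inv_cancel_left]
  have hinv : t * K * t⁻¹ = K⁻¹ := by
    have := hp.inv; simpa only [map_mul, map_inv] using this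
  have hCt : Commute C t := h.qm_commute hc hn
  have hCt' : Commute C (qm L τ') := h.qm_commute hc hn'
  have hCK : Commute C K := h.pair_commute hp hc
  have hDt : Commute D t := h.qm_commute hc₁ hn
  have hDK : Commute D K := h.pair_commute hp hc₁
  have hsq : ∀ (σ : L), IsTransvection (VOf L) (bar L σ) → (∃ m : ℕ, σ ^ 2 ^ m = 1) →
      qm L σ * qm L σ = 1 := by
    rintro σ hσ ⟨m, hm⟩
    rw [← map_mul]
    refine (QuotientGroup.eq_one_iff _).mpr
      (h.mem_pCore_of_bar_eq_one (n := m) (by rw [map_mul]; exact hσ.1) ?_)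
    rw [← pow_two, ← pow_mul, mul_comm, pow_mul, hm, one_pow]
  have htt := hsq τ hp.trans hp.two
  have ht't' := hsq τ' hp'.trans hp'.two
  have htK : t * K ^ e * (t * K ^ e) = 1 := by
    have h1 : t * K ^ e * t⁻¹ = (K ^ e)⁻¹ := by rw [← conj_zpow, hinv, inv_zpow]
    have hti : t⁻¹ = t := inv_eq_of_mul_eq_one_right htt
    rw [hti] at h1
    rw [← mul_assoc, h1, inv_mul_cancel]
  have hD : D = 1 := by
    refine h.qm_eq_one hc₁ ?_
    have hDx : Commute D (t * K ^ e) := hDt.mul_right (hDK.zpow_right e)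
    rw [ht'] at ht't'
    calc D ^ 2 = (t * K ^ e * (t * K ^ e)) * (D * D) := by rw [htK, one_mul, pow_two]
      _ = t * K ^ e * D * (t * K ^ e * D) := by
          simp only [← mul_assoc]
          rw [mul_assoc (t * K ^ e) D t, mul_assoc (t * K ^ e), mul_assoc (t * K ^ e) (D * t),
            mul_assoc D t, hDx.eq]
          simp only [mul_assoc]
      _ = 1 := ht't'
  have hC : C = 1 := by
    refine h.qm_eq_one hc ?_
    have h1 : qm L τ' * (K * C) * (qm L τ')⁻¹ = (K * C)⁻¹ := by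
      have := hp'.inv; simp only [map_mul, map_inv, hk'] at this; exact this
    have h2 : qm L τ' * K * (qm L τ')⁻¹ = K⁻¹ := by
      rw [ht', hD, mul_one, mul_inv_rev]
      calc t * K ^ e * K * ((K ^ e)⁻¹ * t⁻¹) = t * (K ^ e * K * (K ^ e)⁻¹) * t⁻¹ := by group
        _ = K⁻¹ := by rw [((Commute.refl K).zpow_left e).eq, mul_inv_cancel_right, hinv]
    have h3 : qm L τ' * (K * C) * (qm L τ')⁻¹ = K⁻¹ * C := by
      calc _ = qm L τ' * K * (qm L τ')⁻¹ * (qm L τ' * C * (qm L τ')⁻¹) := by group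
        _ = _ := by rw [h2, ← hCt'.eq, mul_inv_cancel_right]
    rw [h3, mul_inv_rev] at h1
    have h4 : K⁻¹ * C = K⁻¹ * C⁻¹ := by rw [h1, (hCK.inv_left.inv_right).eq]
    rw [pow_two]
    exact mul_eq_one_iff_eq_inv.mpr (mul_left_cancel h4)
  rw [hk', hC, mul_one]

/-- Every involution inducing a transvection inverts an element of order `3` inducing its block. -/
theorem exists_pair (h : Ctx T L) {τ : L} (hτ : τ * τ = 1)
    (ht : IsTransvection (VOf L) (bar L τ)) : ∃ k : L, IsPair L τ k := by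
  obtain ⟨y, hy, hyinv⟩ := h.setting.exists_inverted ht
  obtain ⟨x, rfl⟩ := bar_surjective L y
  have hτi : τ⁻¹ = τ := inv_eq_of_mul_eq_one_right hτ
  set k₀ := x⁻¹ * (τ * x * τ) with hk₀
  have hk₀inv : τ * k₀ * τ⁻¹ = k₀⁻¹ := by
    rw [hk₀, mul_inv_rev, mul_inv_rev, mul_inv_rev, hτi, inv_inv]
    simp only [mul_assoc]
    rw [hτ, mul_one]
  have hbk₀ : bar L k₀ = bar L x := by
    rw [hk₀, map_mul, map_inv, map_mul, map_mul, hyinv]
    have h3 := hy.pow_three
    rw [pow_succ, pow_two] at h3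
    rw [← mul_inv_rev, inv_eq_of_mul_eq_one_right h3]
  obtain ⟨a, m, hm, hord⟩ := Nat.exists_eq_two_pow_mul_odd (orderOf_pos k₀).ne'
  set k := k₀ ^ 2 ^ a with hk
  have hkinv : τ * k * τ⁻¹ = k⁻¹ := by rw [hk, ← conj_pow, hk₀inv, inv_pow]
  have hkodd : Odd (orderOf k) := by
    rw [hk, orderOf_pow, hord, Nat.gcd_mul_right_left, Nat.mul_div_cancel_left _ (by positivity)]
    exact hm
  have hbk : bar L k = bar L x ∨ bar L k = (bar L x)⁻¹ := by
    refine eq_or_eq_inv_of_mem_zpowers hy.order ?_ ?_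
    · rw [hk, map_pow, hbk₀]; exact pow_mem (mem_zpowers _) _
    · rw [hk, map_pow, hbk₀]
      intro e
      have h1 := orderOf_dvd_of_pow_eq_one e
      rw [hy.order] at h1
      have := Nat.Prime.dvd_of_dvd_pow (by norm_num) h1
      omega
  have hblock : IsBlockElt (VOf L) (Cfsg.fittingSubgroup (Gam L)) (bar L k) := by
    rcases hbk with e | e <;> rw [e]
    exacts [hy, hy.inv]
  have hk3 : bar L (k ^ 3) = 1 := by rw [map_pow, hblock.pow_three]
  have hτ1 : τ ^ 2 ^ 1 = 1 := by rw [pow_one, pow_two, hτ]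
  have hcomm := (h.qm_commute hk3 hτ1).eq
  have hinv3 : qm L τ * qm L (k ^ 3) * (qm L τ)⁻¹ = (qm L (k ^ 3))⁻¹ := by
    rw [← map_inv, ← map_inv, ← map_mul, ← map_mul, ← conj_pow, hkinv, inv_pow]
  rw [← hcomm, mul_inv_cancel_right] at hinv3
  have hq3 : qm L (k ^ 3) = 1 := h.qm_eq_one hk3 (by
    rw [pow_two]; nth_rewrite 1 [hinv3]; rw [inv_mul_cancel])
  rw [QuotientGroup.mk'_apply, QuotientGroup.eq_one_iff] at hq3
  obtain ⟨j, hj⟩ := CfsgLib.PLocal.isPGroup_pCore 2 L ⟨_, hq3⟩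
  have hj' : (k ^ 3) ^ 2 ^ j = 1 := by simpa using congrArg Subtype.val hj
  have hk3' : k ^ 3 = 1 := orderOf_eq_one_iff.mp (Nat.eq_one_of_dvd_coprimes
    (Nat.Coprime.pow_left j (Nat.coprime_two_left.mpr hkodd))
    (orderOf_dvd_of_pow_eq_one hj') (orderOf_pow_dvd 3))
  refine ⟨k, ⟨1, hτ1⟩, ht, orderOf_eq_prime hk3' fun e => hblock.ne_one (by rw [e, map_one]),
    hblock, ?_⟩
  rw [hkinv, map_inv]

end Ctx

end CfsgLib.JComp
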