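import Cfsg.Agent.JComp.Center
import Cfsg.Prelude.Def_CaseTheorems

/-!
Components with `J(T)` the Thompson subgroup of the Sylow subgroups of `N(W_K)` containing it.
-/

set_option autoImplicit false

namespace CfsgLib.JComp

open Subgroup
open scoped IsMulCommutative commutatorElement

variable {G : Type*} [Group G] [Finite G]

/-- Conjugate Thompson subgroups: if `J(P)` lies in `R`, and `P`, `R` have the same invariants, it is `J(R)`. -/
theorem thompson_eq_of_invariants {P R : Subgroup G}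
    (hJ : Cfsg.thompsonSubgroupOf 2 P ≤ R)
    (hrank : ∃ A ∈ CfsgLib.PLocal.maxEAIn 2 P, ∃ B ∈ CfsgLib.PLocal.maxEAIn 2 R,
      Nat.card A = Nat.card B)
    (hcard : Nat.card ↥(Cfsg.thompsonSubgroupOf 2 R) ≤ Nat.card ↥(Cfsg.thompsonSubgroupOf 2 P)) :
    Cfsg.thompsonSubgroupOf 2 P = Cfsg.thompsonSubgroupOf 2 R := by
  obtain ⟨A, hA, B, hB, hAB⟩ := hrank
  refine Subgroup.eq_of_le_of_card_ge ?_ hcard
  rw [CfsgLib.PLocal.thompsonSubgroupOf_eq 2 P]
  refine sSup_le fun C hC => CfsgLib.PLocal.le_thompsonSubgroupOf ?_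
  refine ⟨(CfsgLib.PLocal.le_thompsonSubgroupOf hC).trans hJ, hC.2.1, fun D hD hDe => ?_⟩
  exact ((hB.2.2 D hD hDe).trans hAB.ge).trans (hC.2.2 A hA.1 hA.2.1)

/-- Invariants of conjugate subgroups. -/
theorem exists_member_card_map (e : G ≃* G) (P : Subgroup G) :
    ∀ A ∈ CfsgLib.PLocal.maxEAIn 2 P, A.map e.toMonoidHom ∈
      CfsgLib.PLocal.maxEAIn 2 (P.map e.toMonoidHom) ∧ Nat.card (A.map e.toMonoidHom) = Nat.card A := by
  intro A hA
  rw [CfsgLib.PLocal.map_maxEAIn (f := e.toMonoidHom) e.injective]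
  exact ⟨⟨A, hA, rfl⟩, card_map_of_injective (f := e.toMonoidHom) e.injective⟩

/-- A nontrivial `2`-subgroup normalised by `X` lies in `O₂(X)`; hence `C_G(O₂(X)) ≤ O₂(X)` for a
`2`-local subgroup `X` in characteristic `2` type. -/
theorem centralizer_pCoreOf_le (hL : Cfsg.IsCharacteristicTwoType G) {T : Subgroup G}
    (hT : IsPGroup 2 T) (hT1 : T ≠ ⊥) :
    centralizer (Cfsg.pCoreOf 2 (normalizer (T : Set G)) : Set G) ≤
      Cfsg.pCoreOf 2 (normalizer (T : Set G)) := by
  set X := normalizer (T : Set G)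
  have hTQ : T ≤ Cfsg.pCoreOf 2 X := le_pCoreOf le_normalizer le_rfl hT
  intro c hc
  have hcX : c ∈ X := Subgroup.centralizer_le_normalizer _ (centralizer_le hTQ hc)
  refine ⟨⟨c, hcX⟩, hL.2 T hT hT1 (mem_centralizer_iff.mpr fun y hy => Subtype.ext ?_), rfl⟩
  exact mem_centralizer_iff.mp hc y ⟨y, hy, rfl⟩

/-- The member of the family attached to a component in `jComponentsZero`. -/
theorem exists_zero_ctx (hL : Cfsg.IsCharacteristicTwoType G)
    (hN : ∀ N : Subgroup G, Cfsg.IsTwoLocal N → Group.IsSolvable ↥N)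
    (hZ : ∀ S : Sylow 2 G, centralizer (Cfsg.omegaCenterOf (S : Subgroup G) : Set G) ≤
      normalizer ((S : Subgroup G) : Set G)) {T K : Subgroup G} (hT : IsPGroup 2 T)
    (hK : K ∈ Cfsg.jComponentsZero T) :
    ∃ S : Subgroup G, Cfsg.thompsonSubgroupOf 2 S = Cfsg.thompsonSubgroupOf 2 T ∧
      Ctx S (normalizer (Cfsg.wOf K : Set G)) ∧ Cfsg.IsJComponent S K := by
  obtain ⟨S₀, k, d⟩ := exists_compData hT hK.1
  set W := Cfsg.wOf K
  set J := Cfsg.thompsonSubgroupOf 2 T
  set X := normalizer (W : Set G)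
  have hJp : IsPGroup 2 J := hT.to_le (CfsgLib.PLocal.thompsonSubgroupOf_le 2 T)
  obtain ⟨P, hP⟩ := (IsPGroup.comap_subtype hJp : IsPGroup 2 (J.subgroupOf X)).exists_le_sylow
  set S := (P : Subgroup X).map X.subtype with hSdef
  have hJS : J ≤ S := fun x hx => ⟨⟨x, d.J_le_normalizer hx⟩, hP hx, rfl⟩
  have hS : Cfsg.IsSylowTwoIn S X := by
    refine ⟨map_subtype_le _, P.isPGroup'.map _, ?_⟩
    rw [Subgroup.relIndex, hSdef, subgroupOf, comap_map_eq_self_of_injective X.subtype_injective]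
    exact Nat.not_even_iff_odd.mp fun he => P.not_dvd_index (even_iff_two_dvd.mp he)
  have hJS' := hK.2 S hJS hS
  have hKS : Cfsg.IsJComponent S K := isJComponent_congr hJS' hK.1
  have hKX : K ≤ X := le_normalizer.trans (normalizer_le_normalizer_wOf K)
  have hWp : IsPGroup 2 W := CfsgLib.PLocal.isPGroup_of_isElementaryAbelian d.wOf_elem
  refine ⟨S, hJS', ctx_of_mem hN hZ ⟨hS, ?_, centralizer_pCoreOf_le hL hWp d.wOf_ne_bot⟩, hKS⟩
  intro hle
  rw [hJS'] at hle
  have hKQ : K ≤ Cfsg.pCoreOf 2 X := by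
    conv_lhs => rw [← hK.1.2.1]
    rw [commutator_le]
    intro g hg j hj
    exact mul_mem ((mem_normalizer_iff.mp (le_normalizer_pCoreOf 2 X (hKX hg)) j).mp (hle hj))
      (inv_mem (hle hj))
  have h1 : zpowers k = ⊥ := by
    refine CfsgLib.PLocal.eq_bot_of_isPGroup_of_coprime (p := 2)
      ((isPGroup_pCoreOf 2 X).to_le (zpowers_le.mpr (hKQ d.memk))) ?_
    rw [Nat.card_zpowers, d.ordk]; decide
  have h2 := Nat.card_zpowers k
  rw [h1, Subgroup.card_bot, d.ordk] at h2
  omega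

/-- `N(K) = N(W_K)`, and `K` is a component for every conjugate `J(T)` normalising `W_K`. -/
theorem zero_normalizer (hL : Cfsg.IsCharacteristicTwoType G)
    (hN : ∀ N : Subgroup G, Cfsg.IsTwoLocal N → Group.IsSolvable ↥N)
    (hZ : ∀ S : Sylow 2 G, centralizer (Cfsg.omegaCenterOf (S : Subgroup G) : Set G) ≤
      normalizer ((S : Subgroup G) : Set G)) {T K : Subgroup G} (hT : IsPGroup 2 T)
    (hK : K ∈ Cfsg.jComponentsZero T) :
    normalizer (K : Set G) = normalizer (Cfsg.wOf K : Set G) ∧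
      ∀ g : G, Cfsg.thompsonSubgroupOf 2 (T.map (MulAut.conj g).toMonoidHom) ≤
          normalizer (Cfsg.wOf K : Set G) →
        Cfsg.IsJComponent (T.map (MulAut.conj g).toMonoidHom) K := by
  obtain ⟨S, hJS, h, hKS⟩ := exists_zero_ctx hL hN hZ hT hK
  set W := Cfsg.wOf K
  set X := normalizer (W : Set G)
  have hKX : K ≤ X := le_normalizer.trans (normalizer_le_normalizer_wOf K)
  obtain ⟨w, hw, hw1⟩ : ∃ w ∈ W, w ≠ 1 := by
    by_contra hno
    push_neg at hno
    have h4 := hK.1.2.2.2.2.1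
    have h5 : Nat.card W = 4 := h4
    rw [(Subgroup.eq_bot_iff_forall _).mpr hno, Subgroup.card_bot] at h5
    omega
  have hXK : X ≤ normalizer (K : Set G) := fun g hg =>
    h.mem_normalizer_component hKS hKX hg hw hw1 ((mem_normalizer_iff.mp hg w).mp hw)
  refine ⟨le_antisymm (normalizer_le_normalizer_wOf K) hXK, fun g hg => ?_⟩
  set T' := T.map (MulAut.conj g).toMonoidHom
  set J' := Cfsg.thompsonSubgroupOf 2 T'
  have hJ'p : IsPGroup 2 J' := (hT.map _).to_le (CfsgLib.PLocal.thompsonSubgroupOf_le 2 T')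
  obtain ⟨P, hP⟩ := (IsPGroup.comap_subtype hJ'p : IsPGroup 2 (J'.subgroupOf X)).exists_le_sylow
  set S'' := (P : Subgroup X).map X.subtype with hSdef
  have hJS'' : J' ≤ S'' := fun x hx => ⟨⟨x, hg hx⟩, hP hx, rfl⟩
  have hS'' : Cfsg.IsSylowTwoIn S'' X := by
    refine ⟨map_subtype_le _, P.isPGroup'.map _, ?_⟩
    rw [Subgroup.relIndex, hSdef, subgroupOf, comap_map_eq_self_of_injective X.subtype_injective]
    exact Nat.not_even_iff_odd.mp fun he => P.not_dvd_index (even_iff_two_dvd.mp he)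
  obtain ⟨x, hxX, hxS⟩ := exists_conj_of_isSylowTwoIn h.mem.1 hS''
  have hJ' : J' = Cfsg.thompsonSubgroupOf 2 S'' := by
    refine thompson_eq_of_invariants hJS'' ?_ ?_
    · obtain ⟨A, hA⟩ := CfsgLib.PLocal.maxEAIn_nonempty 2 T
      have hAS : A ∈ CfsgLib.PLocal.maxEAIn 2 S := by rwa [maxEAIn_eq_of_thompson_eq hJS]
      obtain ⟨h1, h1'⟩ := exists_member_card_map (MulAut.conj g) T A hA
      obtain ⟨h2, h2'⟩ := exists_member_card_map (MulAut.conj x) S A hAS
      exact ⟨_, h1, _, hxS ▸ h2, h1'.trans h2'.symm⟩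
    · refine le_of_eq ?_
      rw [← hxS, ← map_thompson, ← map_thompson, hJS,
        card_map_of_injective (f := (MulAut.conj x).toMonoidHom) (MulAut.conj x).injective,
        card_map_of_injective (f := (MulAut.conj g).toMonoidHom) (MulAut.conj g).injective]
  have h3 := isJComponent_map (MulAut.conj x) hKS
  have hKx : K.map (MulAut.conj x).toMonoidHom = K := mem_normalizer_iff_map_conj_eq.mp (hXK hxX)
  rw [hxS, hKx] at h3
  exact isJComponent_congr hJ' h3

end CfsgLib.JComp
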