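import Cfsg.Agent.JComp.Sn
import Cfsg.Agent.JComp.Zero

/-!
Recognition of a component: if `K ≤ L` is subnormal in `⟨K, J(T)⟩` and is a component for some conjugate
of `T`, then `J(T)` normalises `K` or `W_K`.
-/

set_option autoImplicit false

namespace CfsgLib.JComp

open Subgroup
open scoped IsMulCommutative commutatorElement

variable {G : Type*} [Group G] [Finite G]

/-- The set-up of the recognition lemma. -/
structure RecData (T L K : Subgroup G) (k : L) : Prop where
  ctx : Ctx T L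
  three : IsThree K
  card : Nat.card (Cfsg.wOf K) = 4
  le : K ≤ L
  sn : (K.subgroupOf (K ⊔ Cfsg.thompsonSubgroupOf 2 T)).IsSubnormal
  memk : (k : G) ∈ K
  ordk : orderOf (k : G) = 3
  gen : ∀ x ∈ K, ∃ i : ℕ, x * ((k : G) ^ i)⁻¹ ∈ Cfsg.pCoreOf 2 K

namespace RecData

variable {T L K : Subgroup G} {k : L}

theorem Y_le (d : RecData T L K k) : K ⊔ Cfsg.thompsonSubgroupOf 2 T ≤ L :=
  sup_le d.le d.ctx.J_le

theorem P_le (d : RecData T L K k) :
    Cfsg.pCoreOf 2 K ≤ Cfsg.pCoreOf 2 (K ⊔ Cfsg.thompsonSubgroupOf 2 T) := by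
  set Y := K ⊔ Cfsg.thompsonSubgroupOf 2 T
  have hPY : Cfsg.pCoreOf 2 K ≤ Y := (pCoreOf_le 2 K).trans le_sup_left
  have h : (Cfsg.pCoreOf 2 K).subgroupOf Y ≤ Cfsg.pCore 2 Y :=
    CfsgLib.PLocal.le_pCore_of_le_isSubnormal d.sn _ (fun x hx => pCoreOf_le 2 K hx)
      (fun g hg => by
        refine mem_normalizer_iff.mpr fun x => ?_
        exact mem_normalizer_iff.mp (le_normalizer_pCoreOf 2 K hg) (x : G))
      (IsPGroup.comap_subtype (isPGroup_pCoreOf 2 K))
  exact fun x hx => ⟨⟨x, hPY hx⟩, h hx, rfl⟩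

theorem R_le_normalizer_K (d : RecData T L K k) :
    Cfsg.pCoreOf 2 (K ⊔ Cfsg.thompsonSubgroupOf 2 T) ≤ normalizer (K : Set G) :=
  pCoreOf_le_normalizer_of_subnormal le_sup_left d.sn d.three.gen

theorem R_le_normalizer_J (d : RecData T L K k) :
    Cfsg.pCoreOf 2 (K ⊔ Cfsg.thompsonSubgroupOf 2 T) ≤
      normalizer (Cfsg.thompsonSubgroupOf 2 T : Set G) := by
  set J := Cfsg.thompsonSubgroupOf 2 T
  set R := Cfsg.pCoreOf 2 (K ⊔ J)
  have hJp : IsPGroup 2 J := d.ctx.isPGroup.to_le (CfsgLib.PLocal.thompsonSubgroupOf_le 2 T)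
  have hsup : IsPGroup 2 ↥(R ⊔ J) := IsPGroup.to_sup_of_normal_left' (isPGroup_pCoreOf 2 _) hJp
    (le_sup_right.trans (le_normalizer_pCoreOf 2 (K ⊔ J)))
  have hL : R ⊔ J ≤ L := sup_le ((pCoreOf_le 2 _).trans d.Y_le) d.ctx.J_le
  have h := thompson_eq_of_le d.ctx.mem.1 hL hsup le_sup_right
  have h1 := CfsgLib.PLocal.normalizer_le_normalizer_thompsonSubgroupOf 2 (R ⊔ J)
  rw [h] at h1
  exact (le_sup_left.trans le_normalizer).trans h1

theorem pow_three (d : RecData T L K k) : k ^ 3 = 1 := by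
  refine Subtype.ext ?_
  rw [Subgroup.coe_pow, ← d.ordk, pow_orderOf_eq_one, Subgroup.coe_one]

/-- An element of `O₂(K)` commutes modulo `C(V)` with block elements induced from `⟨K, J⟩`. -/
theorem commute_block (d : RecData T L K k) {p u : L} (hp : (p : G) ∈ Cfsg.pCoreOf 2 K)
    (hu : (u : G) ∈ K ⊔ Cfsg.thompsonSubgroupOf 2 T)
    (hy : bar L u ∈ blockGroup (VOf L) (Cfsg.fittingSubgroup (Gam L))) :
    Commute (bar L p) (bar L u) := by
  set Y := K ⊔ Cfsg.thompsonSubgroupOf 2 T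
  set R := Cfsg.pCoreOf 2 Y
  set c := p * u * p⁻¹ * u⁻¹
  have hR : (c : G) ∈ R := by
    have h1 : (u : G) * (p : G)⁻¹ * (u : G)⁻¹ ∈ R :=
      (mem_normalizer_iff.mp (le_normalizer_pCoreOf 2 Y hu) _).mp (R.inv_mem (d.P_le hp))
    have := R.mul_mem (d.P_le hp) h1
    simpa [c, mul_assoc] using this
  have hB : bar L c ∈ blockGroup (VOf L) (Cfsg.fittingSubgroup (Gam L)) := by
    simp only [c, map_mul, map_inv]
    exact mul_mem (d.ctx.setting.blockGroup_normal.conj_mem _ hy _) (inv_mem hy)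
  have hodd : Odd (orderOf (bar L c)) :=
    odd_orderOf_mem d.ctx.setting.odd ((closure_le _).mpr (fun y hy => hy.mem) hB)
  obtain ⟨n, hn⟩ := isPGroup_pCoreOf 2 Y ⟨_, hR⟩
  have hn' : c ^ 2 ^ n = 1 := Subtype.ext (by simpa using congrArg Subtype.val hn)
  have h1 : bar L c = 1 := orderOf_eq_one_iff.mp (Nat.eq_one_of_dvd_coprimes
    (Nat.Coprime.pow_left n (Nat.coprime_two_left.mpr hodd))
    (orderOf_dvd_of_pow_eq_one (by rw [← map_pow, hn', map_one])) dvd_rfl)
  simp only [c, map_mul, map_inv, mul_inv_eq_one, mul_inv_eq_iff_eq_mul] at h1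
  exact h1

/-- A vector of `V ∩ K` centralised by `O₂(K)` lies in `Z`, and its commutator with `k` in `W`. -/
theorem mem_wOf (d : RecData T L K k) {x : VOf L} (hxK : (x : G) ∈ K)
    (hxY : (x : G) ∈ Cfsg.pCoreOf 2 (K ⊔ Cfsg.thompsonSubgroupOf 2 T))
    (hfix : ∀ p : L, (p : G) ∈ Cfsg.pCoreOf 2 K → bar L p • x = x) :
    ((moved (bar L k) x : VOf L) : G) ∈ Cfsg.wOf K := by
  set R := Cfsg.pCoreOf 2 (K ⊔ Cfsg.thompsonSubgroupOf 2 T)
  have hP : (x : G) ∈ Cfsg.pCoreOf 2 K := by
    refine (le_pCoreOf (inf_le_left : K ⊓ R ≤ K) ?_ ((isPGroup_pCoreOf 2 _).to_le inf_le_right))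
      ⟨hxK, hxY⟩
    intro g hg
    refine mem_normalizer_iff.mpr fun y => ?_
    rw [Subgroup.mem_inf, Subgroup.mem_inf, mem_normalizer_iff.mp (le_normalizer hg) y,
      mem_normalizer_iff.mp (le_normalizer_pCoreOf 2 _ (mem_sup_left hg)) y]
  have hxZ : (x : G) ∈ Cfsg.omegaCenterOf (Cfsg.pCoreOf 2 K) := by
    refine CfsgLib.PLocal.mem_omegaOne ⟨hP, mem_centralizer_iff.mpr fun p hp => ?_⟩
      ((isElementaryAbelian_omegaCenterOf _).2 _ x.2)
    have h := congrArg Subtype.val (hfix ⟨p, d.le (pCoreOf_le 2 K hp)⟩ hp)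
    rw [coe_bar_smul] at h
    exact mul_inv_eq_iff_eq_mul.mp h
  have := (d.three.wOf_spec d.memk d.ordk d.gen).2.1 (x : G) hxZ
  simpa [coe_bar_smul, div_eq_mul_inv] using this

/-- `[k, u] ∈ K` for `u` in the part of `V` inside `O₂(⟨K, J⟩)`. -/
theorem moved_mem (d : RecData T L K k) {u : VOf L}
    (hu : (u : G) ∈ Cfsg.pCoreOf 2 (K ⊔ Cfsg.thompsonSubgroupOf 2 T)) :
    ((moved (bar L k) u : VOf L) : G) ∈ K ∧
      ((moved (bar L k) u : VOf L) : G) ∈ Cfsg.pCoreOf 2 (K ⊔ Cfsg.thompsonSubgroupOf 2 T) := by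
  set R := Cfsg.pCoreOf 2 (K ⊔ Cfsg.thompsonSubgroupOf 2 T)
  have h1 : (u : G) * (k : G)⁻¹ * (u : G)⁻¹ ∈ K :=
    (mem_normalizer_iff.mp (d.R_le_normalizer_K hu) _).mp (K.inv_mem d.memk)
  have h2 : (k : G) * u * (k : G)⁻¹ ∈ R :=
    (mem_normalizer_iff.mp (le_normalizer_pCoreOf 2 _ (mem_sup_left d.memk)) _).mp hu
  refine ⟨?_, ?_⟩
  · simpa [coe_bar_smul, div_eq_mul_inv, mul_assoc] using K.mul_mem d.memk h1
  · simpa [coe_bar_smul, div_eq_mul_inv] using R.mul_mem h2 (R.inv_mem hu)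

theorem mem_R_of_mem_J (d : RecData T L K k) {x : G} (hx : x ∈ Cfsg.thompsonSubgroupOf 2 T)
    (hxV : x ∈ VOf L) : x ∈ Cfsg.pCoreOf 2 (K ⊔ Cfsg.thompsonSubgroupOf 2 T) := by
  set Y := K ⊔ Cfsg.thompsonSubgroupOf 2 T
  refine (le_pCoreOf (inf_le_left : Y ⊓ VOf L ≤ Y) ?_
    ((CfsgLib.PLocal.isPGroup_of_isElementaryAbelian (isElementaryAbelian_omegaCenterOf _)).to_le
      inf_le_right)) ⟨mem_sup_right hx, hxV⟩
  intro g hg
  refine mem_normalizer_iff.mpr fun y => ?_
  rw [Subgroup.mem_inf, Subgroup.mem_inf, mem_normalizer_iff.mp (le_normalizer hg) y,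
    mem_normalizer_iff.mp (le_normalizer_VOf L (d.Y_le hg)) y]

theorem blockW_le_J (d : RecData T L K k) {a ka : L} (ha : Mover T L a) (hp : IsPair L a ka) :
    blockW L (bar L ka) ≤ Cfsg.thompsonSubgroupOf 2 T := by
  obtain ⟨hcomp, hW⟩ := d.ctx.isJComponent_compK ha hp
  obtain ⟨S, k', d'⟩ := exists_compData d.ctx.isPGroup hcomp
  rw [← hW]; exact d'.wOf_le_J

/-- The case of an element `k` fixing a block without centralising its transvection. -/
theorem wOf_eq_of_fixed_block (d : RecData T L K k) {a ka : L} (ha : Mover T L a)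
    (hp : IsPair L a ka) (hblock : bar L k * bar L ka * (bar L k)⁻¹ ∈ zpowers (bar L ka))
    (hne : bar L k * bar L a * (bar L k)⁻¹ ≠ bar L a) :
    Cfsg.wOf K = blockW L (bar L ka) := by
  have hst := d.ctx.setting
  set y := bar L ka with hy
  set t := bar L a with ht
  set κ := bar L k with hκ
  have hκ3 : κ ^ 3 = 1 := by rw [← map_pow, d.pow_three, map_one]
  have hky1 : κ * y * κ⁻¹ ≠ 1 := by
    intro e; rw [mul_inv_eq_one] at e; exact hp.block.ne_one (mul_eq_left.mp e)
  have hcy : Commute κ y := by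
    rcases eq_or_eq_inv_of_mem_zpowers hp.block.order hblock hky1 with e | e
    · exact mul_inv_eq_iff_eq_mul.mp e
    · exfalso
      apply hp.block.ne_one
      apply eq_one_of_inv_eq hp.block.odd
      have h2 : κ ^ 2 * y * (κ ^ 2)⁻¹ = y := by
        rw [show κ ^ 2 * y * (κ ^ 2)⁻¹ = κ * (κ * y * κ⁻¹) * κ⁻¹ by rw [pow_two]; group, e, ← conj_inv, e, inv_inv]
      have h3 : κ ^ 3 * y * (κ ^ 3)⁻¹ = y⁻¹ := by
        rw [show κ ^ 3 * y * (κ ^ 3)⁻¹ = κ * (κ ^ 2 * y * (κ ^ 2)⁻¹) * κ⁻¹ by group, h2, e]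
      rw [hκ3, one_mul, inv_one, mul_one] at h3
      exact h3.symm
  -- the conjugate transvection lies in the same block
  have htr : IsTransvection (VOf L) (κ * t * κ⁻¹) := by
    refine ⟨?_, by rw [card_modComm_conj, hp.trans.2]⟩
    rw [show κ * t * κ⁻¹ * (κ * t * κ⁻¹) = κ * (t * t) * κ⁻¹ by group, hp.trans.1, mul_one,
      mul_inv_cancel]
  have hinv' : κ * t * κ⁻¹ * y * (κ * t * κ⁻¹) = y⁻¹ := by
    have e1 : κ⁻¹ * y * κ = y := by rw [mul_assoc, ← hcy.eq, inv_mul_cancel_left]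
    calc κ * t * κ⁻¹ * y * (κ * t * κ⁻¹) = κ * (t * (κ⁻¹ * y * κ) * t) * κ⁻¹ := by group
      _ = κ * y⁻¹ * κ⁻¹ := by rw [e1, hp.bar_inv]
      _ = y⁻¹ := by rw [← conj_inv, mul_inv_eq_iff_eq_mul.mpr hcy.eq]
  have hmem := hp.block.mul_mem_zpowers hst hp.trans hp.bar_inv htr hinv'
  have hts : t * (κ * t * κ⁻¹) ≠ 1 := fun e => hne (by
    rw [mul_eq_one_iff_inv_eq, inv_eq_of_mul_eq_one_right hp.trans.1] at e; exact e.symm)
  have hzy : zpowers (t * (κ * t * κ⁻¹)) = zpowers y := zpowers_eq_of_mem hp.block.order hmem hts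
  -- `y` comes from `⟨K, J⟩`
  obtain ⟨n, hn⟩ := mem_zpowers_iff.mp (hzy ▸ mem_zpowers y : y ∈ zpowers (t * (κ * t * κ⁻¹)))
  set u := (a * (k * a * k⁻¹)) ^ n with hu
  have hbu : bar L u = y := by rw [hu, map_zpow, map_mul, map_mul, map_mul, map_inv]; exact hn
  have huY : (u : G) ∈ K ⊔ Cfsg.thompsonSubgroupOf 2 T := by
    rw [hu, SubgroupClass.coe_zpow]
    refine zpow_mem ?_ n
    simp only [Subgroup.coe_mul, Subgroup.coe_inv]
    exact mul_mem (mem_sup_right ha.mem_J) (mul_mem (mul_mem (mem_sup_left d.memk)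
      (mem_sup_right ha.mem_J)) (inv_mem (mem_sup_left d.memk)))
  have hPy : ∀ p : L, (p : G) ∈ Cfsg.pCoreOf 2 K → Commute (bar L p) y := by
    intro p hpK
    rw [← hbu]
    exact d.commute_block hpK huY (hbu.symm ▸ hp.block.mem_blockGroup)
  -- `κ` has no fixed point on the four-group
  obtain ⟨i, hi⟩ := hp.block.exists_pow hst hcy
  have hκfix : ∀ v ∈ modComm (V := VOf L) y, κ • v = v → v = 1 := by
    intro v hv hfix
    by_contra hv1
    apply hne
    rw [hi v hv] at hfix
    have hyi : y ^ i = 1 := by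
      by_contra hne'
      apply hv1
      rcases eq_or_eq_inv_of_mem_zpowers hp.block.order (pow_mem (mem_zpowers y) i) hne' with e | e
      · exact eq_one_of_fixed hst.sq hp.block.odd hv (by rwa [e] at hfix)
      · rw [e, inv_smul_eq_iff] at hfix
        exact eq_one_of_fixed hst.sq hp.block.odd hv hfix.symm
    have hκtriv : ∀ v ∈ modComm (V := VOf L) y, κ • v = v := fun v hv => by
      rw [hi v hv, hyi, one_smul]
    refine hst.eq_of_agree hp.block.odd (fun v hv => ?_) (fun v hv => ?_)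
    · have hti : t • v ∈ modComm (V := VOf L) y :=
        IsBlockElt.smul_mem_of_inverted hp.trans.1 hp.bar_inv hv
      have h1 : κ⁻¹ • v = v := by rw [inv_smul_eq_iff, hκtriv v hv]
      rw [mul_smul, mul_smul, h1, hκtriv _ hti]
    · rw [hp.block.transvection_fix hst htr hinv' hv, hp.block.transvection_fix hst hp.trans hp.bar_inv hv]
  -- `O₂(K)` centralises the four-group
  have hPfix : ∀ p : L, (p : G) ∈ Cfsg.pCoreOf 2 K →
      ∀ v ∈ modComm (V := VOf L) y, bar L p • v = v := by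
    intro p hpK
    have hc := hPy p hpK
    have hpJ := d.R_le_normalizer_J (d.P_le hpK)
    have hm := d.ctx.mover_conj ha hpJ
    have hconj : bar L (p * a * p⁻¹) * y * bar L (p * a * p⁻¹) = y⁻¹ := by
      rw [map_mul, map_mul, map_inv]
      have e1 : (bar L p)⁻¹ * y * bar L p = y := by rw [mul_assoc, ← hc.eq, inv_mul_cancel_left]
      calc bar L p * t * (bar L p)⁻¹ * y * (bar L p * t * (bar L p)⁻¹)
          = bar L p * (t * ((bar L p)⁻¹ * y * bar L p) * t) * (bar L p)⁻¹ := by group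
        _ = bar L p * y⁻¹ * (bar L p)⁻¹ := by rw [e1, hp.bar_inv]
        _ = y⁻¹ := by rw [← conj_inv, mul_inv_eq_iff_eq_mul.mpr hc.eq]
    obtain ⟨A, hA, hpA, htrp⟩ := id hm
    have he := hp.block.eq_of_twoGroup hst hp.trans hp.bar_inv htrp hconj d.ctx.isPGroup_img
      (d.ctx.bar_mover_mem ha) (d.ctx.bar_mover_mem hm)
    have hct : Commute (bar L p) t := by
      rw [map_mul, map_mul, map_inv] at he
      exact mul_inv_eq_iff_eq_mul.mp he.symm
    obtain ⟨j, hj⟩ := hp.block.exists_pow hst hc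
    obtain ⟨w, hw, hw1⟩ : ∃ w ∈ modComm (V := VOf L) t, w ≠ 1 := by
      by_contra hno
      push_neg at hno
      have h2 := hp.trans.2
      rw [(Subgroup.eq_bot_iff_forall _).mpr hno, Subgroup.card_bot] at h2
      omega
    have hpw : bar L p • w = w := by
      by_contra hcon
      obtain ⟨b, c, hbc, hall⟩ := Nat.card_eq_two_iff.mp hp.trans.2
      have hmemw := smul_modComm_of_commute hct hw
      have h3 : ∀ q : modComm (V := VOf L) t, q = b ∨ q = c := fun q => by
        have : q ∈ ({b, c} : Set _) := hall ▸ Set.mem_univ q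
        simpa using this
      have hpw1 : bar L p • w ≠ 1 := fun e =>
        hw1 ((smul_left_cancel_iff (bar L p)).mp (e.trans (smul_one _).symm))
      rcases h3 ⟨w, hw⟩ with h4 | h4 <;> rcases h3 ⟨_, hmemw⟩ with h5 | h5 <;>
        rcases h3 1 with h6 | h6 <;>
        first
          | exact hcon (congrArg Subtype.val (h5.trans h4.symm))
          | exact hw1 (congrArg Subtype.val (h4.trans h6.symm))
          | exact hpw1 (congrArg Subtype.val (h5.trans h6.symm))
    have hwy : w ∈ modComm (V := VOf L) y :=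
      hp.block.modComm_transvection_le hst hp.trans hp.bar_inv hw
    have hyj : y ^ j = 1 := by
      by_contra hne'
      apply hw1
      rw [hj w hwy] at hpw
      rcases eq_or_eq_inv_of_mem_zpowers hp.block.order (pow_mem (mem_zpowers y) j) hne' with e | e
      · exact eq_one_of_fixed hst.sq hp.block.odd hwy (by rwa [e] at hpw)
      · rw [e, inv_smul_eq_iff] at hpw
        exact eq_one_of_fixed hst.sq hp.block.odd hwy hpw.symm
    intro v hv
    rw [hj v hv, hyj, one_smul]
  -- every element of the four-group lies in `W_K`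
  have hmoved : ∀ v ∈ modComm (V := VOf L) y, ∃ u ∈ modComm (V := VOf L) y, moved κ u = v := by
    intro v hv
    let f : modComm (V := VOf L) y → modComm (V := VOf L) y := fun u =>
      ⟨moved κ u, Subgroup.div_mem _ (smul_modComm_of_commute hcy u.2) u.2⟩
    have hinj : Function.Injective f := by
      intro u u' h
      have h' : moved κ (u : VOf L) = moved κ (u' : VOf L) := congrArg Subtype.val h
      rw [← div_eq_one, ← map_div, moved_apply, div_eq_one] at h'
      have := hκfix _ ((modComm (V := VOf L) y).div_mem u.2 u'.2) h'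
      exact Subtype.ext (div_eq_one.mp this)
    obtain ⟨u, hu⟩ := Finite.surjective_of_injective hinj ⟨v, hv⟩
    exact ⟨u, u.2, congrArg Subtype.val hu⟩
  have hle : blockW L y ≤ Cfsg.wOf K := by
    rintro _ ⟨v, hv, rfl⟩
    obtain ⟨x, hx, rfl⟩ := hmoved v hv
    obtain ⟨u, hu, rfl⟩ := hmoved x hx
    have huR := d.mem_R_of_mem_J (d.blockW_le_J ha hp ⟨u, hu, rfl⟩) u.2
    obtain ⟨hxK, hxR⟩ := d.moved_mem huR
    exact d.mem_wOf hxK hxR fun p hpK => hPfix p hpK _ hx
  exact (Subgroup.eq_of_le_of_card_ge hle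
    (by rw [d.card, Ctx.card_blockW hp.block])).symm

/-- For a moved block, the products of the transvection with its two conjugates come from `O₂(K)`. -/
theorem exists_mem_P (d : RecData T L K k) {a ka : L} (ha : Mover T L a) (hp : IsPair L a ka)
    (hblock : bar L k * bar L ka * (bar L k)⁻¹ ∉ zpowers (bar L ka)) :
    (∃ p : L, (p : G) ∈ Cfsg.pCoreOf 2 K ∧
        bar L p = bar L a * (bar L k * bar L a * (bar L k)⁻¹)) ∧
      ∃ p : L, (p : G) ∈ Cfsg.pCoreOf 2 K ∧
        bar L p = bar L a * (bar L k ^ 2 * bar L a * (bar L k ^ 2)⁻¹) := by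
  have hst := d.ctx.setting
  set t := bar L a with ht
  set κ := bar L k with hκ
  set y := bar L ka with hy
  have hκ3 : κ ^ 3 = 1 := by rw [← map_pow, d.pow_three, map_one]
  have hconj_tr : ∀ g : Gam L, IsTransvection (VOf L) (g * t * g⁻¹) := fun g => by
    refine ⟨?_, by rw [card_modComm_conj, hp.trans.2]⟩
    rw [show g * t * g⁻¹ * (g * t * g⁻¹) = g * (t * t) * g⁻¹ by group, hp.trans.1, mul_one,
      mul_inv_cancel]
  have hconj_inv : ∀ g : Gam L, g * t * g⁻¹ * (g * y * g⁻¹) * (g * t * g⁻¹) = (g * y * g⁻¹)⁻¹ :=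
    fun g => by
      calc g * t * g⁻¹ * (g * y * g⁻¹) * (g * t * g⁻¹) = g * (t * y * t) * g⁻¹ := by group
        _ = _ := by rw [hp.bar_inv, conj_inv]
  have hne1 : κ * y * κ⁻¹ ∉ zpowers y := hblock
  have hne2 : κ ^ 2 * y * (κ ^ 2)⁻¹ ∉ zpowers y := by
    intro hmem
    obtain ⟨m, hm⟩ := mem_zpowers_iff.mp hmem
    apply hne1
    have h1 : κ * y * κ⁻¹ = (κ ^ 2 * y * (κ ^ 2)⁻¹) ^ m := by
      rw [conj_zpow]
      rw [hm, show κ ^ 2 * (κ ^ 2 * y * (κ ^ 2)⁻¹) * (κ ^ 2)⁻¹ = κ ^ 3 * (κ * y * κ⁻¹) * (κ ^ 3)⁻¹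
        by group, hκ3]
      group
    rw [h1]
    exact zpow_mem hmem m
  -- the three conjugates commute
  set a₁ := κ * t * κ⁻¹ with ha₁
  set a₂ := κ ^ 2 * t * (κ ^ 2)⁻¹ with ha₂
  have c01 : Commute t a₁ := (hp.block.transvection_commute hst hp.trans hp.bar_inv
    (hp.block.conj hst κ) (hconj_tr κ) (hconj_inv κ) hne1).symm
  have c02 : Commute t a₂ := (hp.block.transvection_commute hst hp.trans hp.bar_inv
    (hp.block.conj hst _) (hconj_tr (κ ^ 2)) (hconj_inv (κ ^ 2)) hne2).symm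
  have c12 : Commute a₁ a₂ := by
    have h := c01.map (MulAut.conj κ).toMonoidHom
    simp only [MulEquiv.coe_toMonoidHom, MulAut.conj_apply] at h
    rw [show κ * a₁ * κ⁻¹ = a₂ by rw [ha₁, ha₂, pow_two]; group] at h
    exact h
  have hs : ∀ g : Gam L, g * t * g⁻¹ * (g * t * g⁻¹) = 1 := fun g => (hconj_tr g).1
  have e0 : κ * t * κ⁻¹ = a₁ := rfl
  have e1 : κ * a₁ * κ⁻¹ = a₂ := by rw [ha₁, ha₂, pow_two]; group
  have e2 : κ * a₂ * κ⁻¹ = t := by
    rw [ha₂, show κ * (κ ^ 2 * t * (κ ^ 2)⁻¹) * κ⁻¹ = κ ^ 3 * t * (κ ^ 3)⁻¹ by group, hκ3]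
    group
  have s0 : t * t = 1 := hp.trans.1
  have s1 : a₁ * a₁ = 1 := hs κ
  have s2 : a₂ * a₂ = 1 := hs _
  let St : Set (Gam L) := {t * a₁, t * a₂, a₁ * a₂}
  have hconjSt : ∀ z ∈ St, κ * z * κ⁻¹ ∈ St := by
    rintro z (rfl | rfl | rfl)
    · rw [show κ * (t * a₁) * κ⁻¹ = (κ * t * κ⁻¹) * (κ * a₁ * κ⁻¹) by group, e0, e1]
      exact Or.inr (Or.inr rfl)
    · rw [show κ * (t * a₂) * κ⁻¹ = (κ * t * κ⁻¹) * (κ * a₂ * κ⁻¹) by group, e0, e2, c01.symm.eq]
      exact Or.inl rfl
    · rw [show κ * (a₁ * a₂) * κ⁻¹ = (κ * a₁ * κ⁻¹) * (κ * a₂ * κ⁻¹) by group, e1, e2, c02.symm.eq]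
      exact Or.inr (Or.inl rfl)
  have hsqSt : ∀ z ∈ St, z * z = 1 := by
    rintro z (rfl | rfl | rfl)
    · rw [mul_assoc, ← mul_assoc a₁ t, c01.symm.eq, mul_assoc t a₁, s1, mul_one, s0]
    · rw [mul_assoc, ← mul_assoc a₂ t, c02.symm.eq, mul_assoc t a₂, s2, mul_one, s0]
    · rw [mul_assoc, ← mul_assoc a₂ a₁, c12.symm.eq, mul_assoc a₁ a₂, s2, mul_one, s1]
  have hstep : ∀ z ∈ St, z * κ * z⁻¹ * κ⁻¹ ∈ St := by
    intro z hz
    rw [show z * κ * z⁻¹ * κ⁻¹ = z * (κ * z⁻¹ * κ⁻¹) by group,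
      inv_eq_of_mul_eq_one_right (hsqSt z hz)]
    rcases hz with rfl | rfl | rfl
    · rw [show κ * (t * a₁) * κ⁻¹ = (κ * t * κ⁻¹) * (κ * a₁ * κ⁻¹) by group, e0, e1, mul_assoc,
        ← mul_assoc a₁ a₁, s1, one_mul]
      exact Or.inr (Or.inl rfl)
    · rw [show κ * (t * a₂) * κ⁻¹ = (κ * t * κ⁻¹) * (κ * a₂ * κ⁻¹) by group, e0, e2, c01.symm.eq,
        ← mul_assoc, c02.eq, mul_assoc a₂ t t, s0, mul_one, c12.symm.eq]
      exact Or.inr (Or.inr rfl)
    · rw [show κ * (a₁ * a₂) * κ⁻¹ = (κ * a₁ * κ⁻¹) * (κ * a₂ * κ⁻¹) by group, e1, e2, mul_assoc,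
        ← mul_assoc a₂ a₂, s2, one_mul, c01.symm.eq]
      exact Or.inl rfl
  -- subnormality puts one of them into the image of `K`
  set Y := K ⊔ Cfsg.thompsonSubgroupOf 2 T
  let a' : Y := ⟨a, mem_sup_right ha.mem_J⟩
  let k' : Y := ⟨k, mem_sup_left d.memk⟩
  let f : Y →* Gam L := (bar L).comp (inclusion d.Y_le)
  have hfk : f k' = κ := rfl
  have hfa : f a' = t := rfl
  have hiter : ∀ n : ℕ, f ((fun z => z * k' * z⁻¹ * k'⁻¹)^[n + 1] a') ∈ St := by
    intro n
    induction n with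
    | zero =>
      rw [Function.iterate_one, map_mul, map_mul, map_mul, map_inv, map_inv, hfk, hfa,
        inv_eq_of_mul_eq_one_right s0, show t * κ * t * κ⁻¹ = t * (κ * t * κ⁻¹) by group]
      exact Or.inl rfl
    | succ n ih =>
      rw [Function.iterate_succ_apply', map_mul, map_mul, map_mul, map_inv, map_inv, hfk]
      exact hstep _ ih
  obtain ⟨n, hn⟩ := exists_iterate_mem d.sn
    (show k' ∈ K.subgroupOf Y from d.memk) a'
  have hn1 : (fun z => z * k' * z⁻¹ * k'⁻¹)^[n + 1] a' ∈ K.subgroupOf Y := by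
    rw [Function.iterate_succ_apply']
    set z := (fun z => z * k' * z⁻¹ * k'⁻¹)^[n] a'
    exact mul_mem (mul_mem (mul_mem hn d.memk) (inv_mem hn)) (inv_mem d.memk)
  set z₀ := (fun z => z * k' * z⁻¹ * k'⁻¹)^[n + 1] a'
  -- all three lie in the image of `K`
  let IK : Subgroup (Gam L) := (K.subgroupOf L).map (bar L)
  have hz₀ : f z₀ ∈ IK := ⟨_, hn1, rfl⟩
  have hκK : κ ∈ IK := ⟨k, d.memk, rfl⟩
  have hall : t * a₁ ∈ IK ∧ t * a₂ ∈ IK := by
    have hcl : ∀ z ∈ IK, κ * z * κ⁻¹ ∈ IK := fun z hz => mul_mem (mul_mem hκK hz) (inv_mem hκK)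
    have hz := hiter n
    have h1 := hcl _ hz₀
    have h2 := hcl _ h1
    rcases hz with e | e | e
    · rw [e] at hz₀ h1 h2
      refine ⟨hz₀, ?_⟩
      rw [show κ * (t * a₁) * κ⁻¹ = (κ * t * κ⁻¹) * (κ * a₁ * κ⁻¹) by group, e0, e1] at h2
      rwa [show κ * (a₁ * a₂) * κ⁻¹ = (κ * a₁ * κ⁻¹) * (κ * a₂ * κ⁻¹) by group, e1, e2,
        c02.symm.eq] at h2
    · rw [e] at hz₀ h1
      rw [show κ * (t * a₂) * κ⁻¹ = (κ * t * κ⁻¹) * (κ * a₂ * κ⁻¹) by group, e0, e2,
        c01.symm.eq] at h1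
      exact ⟨h1, hz₀⟩
    · rw [e] at hz₀ h1 h2
      rw [show κ * (a₁ * a₂) * κ⁻¹ = (κ * a₁ * κ⁻¹) * (κ * a₂ * κ⁻¹) by group, e1, e2,
        c02.symm.eq] at h1 h2
      refine ⟨?_, h1⟩
      rwa [show κ * (t * a₂) * κ⁻¹ = (κ * t * κ⁻¹) * (κ * a₂ * κ⁻¹) by group, e0, e2,
        c01.symm.eq] at h2
  -- involutions of the image come from `O₂(K)`
  have hkey : ∀ z ∈ IK, z * z = 1 → ∃ p : L, (p : G) ∈ Cfsg.pCoreOf 2 K ∧ bar L p = z := by
    rintro _ ⟨x, hx, rfl⟩ hzz
    obtain ⟨i, hi⟩ := d.gen x hx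
    refine ⟨x * (k ^ i)⁻¹, by simpa using hi, ?_⟩
    set q := x * (k ^ i)⁻¹ with hq
    have hxq : x = q * k ^ i := by rw [hq, inv_mul_cancel_right]
    have hκi : κ ^ i = 1 := by
      set q' := k ^ i * q * (k ^ i)⁻¹
      have hq' : (q' : G) ∈ Cfsg.pCoreOf 2 K := by
        simp only [q', Subgroup.coe_mul, Subgroup.coe_inv, Subgroup.coe_pow]
        exact conj_mem_pCoreOf (le_normalizer (pow_mem d.memk i)) (by simpa [hq] using hi)
      have h1 : bar L (q * q') * (κ ^ i * κ ^ i) = 1 := by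
        rw [← hzz, hxq]
        simp only [q', hκ, map_mul, map_inv, map_pow, mul_assoc, inv_mul_cancel_left]
      obtain ⟨m, hm⟩ := isPGroup_pCoreOf 2 K ⟨_, mul_mem (by simpa [hq] using hi :
        (q : G) ∈ Cfsg.pCoreOf 2 K) hq'⟩
      have hm' : (q * q') ^ 2 ^ m = 1 := Subtype.ext (by simpa using congrArg Subtype.val hm)
      have h2 : (κ ^ i * κ ^ i) ^ 2 ^ m = 1 := by
        rw [show κ ^ i * κ ^ i = (bar L (q * q'))⁻¹ from (inv_eq_of_mul_eq_one_right h1).symm,
          inv_pow, ← map_pow, hm', map_one, inv_one]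
      rw [← pow_two, ← pow_mul κ i 2, ← pow_mul, mul_assoc, ← pow_succ', pow_mul] at h2
      exact orderOf_eq_one_iff.mp (Nat.eq_one_of_dvd_coprimes
        (Nat.Coprime.pow_left (m + 1) (show Nat.Coprime 2 3 by decide))
        (orderOf_dvd_of_pow_eq_one h2)
        (orderOf_dvd_of_pow_eq_one (by rw [← pow_mul, mul_comm, pow_mul, hκ3, one_pow])))
    rw [hxq, map_mul (bar L) q (k ^ i), map_pow, hκi, mul_one]
  exact ⟨hkey _ hall.1 (hsqSt _ (Or.inl rfl)), hkey _ hall.2 (hsqSt _ (Or.inr (Or.inl rfl)))⟩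

/-- Consistency: a mover in the block of a conjugate of a moved mover is that conjugate. -/
theorem conj_eq_of_block (d : RecData T L K k) {a ka b kb : L} (ha : Mover T L a)
    (hp : IsPair L a ka) (hblock : bar L k * bar L ka * (bar L k)⁻¹ ∉ zpowers (bar L ka))
    (hb : Mover T L b) (hpb : IsPair L b kb) {κe : Gam L}
    (hκe : κe = bar L k ∨ κe = bar L k ^ 2)
    (hsame : bar L kb ∈ zpowers (κe * bar L ka * κe⁻¹)) :
    bar L b = κe * bar L a * κe⁻¹ := by
  have hst := d.ctx.setting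
  obtain ⟨h1, h2⟩ := d.exists_mem_P ha hp hblock
  obtain ⟨p, hpK, hpe⟩ : ∃ p : L, (p : G) ∈ Cfsg.pCoreOf 2 K ∧
      bar L p = bar L a * (κe * bar L a * κe⁻¹) := by
    rcases hκe with rfl | rfl
    exacts [h1, h2]
  set t := bar L a
  set t' := bar L b
  set s := κe * t * κe⁻¹ with hs
  set y' := κe * bar L ka * κe⁻¹ with hy'
  have hy'b : IsBlockElt (VOf L) (Cfsg.fittingSubgroup (Gam L)) y' := hp.block.conj hst _
  have hstr : IsTransvection (VOf L) s := by
    refine ⟨?_, by rw [hs, card_modComm_conj, hp.trans.2]⟩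
    rw [hs, show κe * t * κe⁻¹ * (κe * t * κe⁻¹) = κe * (t * t) * κe⁻¹ by group, hp.trans.1,
      mul_one, mul_inv_cancel]
  have hsinv : s * y' * s = y'⁻¹ := by
    rw [hs, hy', show κe * t * κe⁻¹ * (κe * bar L ka * κe⁻¹) * (κe * t * κe⁻¹) =
      κe * (t * bar L ka * t) * κe⁻¹ by group, hp.bar_inv, conj_inv]
  have htinv : t' * y' * t' = y'⁻¹ := by
    rcases eq_or_eq_inv_of_mem_zpowers hy'b.order hsame hpb.block.ne_one with e | e
    · have := hpb.bar_inv; rwa [e] at this
    · have := hpb.bar_inv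
      rw [e, inv_inv] at this
      have h3 := congrArg (fun x => x⁻¹) this
      simp only [mul_inv_rev, inv_eq_of_mul_eq_one_right hpb.trans.1, inv_inv, ← mul_assoc] at h3
      exact h3
  -- the block of `a` differs from `y'`
  have hne : bar L kb ∉ zpowers (bar L ka) := by
    intro hmem
    apply hblock
    have e1 := zpowers_eq_of_mem hp.block.order hmem hpb.block.ne_one
    have e2 := zpowers_eq_of_mem hy'b.order hsame hpb.block.ne_one
    have hy'mem : y' ∈ zpowers (bar L ka) := by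
      rw [← e1, e2]; exact mem_zpowers _
    rcases hκe with rfl | rfl
    · exact hy'mem
    · obtain ⟨m, hm⟩ := mem_zpowers_iff.mp hy'mem
      have hκ3 : bar L k ^ 3 = 1 := by rw [← map_pow, d.pow_three, map_one]
      have h3 : bar L k * bar L ka * (bar L k)⁻¹ = y' ^ m := by
        rw [hy', conj_zpow, hm, show bar L k ^ 2 * y' * (bar L k ^ 2)⁻¹ =
          bar L k ^ 3 * (bar L k * bar L ka * (bar L k)⁻¹) * (bar L k ^ 3)⁻¹ by rw [hy']; group, hκ3]
        group
      rw [h3]; exact zpow_mem hy'mem m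
  have hct : Commute t t' := (hp.block.transvection_commute hst hp.trans hp.bar_inv
    hpb.block hpb.trans hpb.bar_inv hne).symm
  -- conjugating `b` by `p`
  have hm := d.ctx.mover_conj hb (d.R_le_normalizer_J (d.P_le hpK))
  obtain ⟨B, -, -, htrp⟩ := id hm
  have hpt : bar L (p * b * p⁻¹) = s * t' * s := by
    have hne' : y' ∉ zpowers (bar L ka) := fun hmem => hne
      (zpowers_le.mpr hmem hsame)
    have hts : Commute t s :=
      (hp.block.transvection_commute hst hp.trans hp.bar_inv hy'b hstr hsinv hne').symm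
    rw [map_mul, map_mul, map_inv, hpe, mul_inv_rev, inv_eq_of_mul_eq_one_right hp.trans.1,
      inv_eq_of_mul_eq_one_right hstr.1]
    calc t * s * t' * (s * t) = (t * s) * t' * (t * s) := by rw [hts.eq]
      _ = s * (t * t' * t) * s := by rw [hts.eq]; simp only [mul_assoc]; rw [hts.eq]
      _ = s * t' * s := by rw [hct.eq, mul_assoc t' t t, hp.trans.1, mul_one]
  have hinv2 : bar L (p * b * p⁻¹) * y' * bar L (p * b * p⁻¹) = y'⁻¹ := by
    rw [hpt]
    have h3 : s * y'⁻¹ * s = y' := by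
      have h4 := congrArg (fun x => x⁻¹) hsinv
      simpa [mul_assoc, inv_eq_of_mul_eq_one_right hstr.1] using h4
    calc s * t' * s * y' * (s * t' * s) = s * (t' * (s * y' * s) * t') * s := by
          simp [mul_assoc]
      _ = s * (t' * y'⁻¹ * t') * s := by rw [hsinv]
      _ = s * y' * s := by
          congr 2
          have h4 := congrArg (fun x => x⁻¹) htinv
          have hti : t'⁻¹ = t' := inv_eq_of_mul_eq_one_right hpb.trans.1
          simpa [mul_assoc, hti] using h4
      _ = y'⁻¹ := hsinv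
  have he := hy'b.eq_of_twoGroup hst hpb.trans htinv htrp hinv2 d.ctx.isPGroup_img
    (d.ctx.bar_mover_mem hb) (d.ctx.bar_mover_mem hm)
  rw [hpt] at he
  have hcs : Commute s t' := by
    show s * t' = t' * s
    have h3 := congrArg (· * s) he
    simp only [mul_assoc, hstr.1, mul_one] at h3
    exact h3.symm
  -- commuting transvections of one block are equal
  have hmem := hy'b.mul_mem_zpowers hst hpb.trans htinv hstr hsinv
  by_contra hne2
  have h1' : t' * s ≠ 1 := fun e => hne2 (by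
    rw [mul_eq_one_iff_eq_inv, inv_eq_of_mul_eq_one_right hstr.1] at e; exact e)
  have ho : orderOf (t' * s) = 3 := by
    rcases eq_or_eq_inv_of_mem_zpowers hy'b.order hmem h1' with e | e <;> rw [e]
    · exact hy'b.order
    · rw [orderOf_inv, hy'b.order]
  have h2' : (t' * s) ^ 2 = 1 := by
    rw [hcs.symm.mul_pow, pow_two, pow_two, hpb.trans.1, hstr.1, one_mul]
  have := orderOf_dvd_of_pow_eq_one h2'
  rw [ho] at this
  omega

set_option maxHeartbeats 1000000 in
/-- **Recognition.** `J(T)` normalises `K` or `W_K`. -/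
theorem J_le (d : RecData T L K k) :
    Cfsg.thompsonSubgroupOf 2 T ≤ normalizer (Cfsg.wOf K : Set G) := by
  classical
  have hst := d.ctx.setting
  set J := Cfsg.thompsonSubgroupOf 2 T
  set κ := bar L k with hκ
  have hκ3 : κ ^ 3 = 1 := by rw [← map_pow, d.pow_three, map_one]
  by_cases hb : ∀ a, Mover T L a → κ * bar L a * κ⁻¹ ∈ Ctx.img L J
  · -- `k` normalises `J`
    refine le_trans ?_ (normalizer_le_normalizer_wOf K)
    set Jk := J.map (MulAut.conj (k : G)).toMonoidHom
    have himg : ∀ j : L, (j : G) ∈ J → κ * bar L j * κ⁻¹ ∈ Ctx.img L J := by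
      intro j hj
      have h1 := d.ctx.bar_mem_closure_movers hj
      refine (Subgroup.closure_le (K := (Ctx.img L J).comap (MulAut.conj κ).toMonoidHom)).mpr ?_ h1
      rintro _ ⟨a, ha, rfl⟩
      exact hb a ha
    have hJn : Jk ≤ normalizer (J : Set G) := by
      rintro _ ⟨j, hj, rfl⟩
      have hjk : bar L (k * ⟨j, d.ctx.J_le hj⟩ * k⁻¹) ∈ Ctx.img L J := by
        rw [map_mul, map_mul, map_inv]; exact himg ⟨j, d.ctx.J_le hj⟩ hj
      obtain ⟨j', hj', hj'L, e⟩ := Ctx.mem_img.mp hjk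
      set c := (⟨j', hj'L⟩ : L)⁻¹ * (k * ⟨j, d.ctx.J_le hj⟩ * k⁻¹)
      have hc : bar L c = 1 := by rw [map_mul, map_inv, e, inv_mul_cancel]
      have hcN : (c : G) ∈ normalizer (J : Set G) :=
        CfsgLib.PLocal.normalizer_le_normalizer_thompsonSubgroupOf 2 T
          (d.ctx.centralizer_le_normalizer ⟨c.2, bar_eq_one_iff.mp hc⟩)
      have := mul_mem (le_normalizer hj' : j' ∈ normalizer (J : Set G)) hcN
      simpa [c, mul_assoc] using this
    have hJp : IsPGroup 2 J := d.ctx.isPGroup.to_le (CfsgLib.PLocal.thompsonSubgroupOf_le 2 T)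
    have hsup : IsPGroup 2 ↥(Jk ⊔ J) := IsPGroup.to_sup_of_normal_right' (hJp.map _) hJp hJn
    have hJkL : Jk ≤ L := by
      rintro _ ⟨j, hj, rfl⟩
      exact L.mul_mem (L.mul_mem k.2 (d.ctx.J_le hj)) (L.inv_mem k.2)
    have hth := thompson_eq_of_le d.ctx.mem.1 (sup_le hJkL d.ctx.J_le) hsup le_sup_right
    have hmem := maxEAIn_eq_of_thompson_eq hth
    have hJk : Jk ≤ J := by
      rintro _ ⟨j, hj, rfl⟩
      have hall : J.map (MulAut.conj (k : G)).toMonoidHom ≤ J := by
        rw [Subgroup.map_le_iff_le_comap]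
        show Cfsg.thompsonSubgroupOf 2 T ≤ J.comap _
        rw [CfsgLib.PLocal.thompsonSubgroupOf_eq]
        refine sSup_le fun A hA => Subgroup.map_le_iff_le_comap.mp ?_
        refine CfsgLib.PLocal.le_thompsonSubgroupOf (hmem ▸
          (⟨(map_mono (CfsgLib.PLocal.le_thompsonSubgroupOf hA)).trans le_sup_left,
            CfsgLib.PLocal.isElementaryAbelian_map hA.2.1 _, fun C hC hCe => ?_⟩ :
            A.map (MulAut.conj (k : G)).toMonoidHom ∈ CfsgLib.PLocal.maxEAIn 2 (Jk ⊔ J)))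
        rw [card_map_of_injective (f := (MulAut.conj (k : G)).toMonoidHom)
          (MulAut.conj (k : G)).injective]
        obtain ⟨B, hB⟩ := CfsgLib.PLocal.maxEAIn_nonempty 2 (Jk ⊔ J)
        exact (hB.2.2 C hC hCe).trans (hA.2.2 B (hmem ▸ hB : B ∈ CfsgLib.PLocal.maxEAIn 2 T).1
          hB.2.1)
      exact hall ⟨j, hj, rfl⟩
    have hk : (k : G) ∈ normalizer (J : Set G) := by
      rw [mem_normalizer_iff_map_conj_eq]
      exact Subgroup.eq_of_le_of_card_ge hJk
        (card_map_of_injective (f := (MulAut.conj (k : G)).toMonoidHom)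
          (MulAut.conj (k : G)).injective).ge
    have hKJ : K ≤ normalizer (J : Set G) := by
      intro x hx
      obtain ⟨i, hi⟩ := d.gen x hx
      have := mul_mem (d.R_le_normalizer_J (d.P_le hi)) (pow_mem hk i)
      rwa [inv_mul_cancel_right] at this
    exact (le_pCoreOf le_sup_right (sup_le hKJ le_normalizer) hJp).trans d.R_le_normalizer_K
  · push_neg at hb
    obtain ⟨a, ha, hanot⟩ := hb
    by_cases hc1 : ∃ b kb : L, Mover T L b ∧ IsPair L b kb ∧
        κ * bar L kb * κ⁻¹ ∈ zpowers (bar L kb) ∧ κ * bar L b * κ⁻¹ ≠ bar L b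
    · obtain ⟨b, kb, hbm, hpb, hbl, hne⟩ := hc1
      rw [d.wOf_eq_of_fixed_block hbm hpb hbl hne]
      obtain ⟨hcomp, hW⟩ := d.ctx.isJComponent_compK hbm hpb
      rw [← hW]
      exact (IsThree.le_normalizer_J hcomp).trans (normalizer_le_normalizer_wOf _)
    push_neg at hc1
    obtain ⟨A, hA, haA, hta⟩ := id ha
    obtain ⟨ka, hpa⟩ := d.ctx.exists_pair ha.two hta
    have hmovedA : κ * bar L ka * κ⁻¹ ∉ zpowers (bar L ka) := fun hm =>
      hanot (by rw [hc1 a ka ha hpa hm]; exact Ctx.mem_img.mpr ⟨a, ha.mem_J, a.2, rfl⟩)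
    -- `J` fixes the conjugates of the fixed vectors of movers
    have hfixJ : ∀ (o : L), Mover T L o → ∀ (κe : Gam L), (κe = 1 ∨ κe = κ ∨ κe = κ ^ 2) →
        ∀ u ∈ modComm (V := VOf L) (bar L o), ∀ j : L, (j : G) ∈ J →
          bar L j • κe • u = κe • u := by
      intro o ho κe hκe u hu j hj
      rcases hκe with rfl | hκe'
      · rw [one_smul]; exact d.ctx.J_fix ho hu hj
      obtain ⟨O, -, -, hto⟩ := id ho
      obtain ⟨ko, hpo⟩ := d.ctx.exists_pair ho.two hto
      have huW : u ∈ modComm (V := VOf L) (bar L ko) :=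
        hpo.block.modComm_transvection_le hst hpo.trans hpo.bar_inv hu
      by_cases hmv : κ * bar L ko * κ⁻¹ ∈ zpowers (bar L ko)
      · -- `κ` centralises the transvection
        have hc : Commute κ (bar L o) := mul_inv_eq_iff_eq_mul.mp (hc1 o ko ho hpo hmv)
        have hcκ : Commute κe (bar L o) := by
          rcases hκe' with rfl | rfl
          exacts [hc, hc.pow_left 2]
        exact d.ctx.J_fix ho (smul_modComm_of_commute hcκ hu) hj
      refine MulAction.mem_stabilizer_iff.mp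
        ((Subgroup.closure_le (K := MulAction.stabilizer (Gam L) (κe • u))).mpr ?_
          (d.ctx.bar_mem_closure_movers hj))
      rintro _ ⟨b, hbm, rfl⟩
      refine MulAction.mem_stabilizer_iff.mpr ?_
      obtain ⟨B, -, -, htb⟩ := id hbm
      obtain ⟨kb, hpb⟩ := d.ctx.exists_pair hbm.two htb
      by_cases hsame : bar L kb ∈ zpowers (κe * bar L ko * κe⁻¹)
      · rw [d.conj_eq_of_block ho hpo hmv hbm hpb hκe' hsame, mul_smul, mul_smul, inv_smul_smul]
        obtain ⟨v, rfl⟩ := hu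
        congr 1
        rw [moved_apply, smul_div', ← mul_smul, hto.1, one_smul, div_eq_mul' sq_VOf,
          div_eq_mul' sq_VOf, mul_comm]
      · have hne' : κe * bar L ko * κe⁻¹ ∉ zpowers (bar L kb) := fun hm => hsame (by
          rw [zpowers_eq_of_mem hpb.block.order hm (hpo.block.conj hst κe).ne_one]
          exact mem_zpowers _)
        exact (hpb.block.transvection_other hst hpb.trans hpb.bar_inv (hpo.block.conj hst κe) hne').2
          _ (smul_modComm_mem huW)
    -- the orbit product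
    obtain ⟨w, hw, hw1⟩ : ∃ w ∈ modComm (V := VOf L) (bar L a), w ≠ 1 := by
      by_contra hno
      push_neg at hno
      have h2 := hta.2
      rw [(Subgroup.eq_bot_iff_forall _).mpr hno, Subgroup.card_bot] at h2
      omega
    set P := (Cfsg.pCoreOf 2 K).subgroupOf L
    let O : Set (VOf L) := (fun p : P => bar L (p : L) • w) '' Set.univ
    have hOfin : O.Finite := Set.toFinite _
    set u₀ := ∏ o ∈ hOfin.toFinset, o with hu₀
    have hO : ∀ o ∈ O, ∃ b : L, Mover T L b ∧ o ∈ modComm (V := VOf L) (bar L b) := by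
      rintro _ ⟨p, -, rfl⟩
      refine ⟨(p : L) * a * (p : L)⁻¹,
        d.ctx.mover_conj ha (d.R_le_normalizer_J (d.P_le p.2)), ?_⟩
      rw [map_mul, map_mul, map_inv]
      exact smul_modComm_mem hw
    have hu₀R : (u₀ : G) ∈ Cfsg.pCoreOf 2 (K ⊔ J) := by
      suffices u₀ ∈ (Cfsg.pCoreOf 2 (K ⊔ J)).subgroupOf (VOf L) from this
      refine prod_mem fun o ho => ?_
      rw [Set.Finite.mem_toFinset] at ho
      obtain ⟨b, hbm, hob⟩ := hO o ho
      obtain ⟨B, -, -, htb⟩ := id hbm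
      obtain ⟨kb, hpb⟩ := d.ctx.exists_pair hbm.two htb
      exact d.mem_R_of_mem_J (d.blockW_le_J hbm hpb ⟨o,
        hpb.block.modComm_transvection_le hst hpb.trans hpb.bar_inv hob, rfl⟩) o.2
    have hu₀fix : ∀ p : L, (p : G) ∈ Cfsg.pCoreOf 2 K → bar L p • u₀ = u₀ := by
      intro p hp
      rw [hu₀, Finset.smul_prod']
      refine Finset.prod_nbij (fun o => bar L p • o) ?_ ?_ ?_ (fun o _ => rfl)
      · intro o ho
        rw [Set.Finite.mem_toFinset] at ho ⊢
        obtain ⟨q, -, rfl⟩ := ho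
        exact ⟨⟨p, hp⟩ * q, trivial, by simp [mul_smul]⟩
      · exact fun _ _ _ _ h => (smul_left_cancel_iff _).mp h
      · intro o ho
        rw [Finset.mem_coe, Set.Finite.mem_toFinset] at ho
        obtain ⟨q, -, rfl⟩ := ho
        refine ⟨bar L (((⟨p, hp⟩ : P)⁻¹ * q : P) : L) • w, ?_, ?_⟩
        · rw [Finset.mem_coe, Set.Finite.mem_toFinset]
          exact ⟨(⟨p, hp⟩ : P)⁻¹ * q, trivial, rfl⟩
        · simp [mul_smul]
    have hκfix : ∀ p : L, (p : G) ∈ Cfsg.pCoreOf 2 K → bar L p • κ • u₀ = κ • u₀ := by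
      intro p hp
      have hp' : ((k⁻¹ * p * k : L) : G) ∈ Cfsg.pCoreOf 2 K := by
        simpa using conj_mem_pCoreOf (le_normalizer (K.inv_mem d.memk)) hp
      have h1 := hu₀fix _ hp'
      rw [map_mul, map_mul, map_inv, mul_smul, mul_smul, inv_smul_eq_iff] at h1
      exact h1
    -- `J` fixes the orbit product and its conjugates
    have hJfix : ∀ (κe : Gam L), (κe = 1 ∨ κe = κ ∨ κe = κ ^ 2) → ∀ j : L, (j : G) ∈ J →
        bar L j • κe • u₀ = κe • u₀ := by
      intro κe hκe j hj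
      rw [hu₀, Finset.smul_prod', Finset.smul_prod']
      refine Finset.prod_congr rfl fun o ho => ?_
      rw [Set.Finite.mem_toFinset] at ho
      obtain ⟨b, hbm, hob⟩ := hO o ho
      exact hfixJ b hbm κe hκe o hob j hj
    -- the element of `W`
    set x := moved κ u₀ with hx
    have hxmem := d.moved_mem hu₀R
    have hxfix : ∀ p : L, (p : G) ∈ Cfsg.pCoreOf 2 K → bar L p • x = x := by
      intro p hp
      rw [hx, moved_apply, smul_div', hκfix p hp, hu₀fix p hp]
    set x' := moved κ x with hx'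
    have hx'W : (x' : G) ∈ Cfsg.wOf K := d.mem_wOf hxmem.1 hxmem.2 hxfix
    have hx'eq : x' = κ ^ 2 • u₀ / u₀ := by
      rw [hx', hx, moved_apply, moved_apply, smul_div', pow_two, mul_smul, div_eq_mul' sq_VOf,
        div_eq_mul' sq_VOf, div_eq_mul' sq_VOf, div_eq_mul' sq_VOf, mul_assoc,
        ← mul_assoc (κ • u₀) (κ • u₀), sq_VOf, one_mul]
    -- it is nontrivial
    have hx'1 : x' ≠ 1 := by
      rw [hx'eq, Ne, div_eq_one]
      intro e
      set y := bar L ka
      have hwy : w ∈ modComm (V := VOf L) y :=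
        hpa.block.modComm_transvection_le hst hpa.trans hpa.bar_inv hw
      have hone : ∀ o ∈ O, ∀ (kb : L), IsBlockElt (VOf L) (Cfsg.fittingSubgroup (Gam L)) (bar L kb) →
          ∀ g : Gam L, o ∈ modComm (V := VOf L) (bar L kb) →
          y ∉ zpowers (g * bar L kb * g⁻¹) → moved y (g • o) = 1 := by
        intro o _ kb hkb g hok hne
        rw [moved_apply, div_eq_one]
        exact (hkb.conj hst g).smul_eq_self hst hpa.block hne (smul_modComm_mem hok)
      -- factors of `u₀` in the block of `y` equal `w`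
      have h0 : moved y u₀ = moved y w := by
        rw [hu₀, map_prod]
        refine Finset.prod_eq_single w (fun o ho hne => ?_) (fun hnot => ?_)
        · rw [Set.Finite.mem_toFinset] at ho
          obtain ⟨p, -, rfl⟩ := ho
          set b := (p : L) * a * (p : L)⁻¹
          have hbm : Mover T L b := d.ctx.mover_conj ha (d.R_le_normalizer_J (d.P_le p.2))
          have hp' := hpa.conj hst (p : L)
          have := hone _ ⟨p, trivial, rfl⟩ _ hp'.block 1
            (by rw [map_mul, map_mul, map_inv]; exact smul_modComm_mem hwy) ?_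
          · rwa [one_smul] at this
          · rw [one_mul, inv_one, mul_one]
            intro hm
            apply hne
            have hinv : bar L b * y * bar L b = y⁻¹ := by
              have htb : bar L b * bar L b = 1 := hp'.trans.1
              have h1 : bar L b * bar L ((p : L) * ka * (p : L)⁻¹) * bar L b =
                  (bar L ((p : L) * ka * (p : L)⁻¹))⁻¹ := hp'.bar_inv
              rcases eq_or_eq_inv_of_mem_zpowers hp'.block.order hm hpa.block.ne_one with e' | e'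
              · rwa [← e'] at h1
              · rw [show bar L ((p : L) * ka * (p : L)⁻¹) = y⁻¹ by rw [e', inv_inv], inv_inv] at h1
                have h4 := congrArg (fun x => x⁻¹) h1
                simp only [mul_inv_rev, inv_eq_of_mul_eq_one_right htb, inv_inv, ← mul_assoc] at h4
                exact h4
            have he := hpa.block.eq_of_twoGroup hst hpa.trans hpa.bar_inv hp'.trans hinv
              d.ctx.isPGroup_img (d.ctx.bar_mover_mem ha) (d.ctx.bar_mover_mem hbm)
            have hc : Commute (bar L (p : L)) (bar L a) := by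
              rw [map_mul, map_mul, map_inv] at he
              exact mul_inv_eq_iff_eq_mul.mp he.symm
            -- the only nontrivial element of `[V, a]`
            have hmemw := smul_modComm_of_commute hc hw
            obtain ⟨b', c', -, hall⟩ := Nat.card_eq_two_iff.mp hta.2
            have h3 : ∀ q : modComm (V := VOf L) (bar L a), q = b' ∨ q = c' := fun q => by
              have : q ∈ ({b', c'} : Set _) := hall ▸ Set.mem_univ q
              simpa using this
            have hpw1 : bar L (p : L) • w ≠ 1 := fun e' =>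
              hw1 ((smul_left_cancel_iff (bar L (p : L))).mp (e'.trans (smul_one _).symm))
            rcases h3 ⟨w, hw⟩ with h4 | h4 <;> rcases h3 ⟨_, hmemw⟩ with h5 | h5 <;>
              rcases h3 1 with h6 | h6 <;>
              first
                | exact congrArg Subtype.val (h5.trans h4.symm)
                | exact absurd (congrArg Subtype.val (h4.trans h6.symm)) hw1
                | exact absurd (congrArg Subtype.val (h5.trans h6.symm)) hpw1
        · exact absurd ((Set.Finite.mem_toFinset hOfin).mpr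
            ⟨1, trivial, by simp⟩) hnot
      have h2 : moved y (κ ^ 2 • u₀) = 1 := by
        rw [hu₀, Finset.smul_prod', map_prod]
        refine Finset.prod_eq_one fun o ho => ?_
        rw [Set.Finite.mem_toFinset] at ho
        obtain ⟨p, -, rfl⟩ := ho
        set b := (p : L) * a * (p : L)⁻¹
        have hbm : Mover T L b := d.ctx.mover_conj ha (d.R_le_normalizer_J (d.P_le p.2))
        have hp' := hpa.conj hst (p : L)
        refine hone _ ⟨p, trivial, rfl⟩ _ hp'.block (κ ^ 2)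
          (by rw [map_mul, map_mul, map_inv]; exact smul_modComm_mem hwy) fun hm => hanot ?_
        by_cases hmv : κ * bar L ((p : L) * ka * (p : L)⁻¹) * κ⁻¹ ∈
            zpowers (bar L ((p : L) * ka * (p : L)⁻¹))
        · -- `κ` fixes that block, so `y` is it
          exfalso
          apply hmovedA
          set y' := bar L ((p : L) * ka * (p : L)⁻¹) with hy'
          have hfix2 : κ ^ 2 * y' * (κ ^ 2)⁻¹ ∈ zpowers y' := by
            obtain ⟨m, hm'⟩ := mem_zpowers_iff.mp hmv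
            rw [show κ ^ 2 * y' * (κ ^ 2)⁻¹ = κ * (κ * y' * κ⁻¹) * κ⁻¹ by rw [pow_two]; group, ← hm',
              ← conj_zpow]
            exact zpow_mem hmv m
          have hy2 : y ∈ zpowers y' := zpowers_le.mpr hfix2 hm
          obtain ⟨m, hm'⟩ := mem_zpowers_iff.mp hy2
          rw [zpowers_eq_of_mem hp'.block.order hy2 hpa.block.ne_one, ← hm', ← conj_zpow]
          exact zpow_mem hmv m
        · have he := d.conj_eq_of_block hbm hp' hmv ha hpa (Or.inr rfl) hm
          rw [he, show κ * (κ ^ 2 * bar L b * (κ ^ 2)⁻¹) * κ⁻¹ = κ ^ 3 * bar L b * (κ ^ 3)⁻¹ by group,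
            hκ3, one_mul, inv_one, mul_one]
          exact Ctx.mem_img.mpr ⟨b, hbm.mem_J, b.2, rfl⟩
      rw [e, h0] at h2
      exact hw1 (eq_one_of_fixed hst.sq hpa.block.odd hwy (div_eq_one.mp h2))
    -- conclusion: `J` centralises `W`
    set W := Cfsg.wOf K
    have hx'J : ∀ (κe : Gam L), (κe = 1 ∨ κe = κ) → ∀ j : L, (j : G) ∈ J →
        bar L j • κe • x' = κe • x' := by
      intro κe hκe j hj
      rw [hx'eq, smul_div', smul_div']
      rcases hκe with rfl | rfl
      · simp only [one_smul]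
        have h1 := hJfix 1 (Or.inl rfl) j hj
        rw [one_smul] at h1
        rw [hJfix _ (Or.inr (Or.inr rfl)) j hj, h1]
      · rw [← mul_smul κ (κ ^ 2), ← pow_succ', hκ3, one_smul]
        have h1 := hJfix 1 (Or.inl rfl) j hj
        rw [one_smul] at h1
        rw [h1, hJfix _ (Or.inr (Or.inl rfl)) j hj]
    have hkn : (k : G) ∈ normalizer (W : Set G) :=
      normalizer_le_normalizer_wOf K (le_normalizer d.memk)
    have hκx : ((κ • x' : VOf L) : G) ∈ W := (mem_normalizer_iff.mp hkn _).mp hx'W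
    have hfpf := (d.three.wOf_spec d.memk d.ordk d.gen).2.2
    intro j hj
    have hfix : ∀ v : VOf L, bar L ⟨j, d.ctx.J_le hj⟩ • v = v →
        (v : G) ∈ centralizer ({j} : Set G) := by
      intro v hv
      have h := congrArg Subtype.val hv
      rw [coe_bar_smul] at h
      exact mem_centralizer_singleton_iff.mpr (mul_inv_eq_iff_eq_mul.mp h).symm
    have h4 : W ≤ W ⊓ centralizer ({j} : Set G) := by
      have m1 : (x' : G) ∈ W ⊓ centralizer ({j} : Set G) := ⟨hx'W, hfix _ (by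
        simpa using hx'J 1 (Or.inl rfl) ⟨j, d.ctx.J_le hj⟩ hj)⟩
      have m2 : ((κ • x' : VOf L) : G) ∈ W ⊓ centralizer ({j} : Set G) :=
        ⟨hκx, hfix _ (hx'J κ (Or.inr rfl) ⟨j, d.ctx.J_le hj⟩ hj)⟩
      have n1 : (x' : G) ≠ 1 := fun e => hx'1 (Subtype.ext e)
      have n2 : ((κ • x' : VOf L) : G) ≠ 1 := fun e =>
        hx'1 ((smul_left_cancel_iff κ).mp ((Subtype.ext e).trans (smul_one κ).symm))
      have n3 : ((κ • x' : VOf L) : G) ≠ x' := fun e => n1 (hfpf _ hx'W e)
      have h7 : 2 < Nat.card ↥(W ⊓ centralizer ({j} : Set G)) := by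
        have hinj : Function.Injective
            ![(1 : ↥(W ⊓ centralizer ({j} : Set G))), ⟨_, m1⟩, ⟨_, m2⟩] := by
          intro i i' hij
          have hv := congrArg Subtype.val hij
          fin_cases i <;> fin_cases i' <;>
            simp only [Fin.zero_eta, Fin.isValue, Matrix.cons_val_zero, Matrix.cons_val_one,
              Matrix.head_cons, Fin.mk_one, Fin.reduceFinMk, Matrix.cons_val_two, Matrix.tail_cons,
              OneMemClass.coe_one, Matrix.cons_val] at hv <;>
            first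
              | rfl
              | exact absurd hv.symm n1
              | exact absurd hv n1
              | exact absurd hv.symm n2
              | exact absurd hv n2
              | exact absurd hv n3
              | exact absurd hv.symm n3
        have := Nat.card_le_card_of_injective _ hinj
        rw [Nat.card_fin] at this
        omega
      refine (Subgroup.eq_of_le_of_card_ge inf_le_left ?_).ge
      have hdvd := Subgroup.card_dvd_of_le (inf_le_left : W ⊓ centralizer ({j} : Set G) ≤ W)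
      rw [d.card] at hdvd ⊢
      have := Nat.le_of_dvd (by norm_num) hdvd
      interval_cases hc : Nat.card ↥(W ⊓ centralizer ({j} : Set G)) <;> omega
    exact Subgroup.centralizer_le_normalizer _
      (mem_centralizer_iff.mpr fun v hv => mem_centralizer_singleton_iff.mp (h4 hv).2)

end RecData

end CfsgLib.JComp
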