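import Cfsg.Agent.JComp.Blocks
import Cfsg.Agent.Solvable.Fitting
import Cfsg.Agent.LocalStructure.Elements
import Cfsg.Prelude.Def_JComponents

/-!
The action of a member `L` of the family attached to `T` on `V = Ω₁(Z(O₂(L)))`.
-/

set_option autoImplicit false

namespace CfsgLib.JComp

open Subgroup
open scoped IsMulCommutative

variable {G : Type*} [Group G]

/-- `Ω₁(Z(O₂(L)))`. -/
abbrev VOf (L : Subgroup G) : Subgroup G := Cfsg.omegaCenterOf (Cfsg.pCoreOf 2 L)

theorem isMulCommutative_inf_centralizer (X : Subgroup G) :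
    IsMulCommutative ↥(X ⊓ centralizer (X : Set G)) :=
  le_centralizer_iff_isMulCommutative.mp
    (inf_le_right.trans (centralizer_le (inf_le_left : X ⊓ centralizer (X : Set G) ≤ X)))

theorem isElementaryAbelian_omegaCenterOf (X : Subgroup G) :
    Cfsg.IsElementaryAbelian 2 (Cfsg.omegaCenterOf X) :=
  CfsgLib.PLocal.isElementaryAbelian_omegaOne (isMulCommutative_inf_centralizer X)

instance omegaCenterOf_isMulCommutative (X : Subgroup G) :
    IsMulCommutative ↥(Cfsg.omegaCenterOf X) :=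
  (isElementaryAbelian_omegaCenterOf X).1

theorem omegaCenterOf_le (X : Subgroup G) : Cfsg.omegaCenterOf X ≤ X :=
  (CfsgLib.PLocal.omegaOne_le 2 _).trans inf_le_left

theorem omegaCenterOf_le_centralizer (X : Subgroup G) :
    Cfsg.omegaCenterOf X ≤ centralizer (X : Set G) :=
  (CfsgLib.PLocal.omegaOne_le 2 _).trans inf_le_right

theorem map_omegaCenterOf {H : Type*} [Group H] {f : G →* H} (hf : Function.Injective f)
    (X : Subgroup G) : (Cfsg.omegaCenterOf X).map f = Cfsg.omegaCenterOf (X.map f) := by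
  rw [Cfsg.omegaCenterOf, CfsgLib.PLocal.map_omegaOne hf, CfsgLib.PLocal.map_inf_centralizer hf,
    Cfsg.omegaCenterOf]

theorem normalizer_le_normalizer_omegaCenterOf (X : Subgroup G) :
    normalizer (X : Set G) ≤ normalizer (Cfsg.omegaCenterOf X : Set G) := by
  intro g hg
  rw [mem_normalizer_iff_map_conj_eq] at hg ⊢
  exact (map_omegaCenterOf (f := (MulAut.conj g).toMonoidHom) (MulAut.conj g).injective X).trans
    (congrArg _ hg)

theorem pCoreOf_le (p : ℕ) (L : Subgroup G) : Cfsg.pCoreOf p L ≤ L :=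
  map_subtype_le _

theorem isPGroup_pCoreOf (p : ℕ) (L : Subgroup G) : IsPGroup p ↥(Cfsg.pCoreOf p L) :=
  (CfsgLib.PLocal.isPGroup_pCore p L).map _

theorem le_normalizer_pCoreOf (p : ℕ) (L : Subgroup G) :
    L ≤ normalizer (Cfsg.pCoreOf p L : Set G) := by
  intro g hg
  rw [mem_normalizer_iff_map_conj_eq]
  have h : (Cfsg.pCore p L).map (MulAut.conj (⟨g, hg⟩ : L)).toMonoidHom = Cfsg.pCore p L :=
    characteristic_iff_map_eq.mp inferInstance _
  conv_rhs => rw [Cfsg.pCoreOf, ← h]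
  rw [Cfsg.pCoreOf, map_map, map_map]
  rfl

theorem le_pCoreOf {p : ℕ} {L X : Subgroup G} (hXL : X ≤ L) (hLX : L ≤ normalizer (X : Set G))
    (hX : IsPGroup p X) : X ≤ Cfsg.pCoreOf p L := by
  have : (X.comap L.subtype).Normal := (normal_subgroupOf_iff_le_normalizer hXL).mpr hLX
  intro x hx
  exact ⟨⟨x, hXL hx⟩, CfsgLib.PLocal.le_pCore (IsPGroup.comap_subtype hX) hx, rfl⟩

theorem le_normalizer_VOf (L : Subgroup G) : L ≤ normalizer (VOf L : Set G) :=
  (le_normalizer_pCoreOf 2 L).trans (normalizer_le_normalizer_omegaCenterOf _)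

theorem VOf_le (L : Subgroup G) : VOf L ≤ Cfsg.pCoreOf 2 L := omegaCenterOf_le _

/-- The action of `L` on `V`. -/
def act (L : Subgroup G) : L →* MulAut ↥(VOf L) :=
  (normalizerMonoidHom (VOf L)).comp (inclusion (le_normalizer_VOf L))

/-- The group induced by `L` on `V`. -/
abbrev Gam (L : Subgroup G) : Subgroup (MulAut ↥(VOf L)) := (act L).range

/-- `L → Γ`. -/
def bar (L : Subgroup G) : L →* Gam L := (act L).rangeRestrict

theorem bar_surjective (L : Subgroup G) : Function.Surjective (bar L) :=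
  (act L).rangeRestrict_surjective

theorem coe_bar_smul {L : Subgroup G} (g : L) (v : VOf L) :
    ((bar L g • v : VOf L) : G) = (g : G) * (v : G) * (g : G)⁻¹ := rfl

theorem bar_eq_one_iff {L : Subgroup G} {g : L} :
    bar L g = 1 ↔ (g : G) ∈ centralizer (VOf L : Set G) := by
  constructor
  · intro h
    refine mem_centralizer_iff.mpr fun v hv => ?_
    have h1 := congrArg Subtype.val (congrArg (fun a : Gam L => a • (⟨v, hv⟩ : VOf L)) h)
    simp only [one_smul, coe_bar_smul] at h1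
    exact (mul_inv_eq_iff_eq_mul.mp h1).symm
  · intro h
    refine Subtype.ext (MulEquiv.ext fun v => Subtype.ext ?_)
    show (g : G) * (v : G) * (g : G)⁻¹ = (v : G)
    rw [← mem_centralizer_iff.mp h v v.2, mul_inv_cancel_right]

theorem faithfulGam {L : Subgroup G} (g : Gam L) (h : ∀ v : VOf L, g • v = v) : g = 1 :=
  Subtype.ext (MulEquiv.ext h)

theorem sq_VOf {L : Subgroup G} (v : VOf L) : v * v = 1 :=
  Subtype.ext (by
    simpa [pow_two] using (isElementaryAbelian_omegaCenterOf (Cfsg.pCoreOf 2 L)).2 v v.2)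

/-! ### The hypotheses -/

/-- The hypotheses used on a pair `(T, L)`. -/
structure Ctx (T L : Subgroup G) : Prop where
  solv : Group.IsSolvable L
  mem : L ∈ Cfsg.jOvergroups T
  znorm : ∀ S : Sylow 2 G, centralizer (Cfsg.omegaCenterOf (S : Subgroup G) : Set G) ≤
    normalizer ((S : Subgroup G) : Set G)

namespace Ctx

variable {T L : Subgroup G}

theorem le (h : Ctx T L) : T ≤ L := h.mem.1.1

theorem isPGroup (h : Ctx T L) : IsPGroup 2 T := h.mem.1.2.1

theorem self (h : Ctx T L) :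
    centralizer (Cfsg.pCoreOf 2 L : Set G) ≤ Cfsg.pCoreOf 2 L := h.mem.2.2

variable [Finite G]

/-- `T` as a Sylow subgroup of `L`. -/
theorem exists_sylow (h : Ctx T L) : ∃ P : Sylow 2 L, (P : Subgroup L) = T.subgroupOf L := by
  obtain ⟨P, hP⟩ := (IsPGroup.comap_subtype h.isPGroup : IsPGroup 2 (T.subgroupOf L)).exists_le_sylow
  refine ⟨P, le_antisymm (fun x hx => ?_) hP⟩
  have hodd : Odd ((T.subgroupOf L).relIndex P) :=
    h.mem.1.2.2.of_dvd_nat (relIndex_dvd_index_of_le hP)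
  obtain ⟨k, hk⟩ := IsPGroup.iff_card.mp P.isPGroup'
  have hdvd : (T.subgroupOf L).relIndex P ∣ 2 ^ k := by
    rw [← hk, ← CfsgLib.PLocal.card_mul_relIndex hP]; exact dvd_mul_left _ _
  have h1 : (T.subgroupOf L).relIndex P = 1 :=
    Nat.eq_one_of_dvd_coprimes (Nat.Coprime.pow_right k (Nat.coprime_two_right.mpr hodd)) dvd_rfl hdvd
  exact relIndex_eq_one.mp h1 hx

theorem pCoreOf_le_T (h : Ctx T L) : Cfsg.pCoreOf 2 L ≤ T := by
  obtain ⟨P, hP⟩ := h.exists_sylow
  rintro _ ⟨x, hx, rfl⟩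
  have := CfsgLib.PLocal.pCore_le_sylow P hx
  rw [hP] at this
  exact this

theorem VOf_le_T (h : Ctx T L) : VOf L ≤ T := (VOf_le L).trans h.pCoreOf_le_T

/-- `C_L(V)` normalises `T`. -/
theorem centralizer_le_normalizer (h : Ctx T L) :
    L ⊓ centralizer (VOf L : Set G) ≤ normalizer (T : Set G) := by
  obtain ⟨S, hS⟩ := h.isPGroup.exists_le_sylow
  have hQS : Cfsg.pCoreOf 2 L ≤ S := h.pCoreOf_le_T.trans hS
  have hZV : Cfsg.omegaCenterOf (S : Subgroup G) ≤ VOf L := by
    refine CfsgLib.PLocal.omegaOne_mono fun z hz => ?_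
    have hc : z ∈ centralizer (Cfsg.pCoreOf 2 L : Set G) := centralizer_le hQS hz.2
    exact ⟨h.self hc, hc⟩
  intro c hc
  have hcS : c ∈ normalizer ((S : Subgroup G) : Set G) :=
    h.znorm S (Subgroup.centralizer_le hZV hc.2)
  obtain ⟨P, hP⟩ := h.exists_sylow
  have hSL : (S : Subgroup G) ⊓ L = T := by
    refine le_antisymm ?_ (le_inf hS h.le)
    intro x hx
    have h1 : (P : Subgroup L) ≤ (S : Subgroup G).subgroupOf L := by
      rw [hP]; exact fun y hy => hS hy
    have h2 := P.is_maximal' (IsPGroup.comap_subtype S.isPGroup') h1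
    have h3 : (⟨x, hx.2⟩ : L) ∈ (S : Subgroup G).subgroupOf L := hx.1
    exact mem_subgroupOf.mp ((h2.trans hP).le h3)
  rw [mem_normalizer_iff_map_conj_eq, ← hSL]
  show (((S : Subgroup G) ⊓ L).map (MulAut.conj c).toMonoidHom) = _
  rw [Subgroup.map_inf _ _ _ (MulAut.conj c).injective]
  exact congrArg₂ _ (mem_normalizer_iff_map_conj_eq.mp hcS)
    (mem_normalizer_iff_map_conj_eq.mp (le_normalizer hc.1))

/-- `C_L(V) ∩ T ≤ O₂(L)`. -/
theorem centralizer_inf_le (h : Ctx T L) :
    L ⊓ centralizer (VOf L : Set G) ⊓ T ≤ Cfsg.pCoreOf 2 L := by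
  intro x hx
  let C : Subgroup L := (bar L).ker
  have hmemC : ∀ y : L, y ∈ C ↔ (y : G) ∈ centralizer (VOf L : Set G) := fun y =>
    MonoidHom.mem_ker.trans bar_eq_one_iff
  let X : Subgroup L := C ⊓ T.subgroupOf L
  have hXn : C ≤ normalizer (X : Set L) := by
    intro c hc
    refine mem_normalizer_iff.mpr fun y => ?_
    have hcN := h.centralizer_le_normalizer ⟨c.2, (hmemC c).mp hc⟩
    constructor
    · rintro ⟨hy1, hy2⟩
      exact ⟨C.mul_mem (C.mul_mem hc hy1) (C.inv_mem hc), (mem_normalizer_iff.mp hcN y).mp hy2⟩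
    · rintro ⟨hy1, hy2⟩
      refine ⟨?_, (mem_normalizer_iff.mp hcN y).mpr hy2⟩
      have := C.mul_mem (C.mul_mem (C.inv_mem hc) hy1) hc
      simpa [mul_assoc] using this
  have h1 : X ≤ Cfsg.pCore 2 L :=
    CfsgLib.PLocal.le_pCore_of_le_isSubnormal (Subgroup.Normal.isSubnormal inferInstance) X
      inf_le_left hXn ((IsPGroup.comap_subtype h.isPGroup).to_le inf_le_right)
  exact ⟨⟨x, hx.1.1⟩, h1 ⟨(hmemC _).mpr hx.1.2, hx.2⟩, rfl⟩

/-- `[C_L(V), T] ≤ O₂(L)`. -/
theorem commutator_mem (h : Ctx T L) {c t : G} (hc : c ∈ L ⊓ centralizer (VOf L : Set G))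
    (ht : t ∈ T) : c * t * c⁻¹ * t⁻¹ ∈ Cfsg.pCoreOf 2 L := by
  have hcN := h.centralizer_le_normalizer hc
  have h1 : c * t * c⁻¹ * t⁻¹ ∈ T := T.mul_mem ((mem_normalizer_iff.mp hcN t).mp ht) (T.inv_mem ht)
  refine h.centralizer_inf_le ⟨⟨h.le h1, ?_⟩, h1⟩
  have hb : bar L (⟨c, hc.1⟩ * ⟨t, h.le ht⟩ * ⟨c, hc.1⟩⁻¹ * ⟨t, h.le ht⟩⁻¹) = 1 := by
    rw [map_mul, map_mul, map_mul, map_inv, map_inv, (bar_eq_one_iff (g := ⟨c, hc.1⟩)).mpr hc.2]
    simp
  exact bar_eq_one_iff.mp hb

/-- `O₂(L / C_L(V)) = 1`. -/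
theorem pCore_gam_eq_bot (h : Ctx T L) : Cfsg.pCore 2 (Gam L) = ⊥ := by
  let R : Subgroup L := (Cfsg.pCore 2 (Gam L)).comap (bar L)
  let C : Subgroup L := (bar L).ker
  obtain ⟨P, hP⟩ := h.exists_sylow
  have hmap : Cfsg.pCore 2 (Gam L) ≤ (P : Subgroup L).map (bar L) :=
    CfsgLib.PLocal.pCore_le_sylow (P.mapSurjective (bar_surjective L))
  have hRT : R ≤ C ⊔ (R ⊓ (P : Subgroup L)) := by
    intro r hr
    obtain ⟨p, hp, hpr⟩ := hmap (mem_comap.mp hr)
    have hpR : p ∈ R := by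
      refine mem_comap.mpr ?_
      rw [hpr]
      exact mem_comap.mp hr
    have : r = (r * p⁻¹) * p := by group
    rw [this]
    refine mul_mem_sup ?_ ⟨hpR, hp⟩
    rw [MonoidHom.mem_ker, map_mul, map_inv, hpr, mul_inv_cancel]
  have hnorm : R ≤ normalizer ((R ⊓ (P : Subgroup L) : Subgroup L) : Set L) := by
    refine hRT.trans (sup_le ?_ le_normalizer)
    intro c hc
    refine mem_normalizer_iff.mpr fun y => ?_
    have hcN := h.centralizer_le_normalizer ⟨c.2, bar_eq_one_iff.mp (MonoidHom.mem_ker.mp hc)⟩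
    have hRn : R.Normal := inferInstance
    rw [mem_inf, mem_inf, hP, mem_subgroupOf, mem_subgroupOf]
    refine ⟨fun hy => ⟨hRn.conj_mem y hy.1 c, (mem_normalizer_iff.mp hcN y).mp hy.2⟩,
      fun hy => ⟨?_, (mem_normalizer_iff.mp hcN y).mpr hy.2⟩⟩
    simpa [mul_assoc] using hRn.conj_mem _ hy.1 c⁻¹
  have hQ : R ⊓ (P : Subgroup L) ≤ Cfsg.pCore 2 L :=
    CfsgLib.PLocal.le_pCore_of_le_isSubnormal (Subgroup.Normal.isSubnormal inferInstance) _
      inf_le_left hnorm (P.isPGroup'.to_le inf_le_right)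
  have hQC : Cfsg.pCore 2 L ≤ C := by
    intro q hq
    refine MonoidHom.mem_ker.mpr (bar_eq_one_iff.mpr (mem_centralizer_iff.mpr fun v hv => ?_))
    exact (mem_centralizer_iff.mp (omegaCenterOf_le_centralizer _ hv) q ⟨q, hq, rfl⟩).symm
  refine (Subgroup.eq_bot_iff_forall _).mpr fun g hg => ?_
  obtain ⟨r, rfl⟩ := bar_surjective L g
  exact MonoidHom.mem_ker.mp ((hRT.trans (sup_le le_rfl (hQ.trans hQC))) hg)

theorem gam_solvable (h : Ctx T L) : Group.IsSolvable (Gam L) :=
  have := h.solv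
  Group.isSolvable_of_surjective (bar_surjective L)

/-- The standing hypotheses hold for the group induced on `V`. -/
theorem setting (h : Ctx T L) :
    Setting (Gam L) ↥(VOf L) (Cfsg.fittingSubgroup (Gam L)) := by
  have := h.gam_solvable
  have hn := CfsgLib.Solvable.fittingSubgroup_normal (G := Gam L)
  have hnil := CfsgLib.Solvable.fittingSubgroup_isNilpotent (G := Gam L)
  refine ⟨sq_VOf, faithfulGam, ?_, hn, hnil, CfsgLib.Solvable.centralizer_fittingSubgroup_le⟩
  set F := Cfsg.fittingSubgroup (Gam L)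
  by_contra hodd
  rw [Nat.not_odd_iff_even, even_iff_two_dvd] at hodd
  have h2 : Fact (Nat.Prime 2) := ⟨Nat.prime_two⟩
  obtain ⟨P⟩ : Nonempty (Sylow 2 F) := inferInstance
  have hPn : (P : Subgroup F).Normal := Sylow.normal_of_normalizerCondition
    Group.normalizerCondition_of_isNilpotent P
  have : (P : Subgroup F).Characteristic := Sylow.characteristic_of_normal P hPn
  have hle : (P : Subgroup F).map F.subtype ≤ Cfsg.pCore 2 (Gam L) :=
    have := CfsgLib.PLocal.normal_map_subtype F (P : Subgroup F)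
    CfsgLib.PLocal.le_pCore (P.isPGroup'.map _)
  rw [h.pCore_gam_eq_bot, le_bot_iff, map_eq_bot_iff_of_injective _ F.subtype_injective] at hle
  exact (P.ne_bot_of_dvd_card hodd) hle

/-! ### Maximal elementary abelian subgroups act as offenders -/

/-- The image in `Γ` of a subgroup of `G`. -/
abbrev img (L A : Subgroup G) : Subgroup (Gam L) := (A.subgroupOf L).map (bar L)

theorem mem_img {A : Subgroup G} {g : Gam L} :
    g ∈ img L A ↔ ∃ a ∈ A, ∃ ha : a ∈ L, bar L ⟨a, ha⟩ = g :=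
  ⟨fun ⟨⟨a, ha⟩, haA, e⟩ => ⟨a, haA, ha, e⟩, fun ⟨a, haA, ha, e⟩ => ⟨⟨a, ha⟩, haA, e⟩⟩

theorem isElementaryAbelian_img {A : Subgroup G} (hA : Cfsg.IsElementaryAbelian 2 A) :
    Cfsg.IsElementaryAbelian 2 (img L A) :=
  CfsgLib.PLocal.isElementaryAbelian_map
    ((CfsgLib.PLocal.isElementaryAbelian_map_iff (f := L.subtype) L.subtype_injective).mp
      (CfsgLib.PLocal.isElementaryAbelian_of_le hA (map_comap_le L.subtype A))) _

theorem inf_centralizer_le (h : Ctx T L) {A : Subgroup G}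
    (hA : A ∈ CfsgLib.PLocal.maxEAIn 2 T) :
    VOf L ⊓ centralizer (A : Set G) ≤ A := by
  have hel := CfsgLib.PLocal.isElementaryAbelian_sup
    (CfsgLib.PLocal.isElementaryAbelian_of_le (isElementaryAbelian_omegaCenterOf _) inf_le_left)
    hA.2.1 (inf_le_right : VOf L ⊓ centralizer (A : Set G) ≤ centralizer (A : Set G))
  have h1 := hA.2.2 _ (sup_le (inf_le_left.trans h.VOf_le_T) hA.1) hel
  exact le_sup_left.trans (Subgroup.eq_of_le_of_card_ge le_sup_right h1).ge

/-- The image of a maximal elementary abelian subgroup is generated by its transvections. -/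
theorem img_le_closure (h : Ctx T L) {A : Subgroup G} (hA : A ∈ CfsgLib.PLocal.maxEAIn 2 T) :
    img L A ≤ Subgroup.closure {t | t ∈ img L A ∧ IsTransvection ↥(VOf L) t} := by
  have hAL : A ≤ L := hA.1.trans h.le
  obtain ⟨hle, heq⟩ := h.setting.offender (isElementaryAbelian_img (L := L) hA.2.1)
  refine heq (le_antisymm hle ?_)
  set B := A ⊓ centralizer (VOf L : Set G) with hB
  -- `fix` is `C_V(A)`
  have hfix : (VOf L ⊓ centralizer (A : Set G)).subgroupOf (VOf L) =
      fix (V := ↥(VOf L)) (img L A : Set (Gam L)) := by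
    ext v
    rw [mem_subgroupOf, mem_inf, mem_fix, and_iff_right v.2, mem_centralizer_iff]
    constructor
    · intro hv g hg
      obtain ⟨a, ha, haL, rfl⟩ := mem_img.mp hg
      refine Subtype.ext ?_
      rw [coe_bar_smul, hv a ha, mul_inv_cancel_right]
    · intro hv a ha
      have h1 := congrArg Subtype.val (hv _ (mem_img.mpr ⟨a, ha, hAL ha, rfl⟩))
      rw [coe_bar_smul] at h1
      exact mul_inv_eq_iff_eq_mul.mp h1
  rw [← hfix]
  show (VOf L ⊓ centralizer (A : Set G)).relIndex (VOf L) ≤ Nat.card (img L A)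
  -- `|A| = |image| * |B|`
  have hcardA : Nat.card (img L A) * Nat.card B = Nat.card A := by
    have h1 := Subgroup.card_mul_index ((bar L).comp (inclusion hAL)).ker
    have hr : ((bar L).comp (inclusion hAL)).range = img L A := by
      ext g
      rw [MonoidHom.mem_range, mem_img]
      exact ⟨fun ⟨⟨a, ha⟩, e⟩ => ⟨a, ha, hAL ha, e⟩, fun ⟨a, ha, haL, e⟩ => ⟨⟨a, ha⟩, e⟩⟩
    have hk : ((bar L).comp (inclusion hAL)).ker = B.subgroupOf A := by
      ext a
      rw [MonoidHom.mem_ker, MonoidHom.comp_apply, bar_eq_one_iff, mem_subgroupOf, hB, mem_inf,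
        and_iff_right a.2]
      rfl
    rw [index_ker, hr, hk,
      Nat.card_congr (Subgroup.subgroupOfEquivOfLe (inf_le_left : B ≤ A)).toEquiv] at h1
    rw [mul_comm, h1]
  -- `B ⊔ V` is elementary abelian in `T`
  have hBc : B ≤ centralizer (VOf L : Set G) := inf_le_right
  have hel := CfsgLib.PLocal.isElementaryAbelian_sup
    (CfsgLib.PLocal.isElementaryAbelian_of_le hA.2.1 (inf_le_left : B ≤ A))
    (isElementaryAbelian_omegaCenterOf _) hBc
  have hmax := hA.2.2 _ (sup_le (inf_le_left.trans hA.1) h.VOf_le_T) hel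
  have hprod := card_sup_mul_card_inf B (VOf L) (hBc.trans (Subgroup.centralizer_le_normalizer _))
  have hinf : B ⊓ VOf L ≤ VOf L ⊓ centralizer (A : Set G) := fun v hv =>
    ⟨hv.2, mem_centralizer_iff.mpr fun a ha =>
      le_centralizer_iff_isMulCommutative.mpr hA.2.1.1 hv.1.1 a ha⟩
  have hVi := CfsgLib.PLocal.card_mul_relIndex
    (inf_le_left : VOf L ⊓ centralizer (A : Set G) ≤ VOf L)
  have hc := Subgroup.card_le_of_le hinf
  refine Nat.le_of_mul_le_mul_left ?_ (Nat.mul_pos Nat.card_pos Nat.card_pos :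
    0 < Nat.card B * Nat.card ↥(VOf L ⊓ centralizer (A : Set G)))
  calc Nat.card B * Nat.card ↥(VOf L ⊓ centralizer (A : Set G)) *
        (VOf L ⊓ centralizer (A : Set G)).relIndex (VOf L)
      = Nat.card B * Nat.card ↥(VOf L) := by rw [mul_assoc, hVi]
    _ = Nat.card ↥(B ⊔ VOf L) * Nat.card ↥(B ⊓ VOf L) := hprod.symm
    _ ≤ Nat.card A * Nat.card ↥(VOf L ⊓ centralizer (A : Set G)) := Nat.mul_le_mul hmax hc
    _ = _ := by rw [← hcardA]; ring
where
  /-- The order of a product with a normalised subgroup. -/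
  card_sup_mul_card_inf (H N : Subgroup G) (hn : H ≤ normalizer (N : Set G)) :
      Nat.card ↥(H ⊔ N) * Nat.card ↥(H ⊓ N) = Nat.card H * Nat.card N := by
    haveI : (N.subgroupOf (H ⊔ N)).Normal :=
      normal_subgroupOf_of_le_normalizer (sup_le hn le_normalizer)
    haveI : (N.subgroupOf H).Normal := normal_subgroupOf_of_le_normalizer hn
    have e1 : Nat.card ↥(N.subgroupOf (H ⊔ N)) * (N.subgroupOf (H ⊔ N)).index = Nat.card ↥(H ⊔ N) :=
      card_mul_index _
    have e2 : Nat.card ↥(N.subgroupOf H) * (N.subgroupOf H).index = Nat.card ↥H := card_mul_index _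
    have e3 : Nat.card ↥(N.subgroupOf (H ⊔ N)) = Nat.card ↥N :=
      Nat.card_congr (subgroupOfEquivOfLe le_sup_right).toEquiv
    have e4 : Nat.card ↥(N.subgroupOf H) = Nat.card ↥(H ⊓ N) := by
      rw [← inf_subgroupOf_left]
      exact Nat.card_congr (subgroupOfEquivOfLe inf_le_left).toEquiv
    have e5 : (N.subgroupOf (H ⊔ N)).index = (N.subgroupOf H).index := by
      simpa [Subgroup.index] using
        (Nat.card_congr (QuotientGroup.quotientInfEquivProdNormalizerQuotient H N hn).toEquiv).symm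
    rw [← e1, ← e2, e3, e4, e5]
    ring

end Ctx

end CfsgLib.JComp
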