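import Cfsg.Agent.JComp.Center

/-!
Facts for recognising components: subnormal subgroups generated by elements of odd order, iterated
commutators, and the fixed vectors of movers.
-/

set_option autoImplicit false

namespace CfsgLib.JComp

open Subgroup
open scoped IsMulCommutative commutatorElement

variable {G : Type*} [Group G]

/-- Iterated commutators with an element of a subnormal subgroup end in that subgroup. -/
theorem exists_iterate_mem {H : Subgroup G} (hH : H.IsSubnormal) {k : G} (hk : k ∈ H) (g : G) :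
    ∃ n : ℕ, (fun z => z * k * z⁻¹ * k⁻¹)^[n] g ∈ H := by
  induction hH with
  | top => exact ⟨0, trivial⟩
  | step A B hle _ hnorm ih =>
    obtain ⟨n, hn⟩ := ih (hle hk)
    refine ⟨n + 1, ?_⟩
    rw [Function.iterate_succ_apply']
    set z := (fun z => z * k * z⁻¹ * k⁻¹)^[n] g
    exact A.mul_mem (hnorm.conj_mem ⟨k, hle hk⟩ hk ⟨z, hn⟩) (A.inv_mem hk)

variable [Finite G]

/-- A subnormal subgroup of `2`-power index contains all elements of odd order. -/
theorem mem_of_isSubnormal_of_index {H : Subgroup G} (hH : H.IsSubnormal) :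
    ∀ {m : ℕ}, H.index ∣ 2 ^ m → ∀ g : G, Odd (orderOf g) → g ∈ H := by
  induction hH with
  | top => intro m _ g _; trivial
  | step A B hle _ hnorm ih =>
    intro m hm g hg
    have hmul := relIndex_mul_index hle
    have hgB : g ∈ B := ih (Dvd.dvd.trans ⟨A.relIndex B, by rw [← hmul, mul_comm]⟩ hm) g hg
    obtain ⟨j, -, hj⟩ := (Nat.dvd_prime_pow Nat.prime_two).mp
      (Dvd.dvd.trans ⟨B.index, hmul.symm⟩ hm)
    have hp : (⟨g, hgB⟩ : B) ^ 2 ^ j ∈ A.subgroupOf B := by
      rw [← hj]; exact Subgroup.pow_index_mem _ _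
    exact CfsgLib.LocalStructure.mem_of_coprime_of_pow_mem (p := 2) (k := j) (K := A.subgroupOf B)
      (b := (⟨g, hgB⟩ : B)) (by rw [Subgroup.orderOf_mk]; exact Nat.coprime_two_right.mpr hg) hp

/-- `O₂(Y)` normalises a subnormal subgroup of `Y` generated by elements of odd order. -/
theorem pCoreOf_le_normalizer_of_subnormal {K Y : Subgroup G} (hKY : K ≤ Y)
    (hsn : (K.subgroupOf Y).IsSubnormal)
    (hgen : Subgroup.closure {g : G | g ∈ K ∧ Odd (orderOf g)} = K) :
    Cfsg.pCoreOf 2 Y ≤ normalizer (K : Set G) := by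
  set R := Cfsg.pCoreOf 2 Y
  have hKR : K ≤ normalizer (R : Set G) := hKY.trans (le_normalizer_pCoreOf 2 Y)
  set X := K ⊔ R with hX
  have hXY : X ≤ Y := sup_le hKY (pCoreOf_le 2 Y)
  have hsnX : (K.subgroupOf X).IsSubnormal := by
    have h := hsn.comap (inclusion hXY)
    exact h
  obtain ⟨m, hm⟩ : ∃ m : ℕ, (K.subgroupOf X).index ∣ 2 ^ m := by
    have hp : Fact (Nat.Prime 2) := ⟨Nat.prime_two⟩
    obtain ⟨m, hm⟩ := IsPGroup.iff_card.mp (isPGroup_pCoreOf 2 Y)
    refine ⟨m, ?_⟩
    have h := Ctx.img_le_closure.card_sup_mul_card_inf K R hKR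
    have h2 := CfsgLib.PLocal.card_mul_relIndex (le_sup_left : K ≤ K ⊔ R)
    rw [← h2, hm, mul_assoc] at h
    exact ⟨_, (Nat.eq_of_mul_eq_mul_left Nat.card_pos h).symm⟩
  intro r hr
  have hrX : r ∈ X := mem_sup_right hr
  have key : ∀ x ∈ X, ∀ g ∈ K, x * g * x⁻¹ ∈ K := by
    intro x hx g hg
    rw [← hgen] at hg
    induction hg using Subgroup.closure_induction with
    | mem g hg =>
      have hmem : x * g * x⁻¹ ∈ X := X.mul_mem (X.mul_mem hx (mem_sup_left hg.1)) (X.inv_mem hx)
      exact mem_of_isSubnormal_of_index hsnX hm ⟨_, hmem⟩ (by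
        rw [Subgroup.orderOf_mk, ← MulAut.conj_apply, MulEquiv.orderOf_eq]; exact hg.2)
    | one => simp
    | mul u v _ _ iu iv => simpa [mul_assoc] using K.mul_mem iu iv
    | inv u _ iu => simpa [mul_assoc] using K.inv_mem iu
  refine mem_normalizer_iff.mpr fun g => ⟨key r hrX g, fun h => ?_⟩
  have := key r⁻¹ (X.inv_mem hrX) _ h
  simpa [mul_assoc] using this

/-! ### Fixed vectors of movers -/

namespace Ctx

variable {T L : Subgroup G}

theorem isPGroup_img (h : Ctx T L) : IsPGroup 2 (img L T) :=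
  (IsPGroup.comap_subtype h.isPGroup).map _

theorem bar_mover_mem (h : Ctx T L) {a : L} (ha : Mover T L a) : bar L a ∈ img L T :=
  mem_img.mpr ⟨a, CfsgLib.PLocal.thompsonSubgroupOf_le 2 T ha.mem_J, a.2, rfl⟩

/-- A mover fixes `[V, t]` for every mover `t`. -/
theorem mover_fix (h : Ctx T L) {a b : L} (ha : Mover T L a) (hb : Mover T L b) {u : VOf L}
    (hu : u ∈ modComm (V := VOf L) (bar L a)) : bar L b • u = u := by
  obtain ⟨A, -, -, hta⟩ := id ha
  obtain ⟨B, -, -, htb⟩ := id hb
  obtain ⟨y, hy, hyinv⟩ := h.setting.exists_inverted hta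
  obtain ⟨z, hz, hzinv⟩ := h.setting.exists_inverted htb
  by_cases hyz : y ∈ zpowers z
  · have hzinv' : bar L b * y * bar L b = y⁻¹ := by
      rcases eq_or_eq_inv_of_mem_zpowers hz.order hyz hy.ne_one with rfl | rfl
      · exact hzinv
      · have h1 := congrArg (fun x => x⁻¹) hzinv
        simp only [mul_inv_rev, inv_eq_of_mul_eq_one_right htb.1] at h1
        rw [← mul_assoc] at h1
        exact h1
    have he := hy.eq_of_twoGroup h.setting hta hyinv htb hzinv' h.isPGroup_img (h.bar_mover_mem ha)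
      (h.bar_mover_mem hb)
    rw [← he]
    obtain ⟨v, rfl⟩ := hu
    rw [moved_apply, smul_div', ← mul_smul, hta.1, one_smul, div_eq_mul' sq_VOf, div_eq_mul' sq_VOf,
      mul_comm]
  · exact (hz.transvection_other h.setting htb hzinv hy hyz).2 u
      (hy.modComm_transvection_le h.setting hta hyinv hu)

/-- `J(T)` fixes `[V, t]` for every mover `t`. -/
theorem J_fix (h : Ctx T L) {a : L} (ha : Mover T L a) {u : VOf L}
    (hu : u ∈ modComm (V := VOf L) (bar L a)) {j : L}
    (hj : (j : G) ∈ Cfsg.thompsonSubgroupOf 2 T) : bar L j • u = u := by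
  have h1 := h.bar_mem_closure_movers hj
  refine MulAction.mem_stabilizer_iff.mp
    ((Subgroup.closure_le (K := MulAction.stabilizer (Gam L) u)).mpr ?_ h1)
  rintro _ ⟨b, hb, rfl⟩
  exact MulAction.mem_stabilizer_iff.mpr (h.mover_fix ha hb hu)

/-- Conjugates of movers by elements normalising `J(T)` are movers. -/
theorem mover_conj (h : Ctx T L) {a g : L} (ha : Mover T L a)
    (hg : (g : G) ∈ normalizer (Cfsg.thompsonSubgroupOf 2 T : Set G)) :
    Mover T L (g * a * g⁻¹) := by
  obtain ⟨A, hA, haA, ht⟩ := ha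
  refine ⟨A.map (MulAut.conj (g : G)).toMonoidHom, ⟨?_, CfsgLib.PLocal.isElementaryAbelian_map hA.2.1 _,
    fun C hC hCe => ?_⟩, ⟨(a : G), haA, rfl⟩, ?_, ?_⟩
  · refine le_trans ?_ (CfsgLib.PLocal.thompsonSubgroupOf_le 2 T)
    refine (map_mono (CfsgLib.PLocal.le_thompsonSubgroupOf hA)).trans (le_of_eq ?_)
    exact mem_normalizer_iff_map_conj_eq.mp hg
  · rw [card_map_of_injective (f := (MulAut.conj (g : G)).toMonoidHom) (MulAut.conj (g : G)).injective]
    exact hA.2.2 C hC hCe
  · rw [← map_mul, show g * a * g⁻¹ * (g * a * g⁻¹) = g * (a * a) * g⁻¹ by group, map_mul, map_mul,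
      map_inv, map_mul, ht.1, mul_one, mul_inv_cancel]
  · rw [map_mul, map_mul, map_inv, card_modComm_conj, ht.2]

end Ctx

end CfsgLib.JComp
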