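import Cfsg.Agent.JComp.Zero
import Cfsg.Agent.JComp.Sn

/-!
The maximal straddling `2`-subgroups of `M` and the components outside `M`.
-/

set_option autoImplicit false

namespace CfsgLib.JComp

open Subgroup
open scoped IsMulCommutative commutatorElement

variable {G : Type*} [Group G] [Finite G]

theorem maxElemAbelianOrder_eq {T A : Subgroup G} (hA : A ∈ CfsgLib.PLocal.maxEAIn 2 T) :
    Cfsg.maxElemAbelianOrder T = Nat.card A := by
  have h : (fun A : Subgroup ↥T => Nat.card A) '' Cfsg.maxElementaryAbelianSubgroups 2 ↥T =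
      {Nat.card A} := by
    ext n
    constructor
    · rintro ⟨B, hB, rfl⟩
      have hB' : B.map T.subtype ∈ CfsgLib.PLocal.maxEAIn 2 T :=
        CfsgLib.PLocal.image_map_maxEA 2 T ▸ ⟨B, hB, rfl⟩
      show Nat.card B = Nat.card A
      rw [← card_map_of_injective T.subtype_injective]
      exact le_antisymm (hA.2.2 _ hB'.1 hB'.2.1) (hB'.2.2 _ hA.1 hA.2.1)
    · rintro rfl
      rw [← CfsgLib.PLocal.image_map_maxEA] at hA
      obtain ⟨B, hB, rfl⟩ := hA
      exact ⟨B, hB, (card_map_of_injective T.subtype_injective).symm⟩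
  rw [Cfsg.maxElemAbelianOrder, h, csSup_singleton]

/-- The hypotheses on `S`, `M`, `T`. -/
structure Straddle (S : Sylow 2 G) (M T : Subgroup G) : Prop where
  char2 : Cfsg.IsCharacteristicTwoType G
  locSolv : ∀ N : Subgroup G, Cfsg.IsTwoLocal N → Group.IsSolvable ↥N
  znorm : ∀ S : Sylow 2 G, centralizer (Cfsg.omegaCenterOf (S : Subgroup G) : Set G) ≤
    normalizer ((S : Subgroup G) : Set G)
  nJ : normalizer (Cfsg.thompsonSubgroupOf 2 (S : Subgroup G) : Set G) ≤ M
  max : T ∈ Cfsg.maxStraddlingTwoSubgroups M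

namespace Straddle

variable {S : Sylow 2 G} {M T : Subgroup G}

theorem isPGroup (d : Straddle S M T) : IsPGroup 2 T := d.max.1.1

theorem le (d : Straddle S M T) : T ≤ M := d.max.1.2.2.1

theorem J_ne_bot (d : Straddle S M T) : Cfsg.thompsonSubgroupOf 2 T ≠ ⊥ := by
  intro e
  have hp : Fact (Nat.Prime 2) := ⟨Nat.prime_two⟩
  obtain ⟨A, hA⟩ := CfsgLib.PLocal.maxEAIn_nonempty 2 T
  have hA1 : A = ⊥ := le_bot_iff.mp (e ▸ CfsgLib.PLocal.le_thompsonSubgroupOf hA)
  have := d.max.1.2.1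
  obtain ⟨n, hn⟩ := IsPGroup.iff_card.mp d.isPGroup
  have h2 : 2 ∣ Nat.card T := by
    rw [hn]
    refine dvd_pow_self 2 fun e' => this ?_
    rw [e', pow_zero] at hn
    exact Subgroup.card_eq_one.mp hn
  obtain ⟨x, hx⟩ := exists_prime_orderOf_dvd_card' 2 h2
  have hel := CfsgLib.PLocal.isElementaryAbelian_zpowers (p := 2) (x := (x : G)) (by
    rw [← Subgroup.coe_pow, ← hx, pow_orderOf_eq_one, Subgroup.coe_one])
  have h3 := hA.2.2 _ (zpowers_le.mpr x.2) hel
  rw [hA1, Subgroup.card_bot, Nat.card_zpowers, Subgroup.orderOf_coe, hx] at h3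
  omega

/-- A straddling subgroup containing `J(T)` has the same Thompson subgroup and at most the same order. -/
theorem eq_of_straddling (d : Straddle S M T) {U : Subgroup G}
    (hU : U ∈ Cfsg.straddlingTwoSubgroups M) (hJ : Cfsg.thompsonSubgroupOf 2 T ≤ U) :
    Cfsg.thompsonSubgroupOf 2 U = Cfsg.thompsonSubgroupOf 2 T ∧ Nat.card U ≤ Nat.card T := by
  obtain ⟨h1, h2⟩ := d.max.2 U hU
  obtain ⟨A, hA⟩ := CfsgLib.PLocal.maxEAIn_nonempty 2 T
  obtain ⟨B, hB⟩ := CfsgLib.PLocal.maxEAIn_nonempty 2 U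
  rw [maxElemAbelianOrder_eq hA, maxElemAbelianOrder_eq hB] at h1 h2
  have hAB := hB.2.2 A ((CfsgLib.PLocal.le_thompsonSubgroupOf hA).trans hJ) hA.2.1
  obtain ⟨h3, h4⟩ := h2 (le_antisymm h1 hAB)
  have hle : Cfsg.thompsonSubgroupOf 2 T ≤ Cfsg.thompsonSubgroupOf 2 U := by
    rw [CfsgLib.PLocal.thompsonSubgroupOf_eq 2 T]
    refine sSup_le fun C hC => CfsgLib.PLocal.le_thompsonSubgroupOf
      ⟨(CfsgLib.PLocal.le_thompsonSubgroupOf hC).trans hJ, hC.2.1, fun D hD hDe => ?_⟩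
    exact ((hB.2.2 D hD hDe).trans h1).trans (hC.2.2 A hA.1 hA.2.1)
  have he := Subgroup.eq_of_le_of_card_ge hle h3
  exact ⟨he.symm, h4 (by rw [he])⟩

/-- `N(J(T)) ≤ M`. -/
theorem normalizer_J_le (d : Straddle S M T) :
    normalizer (Cfsg.thompsonSubgroupOf 2 T : Set G) ≤ M := by
  by_contra hN
  set J := Cfsg.thompsonSubgroupOf 2 T
  set NJ := normalizer (J : Set G)
  have hp : Fact (Nat.Prime 2) := ⟨Nat.prime_two⟩
  have hJp : IsPGroup 2 J := d.isPGroup.to_le (CfsgLib.PLocal.thompsonSubgroupOf_le 2 T)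
  have hloc : Cfsg.IsTwoLocal NJ := ⟨J, hJp, d.J_ne_bot, rfl⟩
  have hTN : T ≤ NJ :=
    le_normalizer.trans (CfsgLib.PLocal.normalizer_le_normalizer_thompsonSubgroupOf 2 T)
  have hkey : ∀ U : Subgroup G, IsPGroup 2 U → T ≤ U → U ≤ M → U ≤ NJ → U = T := by
    intro U hU hTU hUM hUN
    have hUmem : U ∈ Cfsg.straddlingTwoSubgroups M :=
      ⟨hU, fun e => d.max.1.2.1 (le_bot_iff.mp (e ▸ hTU)), hUM, NJ, hloc, hUN, hN⟩
    exact (Subgroup.eq_of_le_of_card_ge hTU
      (d.eq_of_straddling hUmem ((CfsgLib.PLocal.thompsonSubgroupOf_le 2 T).trans hTU)).2).symm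
  obtain ⟨P, hP⟩ := (IsPGroup.comap_subtype d.isPGroup : IsPGroup 2 (T.subgroupOf M)).exists_le_sylow
  have hTP : (T.subgroupOf M) = P := by
    refine eq_of_normalizer_inf_le P.isPGroup' hP ?_
    intro x hx
    have hxP : x ∈ (P : Subgroup M) := hx.2
    have hxN : (x : G) ∈ normalizer (T : Set G) := by
      refine mem_normalizer_iff.mpr fun y => ?_
      constructor
      · intro hy
        exact (mem_normalizer_iff.mp hx.1 ⟨y, d.le hy⟩).mp hy
      · intro hy
        have hyM : y ∈ M := by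
          have := M.mul_mem (M.mul_mem (M.inv_mem x.2) (d.le hy)) x.2
          simpa [mul_assoc] using this
        exact (mem_normalizer_iff.mp hx.1 ⟨y, hyM⟩).mpr hy
    set U := T ⊔ zpowers (x : G)
    have hUp : IsPGroup 2 U := by
      refine IsPGroup.to_sup_of_normal_left' d.isPGroup ?_ (zpowers_le.mpr hxN)
      refine (P.isPGroup'.map M.subtype).to_le (zpowers_le.mpr ⟨x, hxP, rfl⟩)
    have h := hkey U hUp le_sup_left (sup_le d.le (zpowers_le.mpr x.2))
      (sup_le hTN (zpowers_le.mpr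
        (CfsgLib.PLocal.normalizer_le_normalizer_thompsonSubgroupOf 2 T hxN)))
    exact h ▸ (mem_sup_right (mem_zpowers _) : (x : G) ∈ U)
  have hSM : (S : Subgroup G) ≤ M := (le_normalizer.trans
    (CfsgLib.PLocal.normalizer_le_normalizer_thompsonSubgroupOf 2 _)).trans d.nJ
  obtain ⟨m, hm⟩ := MulAction.exists_smul_eq M (S.subtype hSM) P
  have hT : (S : Subgroup G).map (MulAut.conj (m : G)).toMonoidHom = T := by
    have h1 : ((S.subtype hSM : Sylow 2 M) : Subgroup M).map (MulAut.conj m).toMonoidHom =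
        T.subgroupOf M := by
      rw [hTP, ← hm]; rfl
    have h2 := congrArg (Subgroup.map M.subtype) h1
    rw [map_map, map_subgroupOf_eq_of_le d.le] at h2
    rw [← h2, Sylow.coe_subtype]
    conv_lhs => rw [← map_subgroupOf_eq_of_le hSM]
    rw [map_map]
    rfl
  apply hN
  intro x hx
  have hm1 : (m : G)⁻¹ * x * m ∈ normalizer (Cfsg.thompsonSubgroupOf 2 (S : Subgroup G) : Set G) := by
    have hJ' : (Cfsg.thompsonSubgroupOf 2 (S : Subgroup G)).map (MulAut.conj (m : G)).toMonoidHom =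
        J := by
      rw [CfsgLib.PLocal.map_thompsonSubgroupOf (f := (MulAut.conj (m : G)).toMonoidHom)
        (MulAut.conj (m : G)).injective, hT]
    set JS := Cfsg.thompsonSubgroupOf 2 (S : Subgroup G)
    have hx' : J.map (MulAut.conj x).toMonoidHom = J := mem_normalizer_iff_map_conj_eq.mp hx
    rw [mem_normalizer_iff_map_conj_eq]
    show JS.map (MulAut.conj ((m : G)⁻¹ * x * m)).toMonoidHom = JS
    have e1 : (MulAut.conj ((m : G)⁻¹ * x * m)).toMonoidHom =
        (MulAut.conj (m : G)⁻¹).toMonoidHom.comp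
          ((MulAut.conj x).toMonoidHom.comp (MulAut.conj (m : G)).toMonoidHom) := by
      ext y; simp [mul_assoc]
    rw [e1, ← map_map, ← map_map, hJ', hx', ← hJ', map_map,
      show (MulAut.conj (m : G)⁻¹).toMonoidHom.comp (MulAut.conj (m : G)).toMonoidHom =
        MonoidHom.id G from MonoidHom.ext fun y => by simp [mul_assoc], map_id]
  have := M.mul_mem (M.mul_mem m.2 (d.nJ hm1)) (M.inv_mem m.2)
  simpa [mul_assoc] using this
where
  /-- In a finite `p`-group a subgroup equal to its normaliser is everything. -/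
  eq_of_normalizer_inf_le {X : Type _} [Group X] [Finite X] {p : ℕ} [Fact p.Prime] {A P : Subgroup X}
      (hP : IsPGroup p P) (hAP : A ≤ P) (h : normalizer (A : Set X) ⊓ P ≤ A) : A = P := by
    have := hP.isNilpotent
    by_contra hne
    have hlt : A.subgroupOf P < ⊤ := by
      refine lt_top_iff_ne_top.mpr fun e => hne (le_antisymm hAP ?_)
      exact Subgroup.subgroupOf_eq_top.mp e
    obtain ⟨x, hx, hxA⟩ :=
      SetLike.exists_of_lt (Group.normalizerCondition_of_isNilpotent (A.subgroupOf P) hlt)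
    apply hxA
    refine h ⟨?_, x.2⟩
    refine mem_normalizer_iff.mpr fun y => ⟨fun hy => ?_, fun hy => ?_⟩
    · exact (mem_normalizer_iff.mp hx ⟨y, hAP hy⟩).mp hy
    · have hyP : y ∈ P := by
        have := P.mul_mem (P.mul_mem (P.inv_mem x.2) (hAP hy)) x.2
        simpa [mul_assoc] using this
      exact (mem_normalizer_iff.mp hx ⟨y, hyP⟩).mpr hy

/-- A `2`-local subgroup outside `M` with a Sylow subgroup containing `J(T)`. -/
theorem sylow_spec (d : Straddle S M T) {L T₀ : Subgroup G} (hL2 : Cfsg.IsTwoLocal L) (hLM : ¬ L ≤ M)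
    (hT₀ : Cfsg.IsSylowTwoIn T₀ L) (hJ : Cfsg.thompsonSubgroupOf 2 T ≤ T₀) :
    Cfsg.thompsonSubgroupOf 2 T₀ = Cfsg.thompsonSubgroupOf 2 T ∧
      T₀ ∈ Cfsg.straddlingTwoSubgroups M ∧ L ∈ Cfsg.jOvergroups T₀ := by
  set J := Cfsg.thompsonSubgroupOf 2 T
  have hp : Fact (Nat.Prime 2) := ⟨Nat.prime_two⟩
  have hJM : J ≤ M := (CfsgLib.PLocal.thompsonSubgroupOf_le 2 T).trans d.le
  set U := T₀ ⊓ M
  have hU : U ∈ Cfsg.straddlingTwoSubgroups M :=
    ⟨hT₀.2.1.to_le inf_le_left, fun e => d.J_ne_bot (le_bot_iff.mp (e ▸ le_inf hJ hJM)),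
      inf_le_right, L, hL2, inf_le_left.trans hT₀.1, hLM⟩
  have hJU := (d.eq_of_straddling hU (le_inf hJ hJM)).1
  have hUT : U = T₀ := by
    refine normalizer_J_le.eq_of_normalizer_inf_le hT₀.2.1 inf_le_left fun x hx => ⟨hx.2, ?_⟩
    refine d.normalizer_J_le ?_
    show x ∈ normalizer (Cfsg.thompsonSubgroupOf 2 T : Set G)
    rw [← hJU]
    exact CfsgLib.PLocal.normalizer_le_normalizer_thompsonSubgroupOf 2 U hx.1
  rw [hUT] at hJU hU
  obtain ⟨R, hR, hR1, rfl⟩ := hL2
  refine ⟨hJU, hU, hT₀, fun hle => hLM ?_, centralizer_pCoreOf_le d.char2 hR hR1⟩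
  set L := normalizer (R : Set G)
  have hQT : Cfsg.pCoreOf 2 L ≤ T₀ := by
    obtain ⟨P, hP⟩ := (IsPGroup.comap_subtype hT₀.2.1 : IsPGroup 2 (T₀.subgroupOf L)).exists_le_sylow
    rintro _ ⟨x, hx, rfl⟩
    have hodd : Odd ((T₀.subgroupOf L).relIndex P) :=
      hT₀.2.2.of_dvd_nat (relIndex_dvd_index_of_le hP)
    obtain ⟨k, hk⟩ := IsPGroup.iff_card.mp P.isPGroup'
    have hdvd : (T₀.subgroupOf L).relIndex P ∣ 2 ^ k := by
      rw [← hk, ← CfsgLib.PLocal.card_mul_relIndex hP]; exact dvd_mul_left _ _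
    exact relIndex_eq_one.mp (Nat.eq_one_of_dvd_coprimes
      (Nat.Coprime.pow_right k (Nat.coprime_two_right.mpr hodd)) dvd_rfl hdvd)
      (CfsgLib.PLocal.pCore_le_sylow P hx)
  have h1 := CfsgLib.PLocal.thompsonSubgroupOf_eq_of_le (p := 2) hQT hle
  refine (le_normalizer_pCoreOf 2 L).trans ?_
  refine (CfsgLib.PLocal.normalizer_le_normalizer_thompsonSubgroupOf 2 _).trans ?_
  rw [h1, hJU]
  exact d.normalizer_J_le

/-- A Sylow subgroup of `L` containing a given `2`-subgroup. -/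
theorem _root_.CfsgLib.JComp.exists_sylowTwoIn {U L : Subgroup G} (hU : IsPGroup 2 U) (hUL : U ≤ L) :
    ∃ T₀, Cfsg.IsSylowTwoIn T₀ L ∧ U ≤ T₀ := by
  have hp : Fact (Nat.Prime 2) := ⟨Nat.prime_two⟩
  obtain ⟨P, hP⟩ := (IsPGroup.comap_subtype hU : IsPGroup 2 (U.subgroupOf L)).exists_le_sylow
  refine ⟨(P : Subgroup L).map L.subtype, ⟨map_subtype_le _, P.isPGroup'.map _, ?_⟩,
    fun x hx => ⟨⟨x, hUL hx⟩, hP hx, rfl⟩⟩
  rw [Subgroup.relIndex, subgroupOf, comap_map_eq_self_of_injective L.subtype_injective]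
  exact Nat.not_even_iff_odd.mp fun he => P.not_dvd_index (even_iff_two_dvd.mp he)

/-- If `T ≤ L` then `T` is a Sylow subgroup of `L` and `L` belongs to the family of `T`. -/
theorem of_le (d : Straddle S M T) {L : Subgroup G} (hL2 : Cfsg.IsTwoLocal L) (hLM : ¬ L ≤ M)
    (hTL : T ≤ L) : Ctx T L := by
  obtain ⟨T₀, hT₀, hTT₀⟩ := exists_sylowTwoIn d.isPGroup hTL
  have hJ : Cfsg.thompsonSubgroupOf 2 T ≤ T₀ :=
    (CfsgLib.PLocal.thompsonSubgroupOf_le 2 T).trans hTT₀
  obtain ⟨hJT, hstr, hmem⟩ := d.sylow_spec hL2 hLM hT₀ hJ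
  have e := Subgroup.eq_of_le_of_card_ge hTT₀ (d.eq_of_straddling hstr hJ).2
  subst e
  exact ctx_of_mem d.locSolv d.znorm hmem

/-- Frattini argument with `J(T)`. -/
theorem _root_.CfsgLib.JComp.Ctx.exists_mul_normalizer {L : Subgroup G} (h : Ctx T L)
    {H : Subgroup L} [H.Normal]
    (hJ : ∀ j : L, (j : G) ∈ Cfsg.thompsonSubgroupOf 2 T → j ∈ H) (g : L) :
    ∃ a ∈ H, ∃ n : L, (n : G) ∈ normalizer (Cfsg.thompsonSubgroupOf 2 T : Set G) ∧ g = a * n := by
  have hp : Fact (Nat.Prime 2) := ⟨Nat.prime_two⟩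
  obtain ⟨P, hP⟩ := h.exists_sylow
  set J := Cfsg.thompsonSubgroupOf 2 T
  obtain ⟨Q, hQ⟩ : ∃ Q : Sylow 2 H, (J.subgroupOf L).subgroupOf H ≤ Q :=
    (IsPGroup.comap_subtype (IsPGroup.comap_subtype
      (h.isPGroup.to_le (CfsgLib.PLocal.thompsonSubgroupOf_le 2 T)))).exists_le_sylow
  set Q' := ((Q : Subgroup H).map H.subtype).map L.subtype
  have hJQ : J ≤ Q' := fun x hx =>
    ⟨⟨x, h.J_le hx⟩, ⟨⟨_, hJ ⟨x, h.J_le hx⟩ hx⟩, hQ hx, rfl⟩, rfl⟩
  have hth := thompson_eq_of_le h.mem.1 (map_subtype_le _) ((Q.isPGroup'.map _).map _) hJQ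
  have hg : g ∈ normalizer (((Q : Subgroup H).map H.subtype : Subgroup L) : Set L) ⊔ H := by
    rw [Sylow.normalizer_sup_eq_top Q]; trivial
  rw [sup_comm, ← SetLike.mem_coe, normal_mul] at hg
  obtain ⟨a, ha, n, hn, e⟩ := hg
  refine ⟨a, ha, n, ?_, e.symm⟩
  show (n : G) ∈ normalizer (J : Set G)
  rw [show J = Cfsg.thompsonSubgroupOf 2 Q' from hth.symm]
  refine CfsgLib.PLocal.normalizer_le_normalizer_thompsonSubgroupOf 2 Q' ?_
  exact Subgroup.le_normalizer_map L.subtype ⟨n, hn, rfl⟩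

/-- Some component inside a member `L ⊄ M` lies outside `M`. -/
theorem exists_component (d : Straddle S M T) {L : Subgroup G} (h : Ctx T L) (hLM : ¬ L ≤ M) :
    ∃ K, Cfsg.IsJComponent T K ∧ K ≤ L ∧ ¬ K ≤ M := by
  by_contra hno
  push_neg at hno
  set J := Cfsg.thompsonSubgroupOf 2 T
  have hNJ := d.normalizer_J_le
  have hker : ∀ c : L, bar L c = 1 → (c : G) ∈ M := fun c hc =>
    hNJ (CfsgLib.PLocal.normalizer_le_normalizer_thompsonSubgroupOf 2 T
      (h.centralizer_le_normalizer ⟨c.2, bar_eq_one_iff.mp hc⟩))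
  set N : Subgroup (Gam L) := Subgroup.closure {t | IsTransvection (VOf L) t}
  have hNn : N.Normal := ⟨fun n hn g => by
    induction hn using Subgroup.closure_induction with
    | mem t ht =>
      refine subset_closure ⟨?_, by rw [card_modComm_conj, ht.2]⟩
      rw [show g * t * g⁻¹ * (g * t * g⁻¹) = g * (t * t) * g⁻¹ by group, ht.1]
      group
    | one => simp
    | mul u v _ _ iu iv => simpa using mul_mem iu iv
    | inv u _ iu => simpa [mul_assoc] using inv_mem iu⟩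
  have hH₀ : (N.comap (bar L)).Normal := hNn.comap _
  -- conjugates of movers lie in `M`
  have hmov : ∀ (g a : L), Mover T L a → ((g * a * g⁻¹ : L) : G) ∈ M := by
    intro g a ha
    obtain ⟨x, hx, n, hn, rfl⟩ := h.exists_mul_normalizer (H := N.comap (bar L))
      (fun j hj => h.bar_mem_closure_trans hj) g
    have hb : Mover T L (n * a * n⁻¹) := h.mover_conj ha hn
    set b := n * a * n⁻¹ with hbdef
    obtain ⟨B, -, hbB, htb⟩ := id hb
    obtain ⟨kb, hpb⟩ := h.exists_pair hb.two htb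
    have hKM : compK L kb ≤ M := hno _ (h.isJComponent_compK hb hpb).1 (h.compK_le kb)
    have hp' := hpb.conj h.setting x
    have hmem : bar L (x * kb * x⁻¹) ∈ zpowers (bar L kb) := by
      rw [map_mul, map_mul, map_inv]
      exact h.setting.conj_mem_zpowers (mem_comap.mp hx) hpb.block
    have hinv : bar L (x * b * x⁻¹) * bar L kb * bar L (x * b * x⁻¹) = (bar L kb)⁻¹ := by
      have h1 := hp'.bar_inv
      rcases eq_or_eq_inv_of_mem_zpowers hpb.block.order hmem hp'.block.ne_one with e | e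
      · rwa [e] at h1
      · rw [e, inv_inv] at h1
        have h4 := congrArg (fun u => u⁻¹) h1
        simp only [mul_inv_rev, inv_eq_of_mul_eq_one_right hp'.trans.1, inv_inv, ← mul_assoc] at h4
        exact h4
    obtain ⟨i, hi⟩ := mem_zpowers_iff.mp
      (hpb.block.mul_mem_zpowers h.setting hpb.trans hpb.bar_inv hp'.trans hinv)
    have hc : bar L ((b * kb ^ i)⁻¹ * (x * b * x⁻¹)) = 1 := by
      rw [map_mul, map_inv, map_mul, map_zpow, hi, ← mul_assoc, hpb.trans.1, one_mul, inv_mul_cancel]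
    have hMb : (b : G) ∈ M := d.le (CfsgLib.PLocal.thompsonSubgroupOf_le 2 T hb.mem_J)
    have hMk : ((kb ^ i : L) : G) ∈ M := by
      rw [SubgroupClass.coe_zpow]; exact zpow_mem (hKM (h.mem_compK hpb)) i
    have := M.mul_mem (M.mul_mem hMb hMk) (hker _ hc)
    have e : x * n * a * (x * n)⁻¹ = b * kb ^ i * ((b * kb ^ i)⁻¹ * (x * b * x⁻¹)) := by
      rw [mul_inv_cancel_left, hbdef]; group
    rw [e]
    exact this
  -- hence the normal closure of `J`
  set H₁ : Subgroup L := Subgroup.normalClosure ((J.subgroupOf L : Subgroup L) : Set L)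
  have hH₁ : H₁ ≤ M.subgroupOf L := by
    refine (Subgroup.closure_le _).mpr fun y hy => ?_
    rw [Group.mem_conjugatesOfSet_iff] at hy
    obtain ⟨j, hj, hconj⟩ := hy
    obtain ⟨g, rfl⟩ := isConj_iff.mp hconj
    have h1 := h.bar_mem_closure_movers (j := j) hj
    obtain ⟨m, hm, hme⟩ : bar L j ∈ (Subgroup.closure {a | Mover T L a}).map (bar L) := by
      rw [MonoidHom.map_closure]; exact h1
    have hmM : ((g * m * g⁻¹ : L) : G) ∈ M := by
      clear hme
      induction hm using Subgroup.closure_induction with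
      | mem a ha => exact hmov g a ha
      | one => simp
      | mul u v _ _ iu iv => simpa [mul_assoc] using M.mul_mem iu iv
      | inv u _ iu => simpa [mul_assoc] using M.inv_mem iu
    have hc : bar L (g * (m⁻¹ * j) * g⁻¹) = 1 := by
      rw [map_mul, map_mul, map_mul, map_inv, map_inv, hme, inv_mul_cancel, mul_one, mul_inv_cancel]
    have := M.mul_mem hmM (hker _ hc)
    show ((g * j * g⁻¹ : L) : G) ∈ M
    rw [show g * j * g⁻¹ = g * m * g⁻¹ * (g * (m⁻¹ * j) * g⁻¹) by group]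
    exact this
  apply hLM
  intro y hy
  obtain ⟨x, hx, n, hn, e⟩ := h.exists_mul_normalizer (H := H₁)
    (fun j hj => Subgroup.subset_normalClosure hj) ⟨y, hy⟩
  have h1 := M.mul_mem (hH₁ hx : (x : G) ∈ M) (hNJ hn)
  have h2 : y = (x : G) * (n : G) := congrArg Subtype.val e
  rw [h2]; exact h1

/-- A component outside `M` with the required properties. -/
theorem jComponentsOutside_nonempty (d : Straddle S M T) :
    (Cfsg.jComponentsOutside M T).Nonempty := by
  obtain ⟨-, -, -, L, hL2, hTL, hLM⟩ := d.max.1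
  have h := d.of_le hL2 hLM hTL
  obtain ⟨K, hK, hKL, hKM⟩ := d.exists_component h hLM
  obtain ⟨S₀, k, dd⟩ := exists_compData d.isPGroup hK
  refine ⟨K, ⟨hK, fun S' hJS' hS' => ?_⟩, hKM, ?_⟩
  · refine (d.sylow_spec ⟨Cfsg.wOf K, CfsgLib.PLocal.isPGroup_of_isElementaryAbelian dd.wOf_elem,
      dd.wOf_ne_bot, rfl⟩ (fun hle => hKM ((le_normalizer.trans
        (normalizer_le_normalizer_wOf K)).trans hle)) hS' hJS').1
  · intro e
    have hQ : Cfsg.pCoreOf 2 L ≤ Cfsg.pCoreOf 2 (K ⊔ T) :=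
      le_pCoreOf (h.pCoreOf_le_T.trans le_sup_right)
        ((sup_le hKL h.le).trans (le_normalizer_pCoreOf 2 L)) (isPGroup_pCoreOf 2 L)
    rw [e, le_bot_iff] at hQ
    apply h.mem.2.1
    intro x _
    rw [hQ]
    have h1 := h.self
    rw [hQ] at h1
    refine h1 (mem_centralizer_iff.mpr fun y hy => ?_)
    rw [show y = 1 from mem_bot.mp hy, one_mul, mul_one]

end Straddle

end CfsgLib.JComp
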