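import Cfsg.Agent.JComp.Graph
import Cfsg.Agent.S2947

/-!
Existence of pairs, and of pairs with non-commuting four-groups, also for Sylow subgroups.
-/

set_option autoImplicit false

namespace CfsgLib.JComp

open Subgroup
open scoped IsMulCommutative

variable {G : Type*} [Group G] [Finite G] {T K K₁ K₂ L L₁ L₂ : Subgroup G}

/-- A pair interchanged by `N(T)` has non-commuting four-groups. -/
theorem Pair.not_commute_of_conj {τ : G} (hτ : τ ∈ normalizer (T : Set G))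
    (p : Pair T K (K.map (MulAut.conj τ).toMonoidHom) L (L.map (MulAut.conj τ).toMonoidHom)) :
    ¬ Cfsg.wOf K ≤ centralizer (Cfsg.wOf (K.map (MulAut.conj τ).toMonoidHom) : Set G) := by
  intro hc
  set K' := K.map (MulAut.conj τ).toMonoidHom
  have q : Two T K K' L (L.map (MulAut.conj τ).toMonoidHom) := ⟨p, hc⟩
  have q' := q.map τ
  rw [show T.map (MulAut.conj τ).toMonoidHom = T from mem_normalizer_iff_map_conj_eq.mp hτ] at q'
  obtain ⟨w, hw, hw1⟩ := p.two.exists_w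
  have e : K'.map (MulAut.conj τ).toMonoidHom = K :=
    q.symm.neighbour_of_point (T' := T) (g := 1) (map_conj_one T).symm p.one.ctx.isPGroup
      q'.pair.two.comp hw hw1 (q'.symm.mem_cen hw).2
  by_cases h : Abel K K'
  · refine q.false_of_abel h ?_
    have h' := h.map τ
    rwa [e] at h'
  · refine q.false_of_nonabel h fun h' => h ?_
    have h'' := h'.map τ
    rwa [e] at h''

/-- A conjugate of a Sylow subgroup is a Sylow subgroup. -/
theorem exists_sylow_eq_map {p : ℕ} [Fact p.Prime] (S : Sylow p G) (g : G) :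
    ((g • S : Sylow p G) : Subgroup G) = (S : Subgroup G).map (MulAut.conj g).toMonoidHom := rfl

/-- `T < S` is impossible for a non-commuting pair if `L` is the only `2`-local overgroup of `S`. -/
theorem Pair.false_of_amalgam {S : Sylow 2 G} (m : Main (S : Subgroup G) K L)
    (p : Pair T K₁ K₂ L₁ L₂) (hTS : T ≤ (S : Subgroup G)) (hne : T ≠ (S : Subgroup G))
    (hnc : ¬ Cfsg.wOf K₁ ≤ centralizer (Cfsg.wOf K₂ : Set G)) : False := by
  have h2 : Fact (Nat.Prime 2) := ⟨Nat.prime_two⟩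
  obtain ⟨a, ha, b, hb, hac, hbc, -, -⟩ := p.exists_elems hnc
  suffices key : ∀ {K₁ K₂ L₁ L₂ : Subgroup G}, Pair T K₁ K₂ L₁ L₂ → ∀ {a b : G}, a ∈ Cfsg.wOf K₁ →
      b ∈ Cfsg.wOf K₂ → a ∉ cw T K₂ → b ∉ cw T K₁ → T ⊓ VOf L ≤ cw T K₁ → False by
    rcases p.elementary_le ha hb hac hbc
      (CfsgLib.PLocal.isElementaryAbelian_of_le (isElementaryAbelian_omegaCenterOf _) inf_le_right)
      (inf_le_left : T ⊓ VOf L ≤ T) with h | h
    · exact key p ha hb hac hbc h
    · exact key p.symm hb ha hbc hac h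
  intro K₁ K₂ L₁ L₂ p a b ha hb hac hbc hV1
  have hS := m.ctx
  have he := p.isElementaryAbelian_cw ha hb hac hbc
  obtain ⟨-, -, hN⟩ := p.L_eq ha hb hac hbc
  set C := cw T K₁ with hC
  have hSL₁ : (S : Subgroup G) ⊓ L₁ = T := eq_of_sylowTwoIn_le p.one.ctx.mem.1
    (le_inf hTS p.one.ctx.le) inf_le_right (S.isPGroup'.to_le inf_le_left)
  have hCS : C ≤ (S : Subgroup G) := inf_le_left.trans hTS
  have hVS : VOf L ≤ (S : Subgroup G) := hS.VOf_le_T
  have hVC : VOf L ≤ C := by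
    have hX : C ⊔ VOf L = C := by
      refine (Straddle.normalizer_J_le.eq_of_normalizer_inf_le (S.isPGroup'.to_le (sup_le hCS hVS))
        le_sup_left fun x hx => ?_).symm
      have hxT : x ∈ T := hSL₁ ▸ ⟨sup_le hCS hVS hx.2, hN hx.1⟩
      have hx2 : x ∈ C ⊔ VOf L := hx.2
      rw [← SetLike.mem_coe, coe_mul_of_left_le_normalizer_right C (VOf L)
        (hCS.trans (hS.le.trans (le_normalizer_VOf L)))] at hx2
      obtain ⟨e, he', v, hv, hev⟩ := hx2
      replace hev : e * v = x := hev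
      have hvT : v ∈ T := by
        have h := T.mul_mem (T.inv_mem (inf_le_left (a := T) he')) hxT
        rwa [← hev, inv_mul_cancel_left] at h
      rw [← hev]
      exact C.mul_mem he' (hV1 ⟨hvT, hv⟩)
    exact hX ▸ le_sup_right
  have hCQ : C ≤ Cfsg.pCoreOf 2 L := fun x hx => hS.centralizer_inf_le
    ⟨⟨hS.le (hCS hx), centralizer_le hVC (le_centralizer_iff_isMulCommutative.mpr he.1 hx)⟩, hCS hx⟩
  obtain ⟨y, hyQ, hyT, hyC⟩ : ∃ y ∈ Cfsg.pCoreOf 2 L, y ∈ T ∧ y ∉ C := by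
    by_contra hno
    push Not at hno
    have hQC : Cfsg.pCoreOf 2 L = C := (Straddle.normalizer_J_le.eq_of_normalizer_inf_le
      (isPGroup_pCoreOf 2 L) hCQ fun x hx =>
        hno x hx.2 (hSL₁ ▸ ⟨hS.pCoreOf_le_T hx.2, hN hx.1⟩)).symm
    apply hne
    rw [← hSL₁, inf_eq_left.mpr]
    exact hS.le.trans ((le_normalizer_pCoreOf 2 L).trans (hQC ▸ hN))
  have hVZ : VOf L ≤ jZ T := by
    intro v hv
    rw [← p.facts.2.2.2]
    refine CfsgLib.PLocal.mem_omegaOne ⟨inf_le_left (a := T) (hVC hv), ?_⟩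
      ((isElementaryAbelian_omegaCenterOf _).2 v hv)
    have hvy : y * v = v * y :=
      (mem_centralizer_iff.mp (omegaCenterOf_le_centralizer _ hv) y hyQ)
    refine mem_centralizer_iff.mpr fun t ht => ?_
    have hCc : ∀ x ∈ C, x * v = v * x := fun x hx =>
      (le_centralizer_iff_isMulCommutative.mpr he.1 (hVC hv) x hx)
    by_cases htC : t ∈ C
    · exact hCc t htC
    · have h := hCc _ (p.one.inv_mul_mem_cw p.T_le_normalizer hyT ht hyC htC)
      calc t * v = y * (y⁻¹ * t * v) := by group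
        _ = y * (v * (y⁻¹ * t)) := by rw [h]
        _ = v * t := by rw [← mul_assoc, hvy]; group
  set W := Cfsg.wOf K with hW
  have hW4 : Nat.card W = 4 := m.comp.2.2.2.2.1
  have hWeq : W = jZ T := Subgroup.eq_of_le_of_card_ge (m.wOf_le_VOf.trans hVZ) (by
    rw [hW4]; exact p.facts.2.2.1)
  obtain ⟨d, hd, hd1⟩ : ∃ d ∈ cen T K₁, d ≠ 1 := by
    by_contra hno
    push Not at hno
    have h := card_jZ p.one.ctx.isPGroup p.one.comp
    rw [(Subgroup.eq_bot_iff_forall _).mpr hno, Subgroup.card_bot, ← hWeq, hW4] at h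
    omega
  obtain ⟨z, hz, hz1⟩ : ∃ z ∈ Cfsg.omegaCenterOf (S : Subgroup G), z ≠ 1 := by
    by_contra hno
    push Not at hno
    refine omegaCenterOf_ne_bot S.isPGroup' (fun e => hne ?_) ((Subgroup.eq_bot_iff_forall _).mpr hno)
    rw [e] at hTS ⊢
    exact le_bot_iff.mp hTS
  have hZW : Cfsg.omegaCenterOf (S : Subgroup G) ≤
      jZ (S : Subgroup G) ⊓ W := by
    refine le_inf (omegaCenterOf_le_jZ _) fun x hx => ?_
    rw [hWeq, ← p.facts.2.2.2]
    exact CfsgLib.PLocal.mem_omegaOne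
      ⟨p.one.omega_S_le_T hTS hx, centralizer_le hTS (omegaCenterOf_le_centralizer _ hx)⟩
      ((isElementaryAbelian_omegaCenterOf _).2 x hx)
  obtain ⟨S₀, k, dd⟩ := exists_compData m.ctx.isPGroup m.comp
  obtain ⟨i, hi⟩ := m.exists_conj_eq dd.memk dd.pow_three dd.fpf (hZW hz).2 hz1
    (show d ∈ W from hWeq ▸ hd.1) hd1
  refine not_le_centralizer p.one.ctx.isPGroup p.one.comp p.one.ctx.znorm ((k ^ i) • S) fun g hg => ?_
  rw [exists_sylow_eq_map, ← map_omegaCenterOf (f := (MulAut.conj (k ^ i)).toMonoidHom)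
    (MulAut.conj (k ^ i)).injective]
  refine mem_centralizer_iff.mpr ?_
  rintro _ ⟨x, hx, rfl⟩
  rcases eq_one_or_eq_of_card_two (card_jZ_inf_wOf m.ctx.isPGroup m.comp) (hZW hz) hz1 (hZW hx) with
    rfl | rfl
  · simp
  · show k ^ i * x * (k ^ i)⁻¹ * g = g * (k ^ i * x * (k ^ i)⁻¹)
    rw [← hi]
    exact (mem_centralizer_iff.mp hd.2 g hg).symm

/-- Conjugacy of two involutions with product of odd order, and a commuting involution otherwise. -/
theorem involution_dichotomy {x y : G} (hx : x * x = 1) (hy : y * y = 1) :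
    (∃ g : G, y = g * x * g⁻¹) ∨ ∃ e : G, e ≠ 1 ∧ e * e = 1 ∧ Commute e x ∧ Commute e y := by
  set r := x * y with hr
  have hxi : x⁻¹ = x := inv_eq_of_mul_eq_one_right hx
  have hyi : y⁻¹ = y := inv_eq_of_mul_eq_one_right hy
  have hinv : x * r * x⁻¹ = r⁻¹ := by
    rw [hr, hxi, mul_inv_rev, hxi, hyi]
    calc x * (x * y) * x = (x * x) * y * x := by group
      _ = y * x := by rw [hx, one_mul]
  rcases Nat.even_or_odd (orderOf r) with ⟨n, hn⟩ | ⟨n, hn⟩
  · right
    have hpos := orderOf_pos r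
    refine ⟨r ^ n, pow_ne_one_of_lt_orderOf (by omega) (by omega), by
      rw [← pow_add, ← hn, pow_orderOf_eq_one], ?_⟩
    have he : (r ^ n)⁻¹ = r ^ n :=
      inv_eq_of_mul_eq_one_right (by rw [← pow_add, ← hn, pow_orderOf_eq_one])
    have h1 : x * r ^ n * x⁻¹ = r ^ n := by rw [← conj_pow, hinv, inv_pow, he]
    have hc : Commute (r ^ n) x := (mul_inv_eq_iff_eq_mul.mp h1).symm
    refine ⟨hc, ?_⟩
    have : y = x * r := by rw [hr, ← mul_assoc, hx, one_mul]
    rw [this]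
    exact hc.mul_right (Commute.pow_self r n)
  · left
    refine ⟨x * (r ^ n)⁻¹, ?_⟩
    have h1 : x * r ^ n * x⁻¹ = (r ^ n)⁻¹ := by rw [← conj_pow, hinv, inv_pow]
    have h3 : r ^ n * r ^ n = r⁻¹ := by
      rw [eq_comm]
      apply inv_eq_of_mul_eq_one_right
      rw [← pow_add, ← pow_succ', show n + n + 1 = orderOf r by omega, pow_orderOf_eq_one]
    calc y = x * (x * y * x) * x := by
          rw [show x * (x * y * x) * x = (x * x) * y * (x * x) by group, hx, one_mul, mul_one]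
      _ = x * (x * r⁻¹) * x⁻¹ := by rw [hxi, hr, mul_inv_rev, hxi, hyi, mul_assoc x y x]
      _ = x * (x * (r ^ n * r ^ n)) * x⁻¹ := by rw [h3]
      _ = x * ((x * r ^ n * x⁻¹) * x * r ^ n) * x⁻¹ := by group
      _ = x * ((r ^ n)⁻¹ * x * r ^ n) * x⁻¹ := by rw [h1]
      _ = _ := by group

/-- The maximal `2`-local subgroup of a Sylow subgroup is not strongly embedded. -/
theorem straddling_ne_empty (hc : Cfsg.IsCharacteristicTwoType G)
    (hN : ∀ N : Subgroup G, Cfsg.IsTwoLocal N → Group.IsSolvable ↥N)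
    (hZ : ∀ S : Sylow 2 G, centralizer (Cfsg.omegaCenterOf (S : Subgroup G) : Set G) ≤
      normalizer ((S : Subgroup G) : Set G)) (hO : Cfsg.pCore 2 G = ⊥) {S : Sylow 2 G}
    (m : Main (S : Subgroup G) K L)
    (hJ : normalizer (Cfsg.thompsonSubgroupOf 2 (S : Subgroup G) : Set G) ≤ L) :
    (Cfsg.straddlingTwoSubgroups L).Nonempty := by
  have h2 : Fact (Nat.Prime 2) := ⟨Nat.prime_two⟩
  rw [Set.nonempty_iff_ne_empty]
  intro hempty
  have hse := (Cfsg.Agent.S2947.result hc hN hZ hO S L m.above.max.1 hJ).mpr hempty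
  have hC : ∀ {x : G}, x ∈ L → x ≠ 1 → x * x = 1 → centralizer ({x} : Set G) ≤ L := by
    intro x hxL hx1 hx2
    have hp : IsPGroup 2 (zpowers x) := CfsgLib.PLocal.isPGroup_of_isElementaryAbelian
      (CfsgLib.PLocal.isElementaryAbelian_zpowers (by rw [pow_two]; exact hx2))
    have hne : zpowers x ≠ ⊥ := fun e => hx1 (zpowers_eq_bot.mp e)
    have hle : normalizer (zpowers x : Set G) ≤ L := by
      by_contra hn
      exact Set.eq_empty_iff_forall_notMem.mp hempty (zpowers x)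
        ⟨hp, hne, zpowers_le.mpr hxL, _, ⟨_, hp, hne, rfl⟩, le_normalizer, hn⟩
    refine le_trans (fun g hg => ?_) hle
    rw [mem_normalizer_iff_map_conj_eq, MonoidHom.map_zpowers]
    congr 1
    show g * x * g⁻¹ = x
    rw [mem_centralizer_singleton_iff.mp hg, mul_inv_cancel_right]
  have hQL : Cfsg.pCoreOf 2 L ≤ L := pCoreOf_le 2 L
  obtain ⟨z, hz, hz1⟩ : ∃ z ∈ Cfsg.omegaCenterOf (S : Subgroup G), z ≠ 1 := by
    by_contra hno
    push Not at hno
    refine omegaCenterOf_ne_bot S.isPGroup' (fun e => m.ctx.mem.2.1 ?_)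
      ((Subgroup.eq_bot_iff_forall _).mpr hno)
    exact (CfsgLib.PLocal.thompsonSubgroupOf_le 2 (S : Subgroup G)).trans (e ▸ bot_le)
  have hzQ : z ∈ centralizer (Cfsg.pCoreOf 2 L : Set G) :=
    centralizer_le m.ctx.pCoreOf_le_T (omegaCenterOf_le_centralizer _ hz)
  have hz2 : z * z = 1 := by simpa [pow_two] using (isElementaryAbelian_omegaCenterOf _).2 z hz
  have hzV : z ∈ VOf L := CfsgLib.PLocal.mem_omegaOne ⟨m.ctx.self hzQ, hzQ⟩ (by rw [pow_two, hz2])
  have hzL : z ∈ L := hQL (m.ctx.self hzQ)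
  -- a conjugate of `z` outside `L`
  obtain ⟨g₀, hg₀⟩ : ∃ g₀ : G, g₀ * z * g₀⁻¹ ∉ L := by
    by_contra hno
    push Not at hno
    set N := Subgroup.normalClosure ({z} : Set G)
    have hNL : N ≤ L := (Subgroup.closure_le _).mpr fun y hy => by
      rw [Group.mem_conjugatesOfSet_iff] at hy
      obtain ⟨a, ha, hconj⟩ := hy
      obtain ⟨g, rfl⟩ := isConj_iff.mp hconj
      rw [show a = z from ha]
      exact hno g
    have hle : Cfsg.pCoreOf 2 L ⊓ N ≤ Cfsg.pCore 2 G :=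
      CfsgLib.PLocal.le_pCore_of_le_isSubnormal (Subgroup.Normal.isSubnormal
        (inferInstance : N.Normal)) _ inf_le_right
        (fun g hg => inf_normalizer_le_normalizer_inf
          ⟨le_normalizer_pCoreOf 2 L (hNL hg), le_normalizer hg⟩)
        ((isPGroup_pCoreOf 2 L).to_le inf_le_left)
    rw [hO, le_bot_iff] at hle
    exact hz1 (mem_bot.mp (hle ▸ mem_inf.mpr
      ⟨m.ctx.self hzQ, Subgroup.subset_normalClosure (Set.mem_singleton z)⟩))
  set y := g₀ * z * g₀⁻¹ with hy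
  have hy2 : y * y = 1 := by
    calc y * y = g₀ * (z * z) * g₀⁻¹ := by rw [hy]; group
      _ = 1 := by rw [hz2]; group
  -- all involutions of `L` lie in `V`
  have hall : ∀ x ∈ L, x * x = 1 → x ∈ VOf L := by
    intro x hxL hx2
    by_cases hx1 : x = 1
    · rw [hx1]; exact one_mem _
    rcases involution_dichotomy hx2 hy2 with ⟨g, hg⟩ | ⟨e, he1, he2, hex, hey⟩
    · set h := g⁻¹ * g₀ with hh
      have hxz : x = h * z * h⁻¹ := by
        calc x = g⁻¹ * (g * x * g⁻¹) * g := by group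
          _ = g⁻¹ * (g₀ * z * g₀⁻¹) * g := by rw [← hg, hy]
          _ = _ := by rw [hh]; group
      have hhL : h ∈ L := by
        by_contra hn
        have hodd := hse.2.2 h hn
        have hxin : x ∈ L ⊓ L.map (MulAut.conj h).toMonoidHom := ⟨hxL, z, hzL, hxz.symm⟩
        have hx' : orderOf x = 2 := orderOf_eq_prime (by rw [pow_two, hx2]) hx1
        have hd := Subgroup.card_dvd_of_le (zpowers_le.mpr hxin)
        rw [Nat.card_zpowers, hx'] at hd
        exact Nat.not_even_iff_odd.mpr hodd (even_iff_two_dvd.mpr hd)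
      rw [hxz]
      exact (mem_normalizer_iff.mp (le_normalizer_VOf L hhL) z).mp hzV
    · exfalso
      have heL : e ∈ L := hC hxL hx1 hx2 (mem_centralizer_singleton_iff.mpr hex.eq)
      exact hg₀ (hC heL he1 he2 (mem_centralizer_singleton_iff.mpr hey.symm.eq))
  apply m.ctx.mem.2.1
  rw [CfsgLib.PLocal.thompsonSubgroupOf_eq]
  refine sSup_le fun A hA a ha => VOf_le L (hall a (m.ctx.le (hA.1 ha)) ?_)
  simpa [pow_two] using hA.2.1.2 a ha

/-- A Sylow subgroup is maximal among the straddling subgroups as soon as it is one. -/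
theorem sylow_mem_max {S : Sylow 2 G} (hSmem : (S : Subgroup G) ∈ Cfsg.straddlingTwoSubgroups L) :
    (S : Subgroup G) ∈ Cfsg.maxStraddlingTwoSubgroups L := by
  have h2 : Fact (Nat.Prime 2) := ⟨Nat.prime_two⟩
  refine ⟨hSmem, fun U hU => ?_⟩
  obtain ⟨S', hS'⟩ := hU.1.exists_le_sylow
  obtain ⟨g, rfl⟩ := MulAction.exists_smul_eq G S S'
  obtain ⟨A, hA⟩ := CfsgLib.PLocal.maxEAIn_nonempty 2 U
  obtain ⟨B, hB⟩ := CfsgLib.PLocal.maxEAIn_nonempty 2 (S : Subgroup G)
  obtain ⟨hB', hBc⟩ := exists_member_card_map (MulAut.conj g) (S : Subgroup G) B hB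
  rw [maxElemAbelianOrder_eq hA, maxElemAbelianOrder_eq hB, ← hBc]
  have hU' : U ≤ (S : Subgroup G).map (MulAut.conj g).toMonoidHom := hS'
  have hle := hB'.2.2 A (hA.1.trans hU') hA.2.1
  refine ⟨hle, fun heq => ⟨?_, fun _ => ?_⟩⟩
  · rw [← card_map_of_injective (K := Cfsg.thompsonSubgroupOf 2 (S : Subgroup G))
      (f := (MulAut.conj g).toMonoidHom) (MulAut.conj g).injective, map_thompson]
    refine Subgroup.card_le_of_le ?_
    rw [CfsgLib.PLocal.thompsonSubgroupOf_eq 2 U]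
    refine sSup_le fun C hC => CfsgLib.PLocal.le_thompsonSubgroupOf
      ⟨hC.1.trans hU', hC.2.1, fun D hD hDe => ?_⟩
    exact ((hB'.2.2 D hD hDe).trans heq.ge).trans (hC.2.2 A hA.1 hA.2.1)
  · rw [← card_map_of_injective (K := (S : Subgroup G))
      (f := (MulAut.conj g).toMonoidHom) (MulAut.conj g).injective]
    exact Subgroup.card_le_of_le hU'

theorem exists_max_straddling (h : (Cfsg.straddlingTwoSubgroups L).Nonempty) :
    (Cfsg.maxStraddlingTwoSubgroups L).Nonempty := by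
  set s := Cfsg.straddlingTwoSubgroups L
  obtain ⟨T₁, hT₁, h₁⟩ := Set.exists_max_image s Cfsg.maxElemAbelianOrder (Set.toFinite s) h
  set s₂ := {U | U ∈ s ∧ Cfsg.maxElemAbelianOrder U = Cfsg.maxElemAbelianOrder T₁}
  obtain ⟨T₂, hT₂, h₂⟩ := Set.exists_max_image s₂
    (fun U => Nat.card ↥(Cfsg.thompsonSubgroupOf 2 U)) (Set.toFinite s₂) ⟨T₁, hT₁, rfl⟩
  set s₃ := {U | U ∈ s₂ ∧
    Nat.card ↥(Cfsg.thompsonSubgroupOf 2 U) = Nat.card ↥(Cfsg.thompsonSubgroupOf 2 T₂)}
  obtain ⟨T₃, hT₃, h₃⟩ :=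
    Set.exists_max_image s₃ (fun U => Nat.card ↥U) (Set.toFinite s₃) ⟨T₂, hT₂, rfl⟩
  refine ⟨T₃, hT₃.1.1, fun U hU => ?_⟩
  refine ⟨(h₁ U hU).trans hT₃.1.2.ge, fun e => ⟨(h₂ U ⟨hU, e.trans hT₃.1.2⟩).trans hT₃.2.ge,
    fun e' => h₃ U ⟨⟨hU, e.trans hT₃.1.2⟩, e'.trans hT₃.2⟩⟩⟩

/-- If `N(J(S)) ≤ L` then `S` is straddling for `L`. -/
theorem Main.straddle_top (hc : Cfsg.IsCharacteristicTwoType G)
    (hN : ∀ N : Subgroup G, Cfsg.IsTwoLocal N → Group.IsSolvable ↥N)
    (hZ : ∀ S : Sylow 2 G, centralizer (Cfsg.omegaCenterOf (S : Subgroup G) : Set G) ≤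
      normalizer ((S : Subgroup G) : Set G)) (hO : Cfsg.pCore 2 G = ⊥) {S : Sylow 2 G}
    (m : Main (S : Subgroup G) K L)
    (hJ : normalizer (Cfsg.thompsonSubgroupOf 2 (S : Subgroup G) : Set G) ≤ L) :
    Straddle S L (S : Subgroup G) := by
  refine ⟨hc, hN, hZ, hJ, sylow_mem_max ?_⟩
  by_contra hS
  have h2 : Fact (Nat.Prime 2) := ⟨Nat.prime_two⟩
  obtain ⟨T₁, hT₁⟩ := exists_max_straddling (straddling_ne_empty hc hN hZ hO m hJ)
  obtain ⟨S', d₁, hTS'⟩ := (⟨hc, hN, hZ, hJ, hT₁⟩ : Straddle S L T₁).exists_le_sylow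
  have hS'L : (S' : Subgroup G) ≤ L := (le_normalizer.trans
    (CfsgLib.PLocal.normalizer_le_normalizer_thompsonSubgroupOf 2 _)).trans d₁.nJ
  have hSyl' : Cfsg.IsSylowTwoIn (S' : Subgroup G) L :=
    ⟨hS'L, S'.isPGroup', (Nat.not_even_iff_odd.mp fun he => S'.not_dvd_index
      ((even_iff_two_dvd.mp he).trans (relIndex_dvd_index_of_le hS'L)))⟩
  obtain ⟨l, hl, hlS⟩ := exists_conj_of_isSylowTwoIn m.ctx.mem.1 hSyl'
  have hLl : L.map (MulAut.conj l).toMonoidHom = L := mem_normalizer_iff_map_conj_eq.mp (le_normalizer hl)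
  have m' : Main (S' : Subgroup G) (K.map (MulAut.conj l).toMonoidHom) L := by
    have := m.map l
    rwa [hlS, hLl] at this
  have hne : T₁ ≠ (S' : Subgroup G) := by
    intro e
    obtain ⟨-, -, -, Y, ⟨R, hR, hR1, rfl⟩, hS'Y, hYL⟩ := e ▸ hT₁.1
    apply hS
    refine ⟨S.isPGroup', fun e' => m.ctx.mem.2.1 ?_, m.ctx.le,
      (normalizer (R : Set G)).map (MulAut.conj l⁻¹).toMonoidHom, ⟨R.map (MulAut.conj l⁻¹).toMonoidHom,
        hR.map _, (map_eq_bot_iff_of_injective _ (f := (MulAut.conj l⁻¹).toMonoidHom)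
          (MulAut.conj l⁻¹).injective).not.mpr hR1, map_equiv_normalizer_eq R (MulAut.conj l⁻¹)⟩,
      ?_, fun hle => hYL ?_⟩
    · exact (CfsgLib.PLocal.thompsonSubgroupOf_le 2 (S : Subgroup G)).trans (e' ▸ bot_le)
    · calc (S : Subgroup G) = (S' : Subgroup G).map (MulAut.conj l⁻¹).toMonoidHom := by
            rw [← hlS, ← map_conj_mul, inv_mul_cancel, map_conj_one]
        _ ≤ _ := map_mono hS'Y
    · calc normalizer (R : Set G) = ((normalizer (R : Set G)).map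
            (MulAut.conj l⁻¹).toMonoidHom).map (MulAut.conj l).toMonoidHom := by
            rw [← map_conj_mul, mul_inv_cancel, map_conj_one]
        _ ≤ L.map (MulAut.conj l).toMonoidHom := map_mono hle
        _ = L := hLl
  obtain ⟨K₁, hK₁⟩ := d₁.jComponentsOutside_nonempty
  obtain ⟨L₁, m₁⟩ := d₁.exists_main ⟨hK₁.1.1, hK₁.2.1⟩ hK₁.2.2
  obtain ⟨τ, -, hτ, -, p⟩ := m₁.exists_pair_of_lt hTS' hne
  exact p.false_of_amalgam m' hTS' hne (p.not_commute_of_conj hτ)

/-- If `N(J(S)) ≰ L` the component has a conjugate under `N(S)` with another largest overgroup. -/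
theorem Main.exists_conj_pair {S : Sylow 2 G} (m : Main (S : Subgroup G) K L)
    (hJ : ¬ normalizer (Cfsg.thompsonSubgroupOf 2 (S : Subgroup G) : Set G) ≤ L) :
    ∃ τ : G, τ ∈ normalizer ((S : Subgroup G) : Set G) ∧
      Pair (S : Subgroup G) K (K.map (MulAut.conj τ).toMonoidHom) L
        (L.map (MulAut.conj τ).toMonoidHom) := by
  have h2 : Fact (Nat.Prime 2) := ⟨Nat.prime_two⟩
  obtain ⟨τ, hτ, hτL⟩ := SetLike.not_le_iff_exists.mp hJ
  obtain ⟨-, -, -, hΩ⟩ :=
    m.of_other (le_refl (S : Subgroup G)) (isJComponent_conj m.comp hτ) (m.above.not_le_conj hτ hτL)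
  have hτS : τ ∈ normalizer ((S : Subgroup G) : Set G) := by
    rw [mem_normalizer_iff_map_conj_eq]
    show (S : Subgroup G).map (MulAut.conj τ).toMonoidHom = _
    have hle : (S : Subgroup G).map (MulAut.conj τ).toMonoidHom ≤
        normalizer ((S : Subgroup G) : Set G) := by
      refine le_trans ?_ (m.ctx.znorm S)
      rintro _ ⟨s, hs, rfl⟩
      refine mem_centralizer_iff.mpr fun u hu => ?_
      have hu' : τ⁻¹ * u * τ ∈ jZ (S : Subgroup G) := by
        simpa using (mem_normalizer_iff.mp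
          (normalizer_le_normalizer_omegaCenterOf _ (inv_mem hτ)) u).mp (omegaCenterOf_le_jZ _ hu)
      have h := mem_centralizer_iff.mp (omegaCenterOf_le_centralizer _ (hΩ.ge hu')) s hs
      show u * (τ * s * τ⁻¹) = τ * s * τ⁻¹ * u
      calc u * (τ * s * τ⁻¹) = τ * ((τ⁻¹ * u * τ) * s) * τ⁻¹ := by group
        _ = τ * (s * (τ⁻¹ * u * τ)) * τ⁻¹ := by rw [h]
        _ = _ := by group
    have h1 := S.is_maximal' (IsPGroup.to_sup_of_normal_left' S.isPGroup' (S.isPGroup'.map _) hle)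
      le_sup_left
    have h3 : (S : Subgroup G).map (MulAut.conj τ).toMonoidHom ≤ (S : Subgroup G) :=
      le_trans le_sup_right h1.le
    exact Subgroup.eq_of_le_of_card_ge h3 (card_map_of_injective (K := (S : Subgroup G))
      (f := (MulAut.conj τ).toMonoidHom) (MulAut.conj τ).injective).ge
  refine ⟨τ, hτS, m, m.conj hτS, fun e => hτL (m.above.normalizer_le ?_)⟩
  exact mem_normalizer_iff_map_conj_eq.mpr e.symm

/-- A second component for a Sylow subgroup. -/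
theorem Main.exists_pair_top (hc : Cfsg.IsCharacteristicTwoType G)
    (hN : ∀ N : Subgroup G, Cfsg.IsTwoLocal N → Group.IsSolvable ↥N)
    (hZ : ∀ S : Sylow 2 G, centralizer (Cfsg.omegaCenterOf (S : Subgroup G) : Set G) ≤
      normalizer ((S : Subgroup G) : Set G)) (hO : Cfsg.pCore 2 G = ⊥) {S : Sylow 2 G}
    (m : Main (S : Subgroup G) K L) :
    ∃ K' L', Pair (S : Subgroup G) K K' L L' := by
  by_cases hJ : normalizer (Cfsg.thompsonSubgroupOf 2 (S : Subgroup G) : Set G) ≤ L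
  · have d := m.straddle_top hc hN hZ hO hJ
    obtain ⟨K', hK'⟩ := d.jComponentsOutside_nonempty
    obtain ⟨L', m'⟩ := d.exists_main ⟨hK'.1.1, hK'.2.1⟩ hK'.2.2
    exact ⟨K', L', m, m', fun e => hK'.2.1 (e ▸ m'.K_le)⟩
  · obtain ⟨τ, -, p⟩ := m.exists_conj_pair hJ
    exact ⟨_, _, p⟩

/-- A pair with non-commuting four-groups for a Sylow subgroup. -/
theorem Main.exists_b_one_top (hc : Cfsg.IsCharacteristicTwoType G)
    (hN : ∀ N : Subgroup G, Cfsg.IsTwoLocal N → Group.IsSolvable ↥N)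
    (hZ : ∀ S : Sylow 2 G, centralizer (Cfsg.omegaCenterOf (S : Subgroup G) : Set G) ≤
      normalizer ((S : Subgroup G) : Set G)) (hO : Cfsg.pCore 2 G = ⊥) {S : Sylow 2 G}
    (m : Main (S : Subgroup G) K L) :
    ∃ K₁ K₂ L₁ L₂, Pair (S : Subgroup G) K₁ K₂ L₁ L₂ ∧
      ¬ Cfsg.wOf K₁ ≤ centralizer (Cfsg.wOf K₂ : Set G) := by
  have h2 : Fact (Nat.Prime 2) := ⟨Nat.prime_two⟩
  by_cases hJ : normalizer (Cfsg.thompsonSubgroupOf 2 (S : Subgroup G) : Set G) ≤ L
  swap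
  · obtain ⟨τ, hτ, p⟩ := m.exists_conj_pair hJ
    exact ⟨_, _, _, _, p, p.not_commute_of_conj hτ⟩
  obtain ⟨K', L', p⟩ := m.exists_pair_top hc hN hZ hO
  by_cases hnc : Cfsg.wOf K ≤ centralizer (Cfsg.wOf K' : Set G)
  swap
  · exact ⟨_, _, _, _, p, hnc⟩
  by_cases hJ' : normalizer (Cfsg.thompsonSubgroupOf 2 (S : Subgroup G) : Set G) ≤ L'
  swap
  · obtain ⟨τ, hτ, p'⟩ := p.two.exists_conj_pair hJ'
    exact ⟨_, _, _, _, p', p'.not_commute_of_conj hτ⟩
  have q : Two (S : Subgroup G) K K' L L' := ⟨p, hnc⟩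
  -- the mixed case
  have key : ∀ {A B LA LB : Subgroup G}, Two (S : Subgroup G) A B LA LB →
      normalizer (Cfsg.thompsonSubgroupOf 2 (S : Subgroup G) : Set G) ≤ LA → ¬ Abel A B → Abel B A →
      ∃ K₁ K₂ L₁ L₂, Pair (S : Subgroup G) K₁ K₂ L₁ L₂ ∧
        ¬ Cfsg.wOf K₁ ≤ centralizer (Cfsg.wOf K₂ : Set G) := by
    intro A B LA LB q hJA h₁ h₂
    obtain ⟨w₁, hw₁, hw₁1⟩ := q.pair.one.exists_w
    obtain ⟨w₂, hw₂, hw₂1⟩ := q.pair.two.exists_w
    have hCz := q.centralizer_not_le h₁ h₂ hw₁ hw₁1 hw₂ hw₂1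
    set z := w₁ * w₂ with hz
    have hzZ : z ∈ jZ (S : Subgroup G) := mul_mem hw₁.1 hw₂.1
    have hz2 : z * z = 1 := by simpa [pow_two] using (isElementaryAbelian_omegaCenterOf _).2 z hzZ
    have hw22 : w₂ * w₂ = 1 := q.pair.two.comp.2.2.2.2.2 w₂ hw₂.2
    have hz1 : z ≠ 1 := fun e => q.ne_fixed hw₁ hw₁1 hw₂ (mul_right_cancel (e.trans hw22.symm))
    have hzo : orderOf z = 2 := orderOf_eq_prime (by rw [pow_two, hz2]) hz1
    have hzp : IsPGroup 2 (zpowers z) := IsPGroup.of_card (n := 1) (by rw [Nat.card_zpowers, hzo]; rfl)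
    have hzne : zpowers z ≠ ⊥ := fun e => hz1 (zpowers_eq_bot.mp e)
    set Y := normalizer (zpowers z : Set G) with hY
    have hY2 : Cfsg.IsTwoLocal Y := ⟨_, hzp, hzne, rfl⟩
    have hYC : ∀ g ∈ Y, g * z = z * g := by
      intro g hg
      have h : g * z * g⁻¹ ∈ zpowers z := (mem_normalizer_iff.mp hg z).mp (mem_zpowers z)
      rcases eq_one_or_eq_of_card_two (by rw [Nat.card_zpowers, hzo]) (mem_zpowers z) hz1 h with e | e
      · exact absurd (conj_eq_one_iff.mp e) hz1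
      · exact mul_inv_eq_iff_eq_mul.mp e
    have hCY : centralizer ({z} : Set G) ≤ Y := fun g hg => by
      rw [hY, mem_normalizer_iff_map_conj_eq, MonoidHom.map_zpowers]
      congr 1
      show g * z * g⁻¹ = z
      rw [mem_centralizer_singleton_iff.mp hg, mul_inv_cancel_right]
    have hSY : (S : Subgroup G) ≤ Y := fun s hs => hCY (mem_centralizer_singleton_iff.mpr
      (mem_centralizer_iff.mp (q.pair.jZ_le_centralizer hzZ) s hs))
    have hYLA : ¬ Y ≤ LA := fun h => hCz (hCY.trans h)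
    have d : Straddle S LA (S : Subgroup G) := ⟨hc, hN, hZ, hJA, sylow_mem_max
      ⟨S.isPGroup', fun e => hz1 (mem_bot.mp (e ▸ q.pair.jZ_le_T hzZ)), q.pair.one.ctx.le,
        Y, hY2, hSY, hYLA⟩⟩
    have hctx := d.of_le hY2 hYLA hSY
    obtain ⟨K₃, hK₃, hK₃Y, hK₃L⟩ := d.exists_component hctx hYLA
    obtain ⟨L₃, m₃⟩ := d.exists_main ⟨hK₃, hK₃L⟩ fun e => hz1 (by
      have hle : zpowers z ≤ Cfsg.pCoreOf 2 (K₃ ⊔ (S : Subgroup G)) :=
        le_pCoreOf (zpowers_le.mpr (mem_sup_right (q.pair.jZ_le_T hzZ))) (sup_le hK₃Y hSY) hzp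
      rw [e] at hle
      exact mem_bot.mp (hle (mem_zpowers z)))
    have p₃ : Pair (S : Subgroup G) A K₃ LA L₃ :=
      ⟨q.pair.one, m₃, fun e => hK₃L (e ▸ m₃.K_le)⟩
    refine ⟨_, _, _, _, p₃.symm, p₃.symm.not_commute_of_not_mem hw₁ fun hmem => ?_⟩
    -- `K₃` would centralise `w₁` and `w₁ w₂`
    have hzc : z ∈ cen (S : Subgroup G) K₃ := by
      refine ⟨hzZ, mem_centralizer_iff.mpr fun g hg => ?_⟩
      exact hYC g (sup_le hK₃Y ((CfsgLib.PLocal.thompsonSubgroupOf_le 2 (S : Subgroup G)).trans hSY) hg)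
    have hcard : Nat.card ↥(cen (S : Subgroup G) K₃) = 2 := by
      have : Nontrivial ↥(cen (S : Subgroup G) K₃) :=
        ⟨⟨z, hzc⟩, 1, fun e => hz1 (congrArg Subtype.val e)⟩
      exact le_antisymm p₃.symm.facts.2.1 (Finite.one_lt_card (α := ↥(cen (S : Subgroup G) K₃)))
    rcases eq_one_or_eq_of_card_two hcard hmem hw₁1 hzc with e | e
    · exact hz1 e
    · exact hw₂1 (mul_eq_left.mp e)
  by_cases h₁ : Abel K K' <;> by_cases h₂ : Abel K' K
  · exact (q.false_of_abel h₁ h₂).elim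
  · exact key q.symm hJ' h₂ h₁
  · exact key q hJ h₁ h₂
  · exact (q.false_of_nonabel h₁ h₂).elim

namespace Straddle

variable {S : Sylow 2 G} {M : Subgroup G}

/-- Every component outside `M` belongs to a pair. -/
theorem exists_pair (d : Straddle S M T) (hO : Cfsg.pCore 2 G = ⊥) (m : Main T K L) :
    ∃ K' L', Pair T K K' L L' := by
  obtain ⟨S', -, hTS⟩ := d.exists_le_sylow
  by_cases hne : T = (S' : Subgroup G)
  · subst hne
    exact m.exists_pair_top d.char2 d.locSolv d.znorm hO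
  · obtain ⟨τ, -, -, -, p⟩ := m.exists_pair_of_lt hTS hne
    exact ⟨_, _, p⟩

/-- A pair with non-commuting four-groups. -/
theorem exists_b_one (d : Straddle S M T) (hO : Cfsg.pCore 2 G = ⊥) :
    ∃ K₁ K₂ L₁ L₂, Pair T K₁ K₂ L₁ L₂ ∧
      ¬ Cfsg.wOf K₁ ≤ centralizer (Cfsg.wOf K₂ : Set G) := by
  obtain ⟨K, hK⟩ := d.jComponentsOutside_nonempty
  obtain ⟨L, m⟩ := d.exists_main ⟨hK.1.1, hK.2.1⟩ hK.2.2
  obtain ⟨S', -, hTS⟩ := d.exists_le_sylow
  by_cases hne : T = (S' : Subgroup G)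
  · subst hne
    exact m.exists_b_one_top d.char2 d.locSolv d.znorm hO
  · obtain ⟨τ, -, hτ, -, p⟩ := m.exists_pair_of_lt hTS hne
    exact ⟨_, _, _, _, p, p.not_commute_of_conj hτ⟩

end Straddle

end CfsgLib.JComp
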