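import Cfsg.Agent.JComp.VertexLemma
import Cfsg.Agent.JComp.BOne

/-!
Pairs with commuting four-groups.
-/

set_option autoImplicit false

namespace CfsgLib.JComp

open Subgroup
open scoped IsMulCommutative

variable {G : Type*} [Group G]

/-- A pair with commuting four-groups. -/
structure Two [Finite G] (T K₁ K₂ L₁ L₂ : Subgroup G) : Prop where
  pair : Pair T K₁ K₂ L₁ L₂
  comm : Cfsg.wOf K₁ ≤ centralizer (Cfsg.wOf K₂ : Set G)

/-- The conjugates of `W₂` under `K₁` commute with `W₂`. -/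
def Abel (K₁ K₂ : Subgroup G) : Prop :=
  ∀ a ∈ K₁, ∀ x ∈ Cfsg.wOf K₂, ∀ y ∈ Cfsg.wOf K₂, x * (a * y * a⁻¹) = a * y * a⁻¹ * x

theorem Abel.map {K₁ K₂ : Subgroup G} (h : Abel K₁ K₂) (g : G) :
    Abel (K₁.map (MulAut.conj g).toMonoidHom) (K₂.map (MulAut.conj g).toMonoidHom) := by
  rintro _ ⟨a, ha, rfl⟩ x hx y hy
  rw [← map_wOf] at hx hy
  obtain ⟨x, hx, rfl⟩ := hx
  obtain ⟨y, hy, rfl⟩ := hy
  rw [← map_inv, ← map_mul, ← map_mul, ← map_mul, ← map_mul, h a ha x hx y hy]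

theorem map_conj_mul (g h : G) (K : Subgroup G) :
    K.map (MulAut.conj (g * h)).toMonoidHom =
      (K.map (MulAut.conj h).toMonoidHom).map (MulAut.conj g).toMonoidHom := by
  rw [map_map]
  congr 1
  ext x
  simp [mul_assoc]

theorem map_conj_one (K : Subgroup G) : K.map (MulAut.conj (1 : G)).toMonoidHom = K := by
  rw [map_one]; exact map_id K

variable [Finite G] {T T' K K₁ K₂ K₂' L L₁ L₂ L₁' L₂' : Subgroup G}

namespace Two

theorem symm (q : Two T K₁ K₂ L₁ L₂) : Two T K₂ K₁ L₂ L₁ :=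
  ⟨q.pair.symm, fun _ hy => mem_centralizer_iff.mpr fun x hx =>
    (mem_centralizer_iff.mp (q.comm hx) _ hy).symm⟩

theorem map (q : Two T K₁ K₂ L₁ L₂) (g : G) :
    Two (T.map (MulAut.conj g).toMonoidHom) (K₁.map (MulAut.conj g).toMonoidHom)
      (K₂.map (MulAut.conj g).toMonoidHom) (L₁.map (MulAut.conj g).toMonoidHom)
      (L₂.map (MulAut.conj g).toMonoidHom) := by
  refine ⟨q.pair.map g, ?_⟩
  rw [← map_wOf, ← map_wOf]
  rintro _ ⟨x, hx, rfl⟩
  refine mem_centralizer_iff.mpr ?_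
  rintro _ ⟨y, hy, rfl⟩
  rw [← map_mul, ← map_mul, mem_centralizer_iff.mp (q.comm hx) y hy]

/-- The fixed point in `W₂` is centralised by `K₁`. -/
theorem mem_cen (q : Two T K₁ K₂ L₁ L₂) {w₂ : G} (hw₂ : w₂ ∈ jZ T ⊓ Cfsg.wOf K₂) :
    w₂ ∈ cen T K₁ := by
  by_contra hn
  exact q.pair.not_commute_of_not_mem hw₂ hn q.comm

theorem card_cen (q : Two T K₁ K₂ L₁ L₂) : Nat.card ↥(cen T K₁) = 2 := by
  obtain ⟨w, hw, hw1⟩ := q.pair.two.exists_w
  have : Nontrivial ↥(cen T K₁) :=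
    ⟨⟨w, q.mem_cen hw⟩, 1, fun e => hw1 (congrArg Subtype.val e)⟩
  exact le_antisymm q.pair.facts.2.1 (Finite.one_lt_card (α := ↥(cen T K₁)))

theorem ne_fixed (q : Two T K₁ K₂ L₁ L₂) {w₁ w₂ : G} (hw₁ : w₁ ∈ jZ T ⊓ Cfsg.wOf K₁) (hw₁1 : w₁ ≠ 1)
    (hw₂ : w₂ ∈ jZ T ⊓ Cfsg.wOf K₂) : w₁ ≠ w₂ := by
  intro e
  have h : w₁ ∈ cen T K₁ ⊓ Cfsg.wOf K₁ := ⟨e ▸ q.mem_cen hw₂, hw₁.2⟩
  rw [cen_inf_wOf q.pair.one.ctx.isPGroup q.pair.one.comp] at h
  exact hw₁1 h

/-- The only component in `L₁` is `K₁`. -/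
theorem single (q : Two T K₁ K₂ L₁ L₂) (hK : Cfsg.IsJComponent T K) (hKL : K ≤ L₁) : K = K₁ := by
  have m := q.pair.one
  by_contra hne
  have hT := m.ctx.isPGroup
  obtain ⟨w₁, hw₁, hw₁1⟩ := m.exists_w
  obtain ⟨w₂, hw₂, hw₂1⟩ := q.pair.two.exists_w
  obtain ⟨w, hw, hw1⟩ : ∃ w ∈ jZ T ⊓ Cfsg.wOf K, w ≠ 1 := by
    by_contra hno
    push Not at hno
    have h := card_jZ_inf_wOf hT hK
    rw [(Subgroup.eq_bot_iff_forall _).mpr hno, Subgroup.card_bot] at h
    omega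
  have hcen : ∀ {X Y : Subgroup G}, Cfsg.IsJComponent T X → X ≤ L₁ → Cfsg.IsJComponent T Y → Y ≤ L₁ →
      X ≠ Y → ∀ {u : G}, u ∈ jZ T ⊓ Cfsg.wOf Y → u ∈ cen T X := by
    intro X Y hX hXL hY hYL hne u hu
    refine ⟨hu.1, ?_⟩
    have hle : X ⊔ Cfsg.thompsonSubgroupOf 2 T ≤ centralizer ({u} : Set G) := sup_le
      ((m.ctx.component_le_centralizer m.ctx hX hXL hY hYL hne).trans
        (Subgroup.centralizer_le (Set.singleton_subset_iff.mpr hu.2)))
      (fun j hj => mem_centralizer_singleton_iff.mpr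
        (mem_centralizer_iff.mp (omegaCenterOf_le_centralizer _ hu.1) j hj))
    exact mem_centralizer_iff.mpr fun g hg => mem_centralizer_singleton_iff.mp (hle hg)
  have hw_eq : w = w₂ := ((eq_one_or_eq_of_card_two q.card_cen (q.mem_cen hw₂) hw₂1
    (hcen m.comp m.K_le hK hKL (Ne.symm hne) hw)).resolve_left hw1)
  have h1 := hcen hK hKL m.comp m.K_le hne hw₁
  have hKL₂ : K ≤ L₂ := le_trans (fun g hg => mem_centralizer_singleton_iff.mpr
      (mem_centralizer_iff.mp h1.2 g (mem_sup_left hg)))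
    (q.pair.two.above.centralizer_le hw₁1 (m.comp.2.2.2.2.2 w₁ hw₁.2) (q.symm.mem_cen hw₁).2)
  have hK2 : K = K₂ := q.pair.two.ctx.component_eq_of_inter q.pair.two.ctx hK hKL₂ q.pair.two.comp
    q.pair.two.K_le fun e => hw1 (mem_bot.mp (e ▸ mem_inf.mpr ⟨hw.2, hw_eq ▸ hw₂.2⟩))
  exact q.pair.not_le (hK2 ▸ hKL)

/-- `L₁` normalises `K₁`. -/
theorem L_le_normalizer (q : Two T K₁ K₂ L₁ L₂) : L₁ ≤ normalizer (K₁ : Set G) := by
  have h := q.pair.one.ctx
  obtain ⟨a, k, -, hp, hK, -⟩ := h.classify q.pair.one.comp q.pair.one.K_le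
  set N : Subgroup (Gam L₁) := Subgroup.closure {t | IsTransvection (VOf L₁) t}
  have hNn : N.Normal := ⟨fun n hn g => by
    induction hn using Subgroup.closure_induction with
    | mem t ht =>
      refine subset_closure ⟨?_, by rw [card_modComm_conj, ht.2]⟩
      rw [show g * t * g⁻¹ * (g * t * g⁻¹) = g * (t * t) * g⁻¹ by group, ht.1]
      group
    | one => simp
    | mul u v _ _ iu iv => simpa using mul_mem iu iv
    | inv u _ iu => simpa [mul_assoc] using inv_mem iu⟩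
  have hH : (N.comap (bar L₁)).Normal := hNn.comap _
  intro g hg
  obtain ⟨x, hx, n, hn, e⟩ := h.exists_mul_normalizer (H := N.comap (bar L₁))
    (fun j hj => h.bar_mem_closure_trans hj) ⟨g, hg⟩
  have hnK : (n : G) ∈ normalizer (K₁ : Set G) := by
    rw [mem_normalizer_iff_map_conj_eq]
    refine q.single (isJComponent_conj q.pair.one.comp hn) ?_
    exact (map_mono q.pair.one.K_le).trans
      (mem_normalizer_iff_map_conj_eq.mp (le_normalizer n.2)).le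
  have hxK : (x : G) ∈ normalizer (K₁ : Set G) := by
    rw [hK]
    refine h.mem_normalizer_compK hp ?_
    rw [map_mul, map_mul, map_inv]
    exact h.setting.conj_mem_zpowers (mem_comap.mp hx) hp.block
  have e' : g = (x : G) * n := congrArg Subtype.val e
  rw [e']
  exact mul_mem hxK hnK

/-- Every component of a Sylow subgroup of `L₁` is `K₁`. -/
theorem eq_of_ctx (q : Two T K₁ K₂ L₁ L₂) (h' : Ctx T' L₁) (hK : Cfsg.IsJComponent T' K)
    (hKL : K ≤ L₁) : K = K₁ := by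
  obtain ⟨l, hl, rfl⟩ := exists_conj_of_isSylowTwoIn q.pair.one.ctx.mem.1 h'.mem.1
  have h1 := isJComponent_map (MulAut.conj l⁻¹) hK
  rw [← map_conj_mul, inv_mul_cancel, map_conj_one] at h1
  have h2 : K.map (MulAut.conj l⁻¹).toMonoidHom = K₁ := q.single h1 ((map_mono hKL).trans
    (mem_normalizer_iff_map_conj_eq.mp (le_normalizer (inv_mem hl))).le)
  calc K = (K.map (MulAut.conj l⁻¹).toMonoidHom).map (MulAut.conj l).toMonoidHom := by
        rw [← map_conj_mul, mul_inv_cancel, map_conj_one]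
    _ = K₁.map (MulAut.conj l).toMonoidHom := by rw [h2]
    _ = K₁ := mem_normalizer_iff_map_conj_eq.mp (q.L_le_normalizer hl)

/-- `V = W₁ × D₁`. -/
theorem exists_eq_mul_cen (q : Two T K₁ K₂ L₁ L₂) {v : G} (hv : v ∈ VOf L₁) :
    ∃ u ∈ Cfsg.wOf K₁, ∃ c ∈ cen T K₁, u * c = v := by
  have h := q.pair.one.ctx
  obtain ⟨a, k, -, hp, hK, hW⟩ := h.classify q.pair.one.comp q.pair.one.K_le
  obtain ⟨u, hu, c, hc, huc⟩ := exists_mul_eq sq_VOf hp.block.odd (⟨v, hv⟩ : VOf L₁)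
  refine ⟨u, hW ▸ ⟨u, hu, rfl⟩, c, ?_, congrArg Subtype.val huc⟩
  have hKc : ∀ x ∈ K₁, x * c * x⁻¹ = c := by
    intro x hx
    rw [hK] at hx
    obtain ⟨z', hz', i, hxe⟩ := h.exists_eq_mul (oddGen_le _ hx)
    obtain ⟨z, hz, rfl⟩ := hz'
    have hb : bar L₁ (z * k ^ i) • c = c := by
      rw [map_mul, map_zpow, show bar L₁ z = 1 from bar_eq_one_iff.mpr (mem_centralizer_iff.mpr
        fun v hv => (mem_centralizer_iff.mp (omegaCenterOf_le_centralizer _ hv) z ⟨z, hz, rfl⟩).symm),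
        one_mul]
      exact MulAction.mem_stabilizer_iff.mp
        (zpow_mem (show bar L₁ k ∈ MulAction.stabilizer _ c from mem_fix_singleton.mp hc) i)
    have h2 := congrArg Subtype.val hb
    rw [coe_bar_smul, show ((z * k ^ i : L₁) : G) = x by rw [hxe]; simp] at h2
    exact h2
  have hJc : ∀ j ∈ Cfsg.thompsonSubgroupOf 2 T, j * c * j⁻¹ = c := by
    intro j hj
    have hmem : bar L₁ ⟨j, h.J_le hj⟩ ∈ MulAction.stabilizer (Gam L₁) c := by
      refine (Subgroup.closure_le _).mpr ?_ (h.bar_mem_closure_movers (j := ⟨j, h.J_le hj⟩) hj)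
      rintro _ ⟨b, hb, rfl⟩
      obtain ⟨A, -, -, ht⟩ := id hb
      obtain ⟨kb, hpb⟩ := h.exists_pair hb.two ht
      have hKb : compK L₁ kb = K₁ := q.single (h.isJComponent_compK hb hpb).1 (h.compK_le kb)
      have hmem' : bar L₁ kb ∈ zpowers (bar L₁ k) := by
        have hkb : (kb : G) ∈ compK L₁ k := hK ▸ hKb ▸ h.mem_compK hpb
        obtain ⟨z', hz', i, hxe⟩ := h.exists_eq_mul (oddGen_le _ hkb)
        obtain ⟨z, hz, rfl⟩ := hz'
        have e : kb = z * k ^ i := Subtype.ext (by rw [hxe]; simp)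
        rw [e, map_mul, map_zpow, show bar L₁ z = 1 from bar_eq_one_iff.mpr (mem_centralizer_iff.mpr
          fun v hv => (mem_centralizer_iff.mp (omegaCenterOf_le_centralizer _ hv) z ⟨z, hz, rfl⟩).symm),
          one_mul]
        exact zpow_mem (mem_zpowers _) i
      refine MulAction.mem_stabilizer_iff.mpr (hpb.block.transvection_fix h.setting hpb.trans
        hpb.bar_inv (mem_fix_singleton.mpr ?_))
      obtain ⟨i, hi⟩ := mem_zpowers_iff.mp hmem'
      rw [← hi]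
      exact MulAction.mem_stabilizer_iff.mp
        (zpow_mem (show bar L₁ k ∈ MulAction.stabilizer _ c from mem_fix_singleton.mp hc) i)
    have h2 := congrArg Subtype.val (MulAction.mem_stabilizer_iff.mp hmem)
    rwa [coe_bar_smul] at h2
  refine ⟨mem_jZ_of_centralizer (h.VOf_le_T c.2)
    (mem_centralizer_iff.mpr fun j hj => mul_inv_eq_iff_eq_mul.mp (hJc j hj))
    ((isElementaryAbelian_omegaCenterOf _).2 _ c.2), ?_⟩
  have hle : K₁ ⊔ Cfsg.thompsonSubgroupOf 2 T ≤ centralizer ({(c : G)} : Set G) := sup_le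
    (fun x hx => mem_centralizer_singleton_iff.mpr (mul_inv_eq_iff_eq_mul.mp (hKc x hx)))
    (fun j hj => mem_centralizer_singleton_iff.mpr (mul_inv_eq_iff_eq_mul.mp (hJc j hj)))
  exact mem_centralizer_iff.mpr fun g hg => mem_centralizer_singleton_iff.mp (hle hg)

/-- An involution centralising `W₁` lies in `T`. -/
theorem mem_cw_of_involution (q : Two T K₁ K₂ L₁ L₂) {x : G} (hx2 : x * x = 1)
    (hx : x ∈ centralizer (Cfsg.wOf K₁ : Set G)) : x ∈ cw T K₁ := by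
  have h := q.pair.one.ctx
  have hxL : x ∈ L₁ := q.pair.one.normalizer_wOf_le (Subgroup.centralizer_le_normalizer _ hx)
  obtain ⟨w₂, hw₂, hw₂1⟩ := q.pair.two.exists_w
  have hw₂D := q.mem_cen hw₂
  have hDfix : x * w₂ * x⁻¹ = w₂ := by
    have hxV : x * w₂ * x⁻¹ ∈ VOf L₁ := by
      have hw₂V : w₂ ∈ VOf L₁ := by
        have hQ : w₂ ∈ centralizer (Cfsg.pCoreOf 2 L₁ : Set G) :=
          Subgroup.centralizer_le h.pCoreOf_le_T (q.pair.jZ_le_centralizer hw₂.1)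
        exact CfsgLib.PLocal.mem_omegaOne ⟨h.self hQ, hQ⟩
          ((isElementaryAbelian_omegaCenterOf _).2 _ hw₂.1)
      exact (mem_normalizer_iff.mp (le_normalizer_VOf L₁ hxL) w₂).mp hw₂V
    obtain ⟨u, hu, c, hc, huc⟩ := q.exists_eq_mul_cen hxV
    have hu1 : u = 1 := by
      obtain ⟨S, k, d⟩ := exists_compData h.isPGroup q.pair.one.comp
      refine d.fpf u hu ?_
      have hkc : k * c * k⁻¹ = c := by
        rw [mem_centralizer_iff.mp hc.2 k (mem_sup_left d.memk), mul_inv_cancel_right]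
      have hkK : x⁻¹ * k * x ∈ K₁ := by
        simpa using (mem_normalizer_iff.mp (inv_mem (q.L_le_normalizer hxL)) k).mp d.memk
      have hkw : k * (x * w₂ * x⁻¹) * k⁻¹ = x * w₂ * x⁻¹ := by
        calc k * (x * w₂ * x⁻¹) * k⁻¹
            = x * ((x⁻¹ * k * x) * w₂ * (x⁻¹ * k * x)⁻¹) * x⁻¹ := by group
          _ = _ := by rw [mem_centralizer_iff.mp hw₂D.2 _ (mem_sup_left hkK), mul_inv_cancel_right]
      rw [← huc] at hkw
      have h1 : k * u * k⁻¹ * (k * c * k⁻¹) = u * c := by rw [← hkw]; group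
      rw [hkc] at h1
      exact mul_right_cancel h1
    rw [hu1, one_mul] at huc
    rcases eq_one_or_eq_of_card_two q.card_cen hw₂D hw₂1 (huc ▸ hc) with e | e
    · exact absurd (conj_eq_one_iff.mp e) hw₂1
    · exact e
  have hb : bar L₁ ⟨x, hxL⟩ = 1 := bar_eq_one_iff.mpr (mem_centralizer_iff.mpr fun v hv => by
    obtain ⟨u, hu, c, hc, rfl⟩ := q.exists_eq_mul_cen hv
    have hxc : x * c = c * x := by
      rcases eq_one_or_eq_of_card_two q.card_cen hw₂D hw₂1 hc with e | e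
      · rw [e, mul_one, one_mul]
      · rw [e]; exact mul_inv_eq_iff_eq_mul.mp hDfix
    show u * c * x = x * (u * c)
    rw [mul_assoc, ← hxc, ← mul_assoc, mem_centralizer_iff.mp hx u hu, mul_assoc])
  have hxQ : x ∈ Cfsg.pCoreOf 2 L₁ := Ctx.mem_pCoreOf_iff.mpr
    (h.mem_pCore_of_bar_eq_one (x := ⟨x, hxL⟩) hb (n := 1) (Subtype.ext (by simpa [pow_two] using hx2)))
  exact ⟨h.pCoreOf_le_T hxQ, hx⟩

/-- The second vertex of an edge is determined by the fixed point in the first. -/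
theorem neighbour_of_point (q : Two T K₁ K₂ L₁ L₂) {g : G}
    (hT' : T' = T.map (MulAut.conj g).toMonoidHom) (hT'p : IsPGroup 2 T')
    (hK : Cfsg.IsJComponent T' K) {w₁ : G} (hw₁ : w₁ ∈ jZ T ⊓ Cfsg.wOf K₁) (hw₁1 : w₁ ≠ 1)
    (hwK : w₁ ∈ centralizer ((K ⊔ Cfsg.thompsonSubgroupOf 2 T' : Subgroup G) : Set G)) :
    K = K₂ := by
  have hle : K ⊔ Cfsg.thompsonSubgroupOf 2 T' ≤ L₂ := le_trans (fun x hx =>
      mem_centralizer_singleton_iff.mpr (mem_centralizer_iff.mp hwK x hx))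
    (q.pair.two.above.centralizer_le hw₁1 (q.pair.one.comp.2.2.2.2.2 w₁ hw₁.2) (q.symm.mem_cen hw₁).2)
  obtain ⟨T'', hT'', hJ⟩ := q.pair.two.ctx.exists_ctx_of_le hT'p (g := g)
    (by rw [hT', ← map_thompson]) (le_sup_right.trans hle)
  exact q.symm.eq_of_ctx hT'' (isJComponent_congr hJ hK) (le_sup_left.trans hle)

/-- The edges at a vertex are conjugate under a generator of `K₁` modulo its core. -/
theorem neighbour (q : Two T K₁ K₂ L₁ L₂) (q' : Two T' K₁ K₂' L₁' L₂') {g : G}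
    (hT' : T' = T.map (MulAut.conj g).toMonoidHom) :
    ∃ a ∈ K₁, K₂' = K₂.map (MulAut.conj a).toMonoidHom := by
  obtain ⟨S, k, d⟩ := exists_compData q.pair.one.ctx.isPGroup q.pair.one.comp
  obtain ⟨w, hw, hw1⟩ := q.pair.one.exists_w
  obtain ⟨w', hw', hw'1⟩ := q'.pair.one.exists_w
  obtain ⟨i, hi⟩ := q.pair.one.exists_conj_eq d.memk d.pow_three d.fpf hw.2 hw1 hw'.2 hw'1
  have hki : k ^ i ∈ normalizer (K₁ : Set G) := le_normalizer (pow_mem d.memk i)
  refine ⟨k ^ i, pow_mem d.memk i, ?_⟩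
  have qi := q.map (k ^ i)
  rw [show K₁.map (MulAut.conj (k ^ i)).toMonoidHom = K₁ from mem_normalizer_iff_map_conj_eq.mp hki]
    at qi
  refine qi.neighbour_of_point (T' := T') (g := g * (k ^ i)⁻¹) ?_ q'.pair.one.ctx.isPGroup
    q'.pair.two.comp (w₁ := w') ⟨?_, hw'.2⟩ hw'1 (q'.symm.mem_cen hw').2
  · rw [← map_conj_mul, inv_mul_cancel_right, hT']
  · rw [hi]
    show _ ∈ Cfsg.omegaCenterOf (Cfsg.thompsonSubgroupOf 2 (T.map (MulAut.conj (k ^ i)).toMonoidHom))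
    rw [← map_thompson, ← map_omegaCenterOf (f := (MulAut.conj (k ^ i)).toMonoidHom)
      (MulAut.conj (k ^ i)).injective]
    exact ⟨w, hw.1, rfl⟩

/-- Moves of `W₂` by `C_T(W₁)` and by `K₁`. -/
theorem abel_of_gen (q : Two T K₁ K₂ L₁ L₂) {k c : G} (hk : k ∈ K₁) (hk3 : k ^ 3 = 1)
    (hgen : ∀ x ∈ K₁, ∃ i : ℕ, x * (k ^ i)⁻¹ ∈ Cfsg.pCoreOf 2 K₁) (hc : c ∈ Cfsg.wOf K₂)
    (hcZ : c ∉ jZ T) (hcomm : c * (k * c * k⁻¹) = k * c * k⁻¹ * c) : Abel K₁ K₂ := by
  obtain ⟨w, hw, hw1⟩ := q.pair.two.exists_w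
  have hTK := q.pair.T_le_normalizer
  have hTK2 := q.pair.symm.T_le_normalizer
  have hkw : k * w * k⁻¹ = w := by
    rw [mem_centralizer_iff.mp (q.mem_cen hw).2 k (mem_sup_left hk), mul_inv_cancel_right]
  have hWT : ∀ {x : G}, x ∈ Cfsg.wOf K₂ → x ∈ cw T K₁ := fun {x} hx =>
    ⟨q.pair.two.wOf_le_T hx, q.symm.comm hx⟩
  have hkT : ∀ {x : G}, x ∈ cw T K₁ → k * x * k⁻¹ ∈ cw T K₁ := fun {x} hx =>
    (mem_normalizer_iff.mp (q.pair.one.sup_le_normalizer_cw hTK (mem_sup_left hk)) x).mp hx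
  have hwc : ∀ {t : G}, t ∈ T → w * t = t * w := fun {t} ht =>
    (mem_centralizer_iff.mp (q.pair.jZ_le_centralizer hw.1) t ht).symm
  have hwc' : ∀ {t : G}, t ∈ cw T K₁ → w * t = t * w := fun {t} ht => hwc ht.1
  -- two conjugates
  have h1 : ∀ x ∈ Cfsg.wOf K₂, ∀ y ∈ Cfsg.wOf K₂, x * (k * y * k⁻¹) = k * y * k⁻¹ * x := by
    have hy' : ∀ y ∈ Cfsg.wOf K₂, ∀ x : G, x * w = w * x → x * (k * c * k⁻¹) = k * c * k⁻¹ * x →
        x * (k * y * k⁻¹) = k * y * k⁻¹ * x := by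
      intro y hy x hxw hxc
      rcases q.pair.two.wOf_cases hw hw1 hc hcZ hy with e | e | e | e <;> rw [e]
      · simp
      · rw [hkw]; exact hxw
      · exact hxc
      · rw [show k * (c * w) * k⁻¹ = (k * c * k⁻¹) * (k * w * k⁻¹) by group, hkw, ← mul_assoc, hxc,
          mul_assoc, hxw, ← mul_assoc]
    intro x hx y hy
    refine hy' y hy x (hwc (q.pair.two.wOf_le_T hx)).symm ?_
    rcases q.pair.two.wOf_cases hw hw1 hc hcZ hx with e | e | e | e <;> rw [e]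
    · simp
    · exact hwc' (hkT (hWT hc))
    · exact hcomm
    · rw [mul_assoc c w, hwc' (hkT (hWT hc)), ← mul_assoc, hcomm, mul_assoc]
  have h2 : ∀ i : ℕ, ∀ x ∈ Cfsg.wOf K₂, ∀ y ∈ Cfsg.wOf K₂,
      x * (k ^ i * y * (k ^ i)⁻¹) = k ^ i * y * (k ^ i)⁻¹ * x := by
    intro i x hx y hy
    have hmod : k ^ i = k ^ (i % 3) := by
      conv_lhs => rw [← Nat.mod_add_div i 3, pow_add, pow_mul, hk3, one_pow, mul_one]
    have hlt := Nat.mod_lt i (show 3 > 0 by norm_num)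
    rw [hmod]
    interval_cases hr : i % 3
    · simpa using (mem_centralizer_iff.mp
        (le_centralizer_iff_isMulCommutative.mpr (isMulCommutative_iff.mpr fun a b =>
          Subtype.ext (by
            obtain ⟨S, k', d⟩ := exists_compData q.pair.two.ctx.isPGroup q.pair.two.comp
            exact le_centralizer_iff_isMulCommutative.mpr d.wOf_elem.1 b.2 a a.2)) hy) x hx)
    · simpa using h1 x hx y hy
    · have e : k ^ 2 = k⁻¹ := by
        rw [eq_comm]; exact inv_eq_of_mul_eq_one_right (by rw [← pow_succ', hk3])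
      rw [e, inv_inv]
      have h3 := h1 y hy x hx
      calc x * (k⁻¹ * y * k) = k⁻¹ * ((k * x * k⁻¹) * y) * k := by group
        _ = k⁻¹ * (y * (k * x * k⁻¹)) * k := by rw [h3]
        _ = k⁻¹ * y * k * x := by group
  intro a ha x hx y hy
  obtain ⟨i, hi⟩ := hgen a ha
  set q₀ := a * (k ^ i)⁻¹
  have hq₀ : q₀ ∈ T := q.pair.one.pCoreOf_le_T hi
  have hx' : q₀⁻¹ * x * q₀ ∈ Cfsg.wOf K₂ := by
    simpa using (mem_normalizer_iff.mp
      (normalizer_le_normalizer_wOf K₂ (hTK2 (inv_mem hq₀))) x).mp hx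
  have ea : a = q₀ * k ^ i := (inv_mul_cancel_right a (k ^ i)).symm
  have h3 := h2 i _ hx' y hy
  rw [ea]
  calc x * (q₀ * k ^ i * y * (q₀ * k ^ i)⁻¹)
      = q₀ * ((q₀⁻¹ * x * q₀) * (k ^ i * y * (k ^ i)⁻¹)) * q₀⁻¹ := by group
    _ = q₀ * ((k ^ i * y * (k ^ i)⁻¹) * (q₀⁻¹ * x * q₀)) * q₀⁻¹ := by rw [h3]
    _ = _ := by group

end Two

end CfsgLib.JComp
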