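import Cfsg.Agent.JComp.Straddle

/-!
The unique maximal `2`-local subgroup above a component lying outside `M`.
-/

set_option autoImplicit false

namespace CfsgLib.JComp

open Subgroup
open scoped IsMulCommutative

variable {G : Type*} [Group G] [Finite G] {T T' L : Subgroup G}

/-- An element whose image fixes the block of `k` normalises the component of `k`. -/
theorem Ctx.mem_normalizer_compK (h : Ctx T L) {τ k : L} (hp : IsPair L τ k) {g : L}
    (hg : bar L (g * k * g⁻¹) ∈ zpowers (bar L k)) :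
    (g : G) ∈ normalizer (compK L k : Set G) := by
  rw [mem_normalizer_iff_map_conj_eq]
  show (compK L k).map (MulAut.conj (g : G)).toMonoidHom = _
  rw [Ctx.map_compK]
  exact h.compK_eq_of_block hp (hp.conj h.setting g) hg

/-- Components of Sylow subgroups of `L`, and their Thompson subgroups, normalise each component. -/
theorem Ctx.le_normalizer_component (h : Ctx T L) (h' : Ctx T' L) {K K' : Subgroup G}
    (hK : Cfsg.IsJComponent T K) (hKL : K ≤ L) (hK' : Cfsg.IsJComponent T' K') (hKL' : K' ≤ L) :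
    K' ≤ normalizer (K : Set G) ∧ Cfsg.thompsonSubgroupOf 2 T' ≤ normalizer (K : Set G) := by
  obtain ⟨a, k, -, hp, rfl, -⟩ := h.classify hK hKL
  obtain ⟨a', k', -, hp', rfl, -⟩ := h'.classify hK' hKL'
  constructor
  · intro x hx
    obtain ⟨q, hq, i, hxe⟩ := h'.exists_eq_mul (oddGen_le _ hx)
    obtain ⟨z, hz, rfl⟩ := hq
    have hxL : x = ((z * k' ^ i : L) : G) := by rw [hxe]; simp
    rw [hxL]
    refine h.mem_normalizer_compK hp ?_
    have hz1 : bar L z = 1 :=
      bar_eq_one_iff.mpr (mem_centralizer_iff.mpr fun v hv =>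
        (mem_centralizer_iff.mp (omegaCenterOf_le_centralizer _ hv) z ⟨z, hz, rfl⟩).symm)
    have hc : bar L k' ^ i * bar L k = bar L k * bar L k' ^ i :=
      (le_centralizer_iff_isMulCommutative.mpr h.setting.isMulCommutative_blockGroup
        hp.block.mem_blockGroup _ (zpow_mem hp'.block.mem_blockGroup i))
    rw [map_mul, map_mul, map_inv, map_mul, hz1, one_mul, map_zpow, hc, mul_inv_cancel_right]
    exact mem_zpowers _
  · intro j hj
    refine h.mem_normalizer_compK hp (g := ⟨j, h'.J_le hj⟩) ?_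
    rw [map_mul, map_mul, map_inv]
    exact h.setting.conj_mem_zpowers (h'.bar_mem_closure_trans hj) hp.block

/-- A conjugate of `J(T₁)` inside `X` is the Thompson subgroup of a Sylow subgroup of `X`. -/
theorem Ctx.exists_ctx_of_le {T₁ T₂ X : Subgroup G} (h : Ctx T₁ X) (hT₂ : IsPGroup 2 T₂) {g : G}
    (hconj : Cfsg.thompsonSubgroupOf 2 T₂ =
      (Cfsg.thompsonSubgroupOf 2 T₁).map (MulAut.conj g).toMonoidHom)
    (hle : Cfsg.thompsonSubgroupOf 2 T₂ ≤ X) :
    ∃ T'', Ctx T'' X ∧ Cfsg.thompsonSubgroupOf 2 T'' = Cfsg.thompsonSubgroupOf 2 T₂ := by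
  obtain ⟨T'', hT'', hJ''⟩ :=
    exists_sylowTwoIn (hT₂.to_le (CfsgLib.PLocal.thompsonSubgroupOf_le 2 T₂)) hle
  obtain ⟨x, hxX, rfl⟩ := exists_conj_of_isSylowTwoIn h.mem.1 hT''
  refine ⟨_, h.conj hxX, (thompson_eq_of_invariants hJ'' ?_ ?_).symm⟩
  · obtain ⟨A, hA⟩ := CfsgLib.PLocal.maxEAIn_nonempty 2 T₁
    obtain ⟨h1, h1'⟩ := exists_member_card_map (MulAut.conj g) T₁ A hA
    obtain ⟨h2, h2'⟩ := exists_member_card_map (MulAut.conj x) T₁ A hA
    rw [maxEAIn_eq_of_thompson_eq (T := T₁.map (MulAut.conj g).toMonoidHom)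
      (hconj.trans (map_thompson (MulAut.conj g) T₁))]
    exact ⟨_, h1, _, h2, h1'.trans h2'.symm⟩
  · rw [hconj, ← map_thompson,
      card_map_of_injective (f := (MulAut.conj g).toMonoidHom) (MulAut.conj g).injective,
      card_map_of_injective (f := (MulAut.conj x).toMonoidHom) (MulAut.conj x).injective]

omit [Finite G] in
/-- An element permuting a family of subgroups normalises their join. -/
theorem mem_normalizer_sSup [Finite G] {s : Set (Subgroup G)} {g : G}
    (h : ∀ H ∈ s, H.map (MulAut.conj g).toMonoidHom ∈ s) :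
    g ∈ normalizer ((sSup s : Subgroup G) : Set G) := by
  rw [mem_normalizer_iff_map_conj_eq]
  refine Subgroup.eq_of_le_of_card_ge (map_le_iff_le_comap.mpr (sSup_le fun H hH => ?_)) ?_
  · exact map_le_iff_le_comap.mp (le_sSup (h H hH))
  · exact (card_map_of_injective (f := (MulAut.conj g).toMonoidHom) (MulAut.conj g).injective).ge

theorem exists_le_maximalTwoLocal {N : Subgroup G} (hN : Cfsg.IsTwoLocal N) :
    ∃ L, Cfsg.IsMaximalTwoLocal L ∧ N ≤ L := by
  obtain ⟨L, hNL, hL, hmax⟩ := (Set.toFinite {X : Subgroup G | Cfsg.IsTwoLocal X}).exists_le_maximal hN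
  exact ⟨L, ⟨hL, fun X hX hLX => le_antisymm (hmax hX hLX) hLX⟩, hNL⟩

/-- The components in `Y` for the conjugates of `J(T)`. -/
def compSet (T Y : Subgroup G) : Set (Subgroup G) :=
  {K | ∃ T', Ctx T' Y ∧ Cfsg.IsJComponent T' K ∧ K ≤ Y ∧ ∃ g : G,
    Cfsg.thompsonSubgroupOf 2 T' =
      (Cfsg.thompsonSubgroupOf 2 T).map (MulAut.conj g).toMonoidHom}

/-- The hypothesis on a component lying outside `M`. -/
structure Outside (M T K : Subgroup G) : Prop where
  comp : Cfsg.IsJComponent T K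
  notle : ¬ K ≤ M

namespace Straddle

variable {S : Sylow 2 G} {M T K : Subgroup G}

/-- A `2`-local subgroup containing `K` and `J(T)`. -/
theorem exists_ctx_outside (d : Straddle S M T) (hK : Outside M T K) {Y : Subgroup G}
    (hY : Cfsg.IsTwoLocal Y) (hKY : K ⊔ Cfsg.thompsonSubgroupOf 2 T ≤ Y) :
    ∃ T', Ctx T' Y ∧ Cfsg.thompsonSubgroupOf 2 T' = Cfsg.thompsonSubgroupOf 2 T ∧
      Cfsg.IsJComponent T' K ∧ K ≤ Y := by
  obtain ⟨T', hT', hJT'⟩ := exists_sylowTwoIn
    (d.isPGroup.to_le (CfsgLib.PLocal.thompsonSubgroupOf_le 2 T)) (le_sup_right.trans hKY)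
  obtain ⟨hJ, -, hmem⟩ :=
    d.sylow_spec hY (fun hle => hK.notle ((le_sup_left.trans hKY).trans hle)) hT' hJT'
  exact ⟨T', ctx_of_mem d.locSolv d.znorm hmem, hJ, isJComponent_congr hJ hK.comp,
    le_sup_left.trans hKY⟩

/-- There is a largest `2`-local subgroup containing `K` and `J(T)`. -/
theorem exists_max (d : Straddle S M T) (hK : Outside M T K) :
    ∃ L, Cfsg.IsMaximalTwoLocal L ∧ K ⊔ Cfsg.thompsonSubgroupOf 2 T ≤ L ∧
      ∀ Y, Cfsg.IsTwoLocal Y → K ⊔ Cfsg.thompsonSubgroupOf 2 T ≤ Y → Y ≤ L := by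
  set J := Cfsg.thompsonSubgroupOf 2 T with hJdef
  obtain ⟨S₀, k, dd⟩ := exists_compData d.isPGroup hK.comp
  set X := normalizer (Cfsg.wOf K : Set G) with hX
  have hX2 : Cfsg.IsTwoLocal X :=
    ⟨_, CfsgLib.PLocal.isPGroup_of_isElementaryAbelian dd.wOf_elem, dd.wOf_ne_bot, rfl⟩
  have hKX : K ⊔ J ≤ X := dd.H_le_normalizer
  obtain ⟨TX, hTX, hJX, hKTX, -⟩ := d.exists_ctx_outside hK hX2 hKX
  have hgood : ∀ Y, Cfsg.IsTwoLocal Y → K ⊔ J ≤ Y → compSet T Y ⊆ compSet T X := by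
    rintro Y hY hKY K' ⟨T', hT', hK', hKY', g, hg⟩
    obtain ⟨TY, hTY, -, hKTY, hKleY⟩ := d.exists_ctx_outside hK hY hKY
    obtain ⟨h1, h2⟩ := hTY.le_normalizer_component hT' hKTY hKleY hK' hKY'
    obtain ⟨T'', hT'', hJ''⟩ := hTX.exists_ctx_of_le hT'.isPGroup (g := g) (hJX ▸ hg)
      (h2.trans (normalizer_le_normalizer_wOf K))
    exact ⟨T'', hT'', isJComponent_congr hJ'' hK', h1.trans (normalizer_le_normalizer_wOf K),
      g, hJ''.trans hg⟩
  -- a maximal `2`-local subgroup above `K` and `J` is determined by the components of `X`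
  have hdet : ∀ Y, Cfsg.IsMaximalTwoLocal Y → K ⊔ J ≤ Y →
      Y = normalizer (Cfsg.pCoreOf 2 (sSup (compSet T X)) : Set G) := by
    intro Y hY hKY
    obtain ⟨TY, hTY, hJY, hKTY, hKleY⟩ := d.exists_ctx_outside hK hY.1 hKY
    set R := sSup (compSet T Y) with hR
    have hKR : K ≤ R := le_sSup ⟨TY, hTY, hKTY, hKleY, 1, by
      rw [hJY, map_one]
      exact (map_id (Cfsg.thompsonSubgroupOf 2 T)).symm⟩
    have hRK : R ≤ normalizer (K : Set G) := sSup_le fun K' ⟨T', hT', hK', hKY', _⟩ =>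
      (hTY.le_normalizer_component hT' hKTY hKleY hK' hKY').1
    have hYR : Y ≤ normalizer (R : Set G) := by
      intro y hy
      refine mem_normalizer_sSup fun K' ⟨T', hT', hK', hKY', g, hg⟩ => ?_
      obtain ⟨h1, h2, h3⟩ := hT'.component_conj hK' hKY' hy
      refine ⟨_, h1, h2, h3, y * g, ?_⟩
      rw [← map_thompson, hg, map_map]
      congr 1
      ext z
      simp [mul_assoc]
    have hne : Cfsg.pCoreOf 2 R ≠ ⊥ := by
      intro e
      apply dd.wOf_ne_bot
      have h1 : Cfsg.pCoreOf 2 K ≤ Cfsg.pCoreOf 2 R :=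
        le_pCoreOf ((pCoreOf_le 2 K).trans hKR) (hRK.trans (le_normalizer_pCoreOf' K))
          (isPGroup_pCoreOf 2 K)
      rw [e, le_bot_iff] at h1
      exact le_bot_iff.mp (h1 ▸ dd.isThree.wOf_le.trans (omegaCenterOf_le _))
    have hYeq : normalizer (Cfsg.pCoreOf 2 R : Set G) = Y :=
      hY.2 _ ⟨_, isPGroup_pCoreOf 2 R, hne, rfl⟩ (hYR.trans (le_normalizer_pCoreOf' R))
    have hsame : compSet T Y = compSet T X := by
      refine Set.Subset.antisymm (hgood Y hY.1 hKY) ?_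
      rintro K'' ⟨T'', hT'', hK'', hKX'', g, hg⟩
      have hN : ∀ {x : G}, x ∈ K'' ⊔ Cfsg.thompsonSubgroupOf 2 T'' → x ∈ Y := by
        intro x hx
        rw [← hYeq]
        refine le_normalizer_pCoreOf' R (mem_normalizer_sSup fun K' hK' => ?_)
        obtain ⟨T', hT', hK'c, hKX', -⟩ := hgood Y hY.1 hKY hK'
        obtain ⟨h1, h2⟩ := hT'.le_normalizer_component hT'' hK'c hKX' hK'' hKX''
        have e : K'.map (MulAut.conj x).toMonoidHom = K' :=
          mem_normalizer_iff_map_conj_eq.mp (sup_le h1 h2 hx)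
        rw [e]
        exact hK'
      obtain ⟨T''', hT''', hJ'''⟩ := hTY.exists_ctx_of_le hT''.isPGroup (g := g) (hJY ▸ hg)
        (fun x hx => hN (mem_sup_right hx))
      exact ⟨T''', hT''', isJComponent_congr hJ''' hK'', fun x hx => hN (mem_sup_left hx),
        g, hJ'''.trans hg⟩
    rw [← hsame]
    exact hYeq.symm
  obtain ⟨L, hL, hXL⟩ := exists_le_maximalTwoLocal hX2
  refine ⟨L, hL, hKX.trans hXL, fun Y hY hKY => ?_⟩
  obtain ⟨L', hL', hYL'⟩ := exists_le_maximalTwoLocal hY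
  rw [hdet L hL (hKX.trans hXL), ← hdet L' hL' (hKY.trans hYL')]
  exact hYL'

/-- A component outside `M` belongs to `jComponentsZero`. -/
theorem mem_zero (d : Straddle S M T) (hK : Outside M T K) : K ∈ Cfsg.jComponentsZero T := by
  obtain ⟨S₀, k, dd⟩ := exists_compData d.isPGroup hK.comp
  refine ⟨hK.comp, fun S' hJS' hS' => ?_⟩
  exact (d.sylow_spec ⟨Cfsg.wOf K, CfsgLib.PLocal.isPGroup_of_isElementaryAbelian dd.wOf_elem,
    dd.wOf_ne_bot, rfl⟩ (fun hle => hK.notle ((le_normalizer.trans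
      (normalizer_le_normalizer_wOf K)).trans hle)) hS' hJS').1

/-- If `O₂(⟨K, T⟩) ≠ 1` the largest `2`-local subgroup contains `T`, as a Sylow subgroup. -/
theorem ctx_of_pCoreOf_ne_bot (d : Straddle S M T) (hK : Outside M T K) {L : Subgroup G}
    (hL : Cfsg.IsTwoLocal L) (hKL : K ⊔ Cfsg.thompsonSubgroupOf 2 T ≤ L)
    (hmax : ∀ Y, Cfsg.IsTwoLocal Y → K ⊔ Cfsg.thompsonSubgroupOf 2 T ≤ Y → Y ≤ L)
    (hP : Cfsg.pCoreOf 2 (K ⊔ T) ≠ ⊥) : Ctx T L ∧ K ⊔ T ≤ L := by
  have hTP : K ⊔ T ≤ normalizer (Cfsg.pCoreOf 2 (K ⊔ T) : Set G) := le_normalizer_pCoreOf 2 _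
  have hle : K ⊔ T ≤ L := hTP.trans (hmax _ ⟨_, isPGroup_pCoreOf 2 _, hP, rfl⟩
    ((sup_le_sup_left (CfsgLib.PLocal.thompsonSubgroupOf_le 2 T) K).trans hTP))
  exact ⟨d.of_le hL (fun h => hK.notle ((le_sup_left.trans hKL).trans h)) (le_sup_right.trans hle),
    hle⟩

end Straddle

end CfsgLib.JComp
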