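import Cfsg.Agent.JComp.PairBasic

/-!
If the fixed point of `T` in `W₂` is not centralised by `K₁`, the two four-groups do not commute.
-/

set_option autoImplicit false

namespace CfsgLib.JComp

open Subgroup
open scoped IsMulCommutative

variable {G : Type*} [Group G]

/-- The elements normalising `Z` moved by `q` only inside `Z`. -/
def movesInto (q : G) (Z : Subgroup G) : Subgroup G where
  carrier := {u | u ∈ normalizer (Z : Set G) ∧ q * u * q⁻¹ * u⁻¹ ∈ Z}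
  one_mem' := ⟨one_mem _, by simp⟩
  mul_mem' := by
    rintro u v ⟨hu, hu'⟩ ⟨hv, hv'⟩
    refine ⟨mul_mem hu hv, ?_⟩
    have h := Z.mul_mem hu' ((mem_normalizer_iff.mp hu _).mp hv')
    have e : q * (u * v) * q⁻¹ * (u * v)⁻¹ =
        q * u * q⁻¹ * u⁻¹ * (u * (q * v * q⁻¹ * v⁻¹) * u⁻¹) := by group
    rwa [e]
  inv_mem' := by
    rintro u ⟨hu, hu'⟩
    refine ⟨inv_mem hu, ?_⟩
    have h := Z.inv_mem ((mem_normalizer_iff.mp (inv_mem hu) _).mp hu')
    have e : q * u⁻¹ * q⁻¹ * u⁻¹⁻¹ = (u⁻¹ * (q * u * q⁻¹ * u⁻¹) * u⁻¹⁻¹)⁻¹ := by group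
    rwa [e]

theorem mem_movesInto {q u : G} {Z : Subgroup G} :
    u ∈ movesInto q Z ↔ u ∈ normalizer (Z : Set G) ∧ q * u * q⁻¹ * u⁻¹ ∈ Z := Iff.rfl

/-- Two elements moving one another by different central involutions commute. -/
theorem commute_of_moves {x y p r : G} (hx : x * y * x⁻¹ = y ∨ x * y * x⁻¹ = y * p)
    (hy : y * x * y⁻¹ = x ∨ y * x * y⁻¹ = x * r) (hp : y * p = p * y) (hr : x * r = r * x)
    (hr2 : r * r = 1) (hne : p ≠ r) : x * y = y * x := by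
  rcases hy with e' | e'
  · exact (mul_inv_eq_iff_eq_mul.mp e').symm
  rcases hx with e | e
  · exact mul_inv_eq_iff_eq_mul.mp e
  exfalso
  apply hne
  calc p = y * p * y⁻¹ := by rw [hp, mul_inv_cancel_right]
    _ = x * y * x⁻¹ * y⁻¹ := by rw [e]
    _ = x * (y * x * y⁻¹)⁻¹ := by group
    _ = x * r⁻¹ * x⁻¹ := by rw [e']; group
    _ = r := by rw [inv_eq_of_mul_eq_one_right hr2, hr, mul_inv_cancel_right]

variable [Finite G]

theorem two_mul_card_le_of_mem {H K : Subgroup G} (hle : H ≤ K) {x : G} (hx : x ∈ K) (hxn : x ∉ H) :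
    2 * Nat.card H ≤ Nat.card K := by
  have h := CfsgLib.PLocal.card_mul_relIndex hle
  have h1 : H.relIndex K ≠ 1 := fun e => hxn (relIndex_eq_one.mp e hx)
  have h0 : H.relIndex K ≠ 0 := show (H.subgroupOf K).index ≠ 0 from index_ne_zero_of_finite
  rw [← h, mul_comm 2]
  exact Nat.mul_le_mul_left _ (by omega)

theorem card_le_two_mul {H K : Subgroup G} (hle : H ≤ K)
    (h : ∀ x ∈ K, ∀ y ∈ K, x ∉ H → y ∉ H → x⁻¹ * y ∈ H) : Nat.card K ≤ 2 * Nat.card H := by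
  by_cases hK : K ≤ H
  · have := Subgroup.card_le_of_le hK
    omega
  obtain ⟨x, hx, hxn⟩ := SetLike.not_le_iff_exists.mp hK
  have h2 : (H.subgroupOf K).index = 2 := by
    rw [index_eq_two_iff']
    refine ⟨⟨x, hx⟩, fun b => ?_⟩
    rw [xor_comm]
    by_cases hb : (b : G) ∈ H
    · exact Or.inl ⟨hb, fun h' => hxn
        ((Subgroup.mul_mem_cancel_right H hb).mp (mem_subgroupOf.mp h'))⟩
    · refine Or.inr ⟨mem_subgroupOf.mpr ?_, fun h' => hb h'⟩
      have h1 := h x⁻¹ (K.inv_mem hx) b b.2 (fun h' => hxn (by simpa using H.inv_mem h')) hb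
      rw [inv_inv] at h1
      exact h1
  have h3 := CfsgLib.PLocal.card_mul_relIndex hle
  rw [show H.relIndex K = (H.subgroupOf K).index from rfl, h2] at h3
  omega

variable {T K₁ K₂ L₁ L₂ : Subgroup G}

namespace Pair

/-- `C_T(W₁)` does not centralise `W₂`. -/
theorem exists_mem_cw_not_mem (p : Pair T K₁ K₂ L₁ L₂) : ∃ q ∈ cw T K₁, q ∉ cw T K₂ := by
  by_contra hno
  push Not at hno
  have h1 := p.one.card_T p.T_le_normalizer
  have h2 := p.two.card_T p.symm.T_le_normalizer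
  have he : cw T K₁ = cw T K₂ := Subgroup.eq_of_le_of_card_ge hno (by omega)
  have hb : cw T K₁ ≤ Cfsg.pCoreOf 2 ((K₁ ⊔ T) ⊔ (K₂ ⊔ T)) :=
    le_pCoreOf (inf_le_left.trans (le_sup_right.trans le_sup_left))
      (sup_le (p.one.sup_le_normalizer_cw p.T_le_normalizer)
        (he ▸ p.two.sup_le_normalizer_cw p.symm.T_le_normalizer))
      (p.one.ctx.isPGroup.to_le inf_le_left)
  rw [p.core_eq_bot, le_bot_iff] at hb
  obtain ⟨w, hw, hw1⟩ := p.one.exists_w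
  exact hw1 (mem_bot.mp (hb ▸ p.jZ_le_cw hw.1))

/-- If `w₂` is not centralised by `K₁` then `W₁`, `W₂` do not commute. -/
theorem not_commute_of_not_mem (p : Pair T K₁ K₂ L₁ L₂) {w₂ : G} (hw₂ : w₂ ∈ jZ T ⊓ Cfsg.wOf K₂)
    (hn : w₂ ∉ cen T K₁) : ¬ Cfsg.wOf K₁ ≤ centralizer (Cfsg.wOf K₂ : Set G) := by
  intro hcomm
  set m := p.one
  have hTK := p.T_le_normalizer
  set C := cw T K₁ with hC
  set W := Cfsg.wOf K₁ with hW
  obtain ⟨S, k, d⟩ := exists_compData m.ctx.isPGroup m.comp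
  obtain ⟨w₁, hw₁, hw₁1⟩ := m.exists_w
  have hw₂1 : w₂ ≠ 1 := fun e => hn (e ▸ one_mem _)
  have hWC : W ≤ C := le_inf m.wOf_le_T (le_centralizer_iff_isMulCommutative.mpr d.wOf_elem.1)
  have hW₂C : Cfsg.wOf K₂ ≤ C := le_inf p.two.wOf_le_T fun x hx => mem_centralizer_iff.mpr fun v hv =>
    (mem_centralizer_iff.mp (hcomm hv) x hx).symm
  have hZC : jZ T ≤ C := p.jZ_le_cw
  have hkP : k ∈ K₁ ⊔ T := mem_sup_left d.memk
  have hkC : ∀ {q : G}, q ∈ C → k * q * k⁻¹ ∈ C := fun {q} hq =>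
    (mem_normalizer_iff.mp (m.sup_le_normalizer_cw hTK hkP) q).mp hq
  have hkC' : ∀ {q : G}, q ∈ C → k⁻¹ * q * k ∈ C := fun {q} hq => by
    have h := (mem_normalizer_iff.mp (m.sup_le_normalizer_cw hTK (inv_mem hkP)) q).mp hq
    rwa [inv_inv] at h
  -- `w₂ = e w₁`
  obtain ⟨e, he, hew⟩ : ∃ e ∈ cen T K₁, e * w₁ = w₂ := by
    have h : w₂ ∈ cen T K₁ ⊔ (jZ T ⊓ W) := (cen_sup_eq m.ctx.isPGroup m.comp).ge hw₂.1
    rw [← SetLike.mem_coe, coe_mul_of_left_le_normalizer_right _ _ (fun z (hz : z ∈ cen T K₁) =>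
      Subgroup.centralizer_le_normalizer _ (mem_centralizer_iff.mpr fun v (hv : v ∈ jZ T ⊓ W) =>
        mem_centralizer_iff.mp (p.jZ_le_centralizer hz.1) v (p.jZ_le_T hv.1)))] at h
    obtain ⟨e, he, x, hx, hex⟩ := h
    replace hex : e * x = w₂ := hex
    rcases eq_one_or_eq_of_card_two (card_jZ_inf_wOf m.ctx.isPGroup m.comp) hw₁ hw₁1 hx with f | f
    · exact absurd (by rw [← hex, f, mul_one]; exact he) hn
    · exact ⟨e, he, by rw [← f]; exact hex⟩
  have hke : k * e * k⁻¹ = e := by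
    rw [mem_centralizer_iff.mp he.2 k (mem_sup_left d.memk), mul_inv_cancel_right]
  set u₁ := k * w₁ * k⁻¹ with hu₁
  have hu₁W : u₁ ∈ W := d.mem_conj_wOf (mem_sup_left d.memk) hw₁.2
  have hu₁ne : u₁ ≠ w₁ := fun h => hw₁1 (d.fpf w₁ hw₁.2 h)
  have hu₁Z : u₁ ∉ jZ T := fun h => by
    rcases eq_one_or_eq_of_card_two (card_jZ_inf_wOf m.ctx.isPGroup m.comp) hw₁ hw₁1
      (show u₁ ∈ jZ T ⊓ W from ⟨h, hu₁W⟩) with f | f
    · exact hw₁1 (conj_eq_one_iff.mp f)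
    · exact hu₁ne f
  set p₁ := k * w₂ * k⁻¹ with hp₁
  have hp₁e : p₁ = e * u₁ := by
    calc p₁ = k * e * k⁻¹ * (k * w₁ * k⁻¹) := by rw [hp₁, ← hew]; group
      _ = e * u₁ := by rw [hke]
  -- the central part
  set W' := W ⊔ jZ T with hW'
  have hW'C : W' ≤ C := sup_le hWC hZC
  have hW'c : W' ≤ centralizer (C : Set G) := sup_le
    (fun v hv => mem_centralizer_iff.mpr fun q hq => (mem_centralizer_iff.mp hq.2 v hv).symm)
    (fun v hv => centralizer_le inf_le_left (p.jZ_le_centralizer hv))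
  have hCW' : ∀ q ∈ C, ∀ v ∈ W', q * v * q⁻¹ = v := fun q hq v hv => by
    rw [mem_centralizer_iff.mp (hW'c hv) q hq, mul_inv_cancel_right]
  have hTW' : T ≤ normalizer (W' : Set G) := fun t ht => mem_normalizer_iff_map_conj_eq.mpr (by
    show W'.map (MulAut.conj t).toMonoidHom = W'
    rw [hW', Subgroup.map_sup]
    exact congrArg₂ _
      (mem_normalizer_iff_map_conj_eq.mp (normalizer_le_normalizer_wOf K₁ (hTK ht)))
      (mem_normalizer_iff_map_conj_eq.mp (normalizer_le_normalizer_omegaCenterOf _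
        (CfsgLib.PLocal.normalizer_le_normalizer_thompsonSubgroupOf 2 T (le_normalizer ht)))))
  have hp₁W' : p₁ ∈ W' := hp₁e ▸ mul_mem (mem_sup_right he.1) (mem_sup_left hu₁W)
  have hw₂W' : w₂ ∈ W' := mem_sup_right hw₂.1
  -- a member moving `W₁`
  obtain ⟨A, hA, hmove⟩ := d.exists_moving
  obtain ⟨a, ha, hac⟩ := SetLike.not_le_iff_exists.mp hmove
  have haT : a ∈ T := hA.1 ha
  have haC : a ∉ C := fun h => hac h.2
  have haa : a * a = 1 := by simpa [pow_two] using hA.2.1.2 a ha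
  have hai : a⁻¹ = a := inv_eq_of_mul_eq_one_right haa
  have haC' : ∀ {q : G}, q ∈ C → a * q * a⁻¹ ∈ C := fun {q} hq =>
    (mem_normalizer_iff.mp (m.sup_le_normalizer_cw hTK (mem_sup_right haT)) q).mp hq
  set p₂ := a * p₁ * a⁻¹ with hp₂
  have hp₂W' : p₂ ∈ W' := (mem_normalizer_iff.mp (hTW' haT) p₁).mp hp₁W'
  have hw₂c : ∀ t ∈ T, t * w₂ * t⁻¹ = w₂ := fun t ht => by
    rw [mem_centralizer_iff.mp (p.jZ_le_centralizer hw₂.1) t ht, mul_inv_cancel_right]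
  have hW'2 : ∀ v ∈ W', v * v = 1 := fun v hv => by
    have hel : Cfsg.IsElementaryAbelian 2 W' := CfsgLib.PLocal.isElementaryAbelian_sup d.wOf_elem
      (isElementaryAbelian_omegaCenterOf _) (fun x hx => mem_centralizer_iff.mpr fun z hz =>
        (mem_centralizer_iff.mp (p.jZ_le_centralizer hz) x (m.wOf_le_T hx)).symm)
    simpa [pow_two] using hel.2 v hv
  have hp₁ne : p₁ ≠ w₂ := fun h => hu₁ne (mul_left_cancel (hp₁e.symm.trans (h.trans hew.symm)))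
  have hp₁1 : p₁ ≠ 1 := fun h => hw₂1 (conj_eq_one_iff.mp h)
  have hp₂1 : p₂ ≠ 1 := fun h => hp₁1 (conj_eq_one_iff.mp h)
  have hp₂ne : p₂ ≠ w₂ := fun h => hp₁ne (mul_left_cancel (mul_right_cancel
    (show a * p₁ * a⁻¹ = a * w₂ * a⁻¹ from h.trans (hw₂c a haT).symm)))
  have hp₁₂ : p₁ ≠ p₂ := fun h => by
    apply haC
    refine m.mem_cw_of_fix hTK haT hu₁W hu₁Z ?_
    have hae : a * e * a⁻¹ = e := by
      rw [mem_centralizer_iff.mp (p.jZ_le_centralizer he.1) a haT, mul_inv_cancel_right]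
    have h1 : a * (e * u₁) * a⁻¹ = e * u₁ := by rw [← hp₁e]; exact h.symm
    have h2 : a * e * a⁻¹ * (a * u₁ * a⁻¹) = e * u₁ := by rw [← h1]; group
    rw [hae] at h2
    exact mul_left_cancel h2
  -- the three neighbours
  obtain ⟨c₀, hc₀, hc₀Z⟩ := p.two.exists_v
  set c₁ := k * c₀ * k⁻¹ with hc₁
  set c₂ := a * c₁ * a⁻¹ with hc₂
  have hc₀C : c₀ ∈ C := hW₂C hc₀
  have hc₁C : c₁ ∈ C := hkC hc₀C
  have hc₂C : c₂ ∈ C := haC' hc₁C
  have hm₀ : ∀ t ∈ T, t * c₀ * t⁻¹ = c₀ ∨ t * c₀ * t⁻¹ = c₀ * w₂ := fun t ht =>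
    p.two.conj_cases p.symm.T_le_normalizer ht hw₂ hw₂1 hc₀ hc₀Z
  have hm₁ : ∀ q ∈ C, q * c₁ * q⁻¹ = c₁ ∨ q * c₁ * q⁻¹ = c₁ * p₁ := by
    intro q hq
    have h1 : q * c₁ * q⁻¹ = k * ((k⁻¹ * q * k) * c₀ * (k⁻¹ * q * k)⁻¹) * k⁻¹ := by
      rw [hc₁]; group
    rcases hm₀ _ (hkC' hq).1 with f | f
    · left; rw [h1, f]
    · right; rw [h1, f, hc₁, hp₁]; group
  have hm₂ : ∀ q ∈ C, q * c₂ * q⁻¹ = c₂ ∨ q * c₂ * q⁻¹ = c₂ * p₂ := by
    intro q hq
    have hq' : a⁻¹ * q * a ∈ C := by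
      have := haC' hq
      rwa [hai] at this ⊢
    have h1 : q * c₂ * q⁻¹ = a * ((a⁻¹ * q * a) * c₁ * (a⁻¹ * q * a)⁻¹) * a⁻¹ := by
      rw [hc₂]; group
    rcases hm₁ _ hq' with f | f
    · left; rw [h1, f]
    · right; rw [h1, f, hc₂, hp₂]; group
  obtain ⟨q₀, hq₀, hq₀n⟩ := p.exists_mem_cw_not_mem
  have hq₀m : q₀ * c₀ * q₀⁻¹ = c₀ * w₂ := (hm₀ q₀ hq₀.1).resolve_left fun h =>
    hq₀n (p.two.mem_cw_of_fix p.symm.T_le_normalizer hq₀.1 hc₀ hc₀Z h)
  obtain ⟨q₁, hq₁, hq₁m⟩ : ∃ q ∈ C, q * c₁ * q⁻¹ = c₁ * p₁ := by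
    refine ⟨k * q₀ * k⁻¹, hkC hq₀, ?_⟩
    calc k * q₀ * k⁻¹ * c₁ * (k * q₀ * k⁻¹)⁻¹ = k * (q₀ * c₀ * q₀⁻¹) * k⁻¹ := by rw [hc₁]; group
      _ = c₁ * p₁ := by rw [hq₀m, hc₁, hp₁]; group
  obtain ⟨q₂, hq₂, hq₂m⟩ : ∃ q ∈ C, q * c₂ * q⁻¹ = c₂ * p₂ := by
    refine ⟨a * q₁ * a⁻¹, haC' hq₁, ?_⟩
    calc a * q₁ * a⁻¹ * c₂ * (a * q₁ * a⁻¹)⁻¹ = a * (q₁ * c₁ * q₁⁻¹) * a⁻¹ := by rw [hc₂]; group
      _ = c₂ * p₂ := by rw [hq₁m, hc₂, hp₂]; group
  have hCc : ∀ {x y : G}, x ∈ C → y ∈ W' → x * y = y * x := fun {x y} hx hy =>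
    mem_centralizer_iff.mp (hW'c hy) x hx
  have h01 : c₀ * c₁ = c₁ * c₀ := commute_of_moves (hm₁ c₀ hc₀C) (hm₀ c₁ hc₁C.1)
    (hCc hc₁C hp₁W') (hCc hc₀C hw₂W') (hW'2 _ hw₂W') hp₁ne
  have h02 : c₀ * c₂ = c₂ * c₀ := commute_of_moves (hm₂ c₀ hc₀C) (hm₀ c₂ hc₂C.1)
    (hCc hc₂C hp₂W') (hCc hc₀C hw₂W') (hW'2 _ hw₂W') hp₂ne
  have h12 : c₁ * c₂ = c₂ * c₁ := commute_of_moves (hm₂ c₁ hc₁C) (hm₁ c₂ hc₂C)
    (hCc hc₂C hp₂W') (hCc hc₁C hp₁W') (hW'2 _ hp₁W') hp₁₂.symm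
  -- the elementary subgroup `U`
  set U := W' ⊔ zpowers c₀ ⊔ zpowers c₁ ⊔ zpowers c₂ with hU
  have hW'U : W' ≤ U := le_sup_left.trans (le_sup_left.trans le_sup_left)
  have hc₀U : c₀ ∈ U := mem_sup_left (mem_sup_left (mem_sup_right (mem_zpowers _)))
  have hc₁U : c₁ ∈ U := mem_sup_left (mem_sup_right (mem_zpowers _))
  have hc₂U : c₂ ∈ U := mem_sup_right (mem_zpowers _)
  have hUC : U ≤ C := sup_le (sup_le (sup_le hW'C (zpowers_le.mpr hc₀C)) (zpowers_le.mpr hc₁C))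
    (zpowers_le.mpr hc₂C)
  have hc₀2 : c₀ * c₀ = 1 := p.two.comp.2.2.2.2.2 c₀ hc₀
  have hc₁2 : c₁ * c₁ = 1 := by
    calc c₁ * c₁ = k * (c₀ * c₀) * k⁻¹ := by rw [hc₁]; group
      _ = 1 := by rw [hc₀2]; group
  have hc₂2 : c₂ * c₂ = 1 := by
    calc c₂ * c₂ = a * (c₁ * c₁) * a⁻¹ := by rw [hc₂]; group
      _ = 1 := by rw [hc₁2]; group
  have hW'el : Cfsg.IsElementaryAbelian 2 W' := CfsgLib.PLocal.isElementaryAbelian_sup d.wOf_elem
      (isElementaryAbelian_omegaCenterOf _) (fun x hx => mem_centralizer_iff.mpr fun z hz =>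
        (mem_centralizer_iff.mp (p.jZ_le_centralizer hz) x (m.wOf_le_T hx)).symm)
  have hcz : ∀ {H : Subgroup G} {c : G}, (∀ x ∈ H, c * x = x * c) →
      H ≤ centralizer (zpowers c : Set G) := fun {H c} h x hx => mem_centralizer_iff.mpr fun y hy => by
    obtain ⟨n, rfl⟩ := mem_zpowers_iff.mp hy
    exact (Commute.zpow_left (h x hx) n).eq
  have hsup : ∀ {H H' : Subgroup G} {c : G}, (∀ x ∈ H, c * x = x * c) → (∀ x ∈ H', c * x = x * c) →
      ∀ x ∈ H ⊔ H', c * x = x * c := fun {H H' c} h h' x hx =>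
    (mem_centralizer_singleton_iff.mp
      ((sup_le (fun y hy => mem_centralizer_singleton_iff.mpr (h y hy).symm)
        (fun y hy => mem_centralizer_singleton_iff.mpr (h' y hy).symm) :
          H ⊔ H' ≤ centralizer ({c} : Set G)) hx)).symm
  have hcyc : ∀ {c c' : G}, c * c' = c' * c → ∀ x ∈ zpowers c', c * x = x * c := fun {c c'} h x hx => by
    obtain ⟨n, rfl⟩ := mem_zpowers_iff.mp hx
    exact (Commute.zpow_right h n).eq
  have hUel : Cfsg.IsElementaryAbelian 2 U := by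
    have hz : ∀ {c : G}, c * c = 1 → Cfsg.IsElementaryAbelian 2 (zpowers c) := fun {c} h =>
      CfsgLib.PLocal.isElementaryAbelian_zpowers (by rw [pow_two]; exact h)
    refine CfsgLib.PLocal.isElementaryAbelian_sup (CfsgLib.PLocal.isElementaryAbelian_sup
      (CfsgLib.PLocal.isElementaryAbelian_sup hW'el (hz hc₀2) (hcz fun x hx => hCc hc₀C hx))
      (hz hc₁2) (hcz (hsup (fun x hx => hCc hc₁C hx) (hcyc h01.symm)))) (hz hc₂2)
      (hcz (hsup (hsup (fun x hx => hCc hc₂C hx) (hcyc h02.symm)) (hcyc h12.symm)))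
  -- maximality of `A`
  set F := U ⊓ centralizer (A : Set G) with hF
  set AU := A ⊓ centralizer (U : Set G) with hAU
  have hmax : Nat.card AU * Nat.card U ≤ Nat.card A * Nat.card F := by
    have hel := CfsgLib.PLocal.isElementaryAbelian_sup
      (CfsgLib.PLocal.isElementaryAbelian_of_le hA.2.1 (inf_le_left : AU ≤ A)) hUel inf_le_right
    have h1 := hA.2.2 _ (sup_le (inf_le_left.trans hA.1) (hUC.trans inf_le_left)) hel
    have h2 := Ctx.img_le_closure.card_sup_mul_card_inf AU U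
      ((inf_le_right : AU ≤ centralizer (U : Set G)).trans (Subgroup.centralizer_le_normalizer _))
    have h3 : Nat.card ↥(AU ⊓ U) ≤ Nat.card F := Subgroup.card_le_of_le fun x hx =>
      ⟨hx.2, le_centralizer_iff_isMulCommutative.mpr hA.2.1.1 hx.1.1⟩
    rw [← h2]
    exact Nat.mul_le_mul h1 h3
  set B := A ⊓ C with hB
  set B₀ := B ⊓ centralizer ({c₀} : Set G) with hB₀
  set B₁ := B₀ ⊓ centralizer ({c₁} : Set G) with hB₁
  have hA2 : Nat.card A ≤ 2 * Nat.card B := card_le_two_mul inf_le_left fun x hx y hy hxn hyn =>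
    ⟨A.mul_mem (A.inv_mem hx) hy, m.inv_mul_mem_cw hTK (hA.1 hx) (hA.1 hy) (fun h => hxn ⟨hx, h⟩)
      (fun h => hyn ⟨hy, h⟩)⟩
  have hfix₂ : ∀ b ∈ A, b * c₁ * b⁻¹ = c₁ → b * c₂ * b⁻¹ = c₂ := fun b hb h => by
    have hab : b * a = a * b := le_centralizer_iff_isMulCommutative.mpr hA.2.1.1 ha b hb
    calc b * c₂ * b⁻¹ = (b * a) * c₁ * (b * a)⁻¹ := by rw [hc₂]; group
      _ = a * (b * c₁ * b⁻¹) * a⁻¹ := by rw [hab]; group
      _ = c₂ := by rw [h, hc₂]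
  have hfix : ∀ {b c : G}, b ∈ centralizer ({c} : Set G) ↔ b * c * b⁻¹ = c := fun {b c} =>
    ⟨fun h => by rw [mem_centralizer_singleton_iff.mp h, mul_inv_cancel_right],
      fun h => mem_centralizer_singleton_iff.mpr (mul_inv_eq_iff_eq_mul.mp h)⟩
  have hB₁AU : B₁ ≤ AU := by
    rintro b ⟨⟨⟨hbA, hbC⟩, hb0⟩, hb1⟩
    refine ⟨hbA, ?_⟩
    have hle : U ≤ centralizer ({b} : Set G) := by
      refine sup_le (sup_le (sup_le (fun v hv => mem_centralizer_singleton_iff.mpr (hCc hbC hv).symm)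
        ?_) ?_) ?_ <;> rw [zpowers_le, mem_centralizer_singleton_iff]
      · exact (mem_centralizer_singleton_iff.mp hb0).symm
      · exact (mem_centralizer_singleton_iff.mp hb1).symm
      · exact (mem_centralizer_singleton_iff.mp (hfix.mpr (hfix₂ b hbA (hfix.mp hb1)))).symm
    exact mem_centralizer_iff.mpr fun v hv => mem_centralizer_singleton_iff.mp (hle hv)
  have hB2 : ∀ {H : Subgroup G} (c r : G), H ≤ B →
      (∀ q ∈ C, q * c * q⁻¹ = c ∨ q * c * q⁻¹ = c * r) →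
        Nat.card H ≤ 2 * Nat.card ↥(H ⊓ centralizer ({c} : Set G)) := by
    intro H c r hHB hcase
    refine card_le_two_mul inf_le_left fun x hx y hy hxn hyn => ⟨H.mul_mem (H.inv_mem hx) hy, ?_⟩
    have fx := (hcase x (hHB hx).2).resolve_left fun h => hxn ⟨hx, hfix.mpr h⟩
    have fy := (hcase y (hHB hy).2).resolve_left fun h => hyn ⟨hy, hfix.mpr h⟩
    refine hfix.mpr ?_
    calc x⁻¹ * y * c * (x⁻¹ * y)⁻¹ = x⁻¹ * (y * c * y⁻¹) * x := by group
      _ = x⁻¹ * (x * c * x⁻¹) * x := by rw [fx, fy]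
      _ = c := by group
  -- the subgroups below `U`
  have hmoved : ∀ {b c r : G}, b ∈ A → b * c * b⁻¹ = c * r → r ≠ 1 → ∀ {H : Subgroup G},
      H ≤ F ⊔ W' → b ∈ C → c ∉ H := by
    intro b c r hb hbc hr H hH hbC hc
    apply hr
    have hle : F ⊔ W' ≤ centralizer ({b} : Set G) := sup_le
      (fun v hv => mem_centralizer_singleton_iff.mpr
        (mem_centralizer_iff.mp hv.2 b hb).symm)
      (fun v hv => mem_centralizer_singleton_iff.mpr (hCc hbC hv).symm)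
    rw [← mem_centralizer_singleton_iff.mp (hle (hH hc)), mul_inv_cancel_right] at hbc
    exact mul_eq_left.mp hbc.symm
  set Y := W' ⊔ zpowers c₀ ⊔ zpowers (c₁ * c₂) with hY
  have hYU : Y ≤ U := sup_le (sup_le hW'U (zpowers_le.mpr hc₀U))
    (zpowers_le.mpr (mul_mem hc₁U hc₂U))
  have hsep : ∀ {c r q : G}, q ∈ C → q * c * q⁻¹ = c * r → r ≠ 1 → r ≠ w₂ → c ∈ C →
      c ∉ W' ⊔ zpowers c₀ := by
    intro c r q hq hqc hr1 hr hcC hc
    have hle : W' ⊔ zpowers c₀ ≤ movesInto q (zpowers w₂) := by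
      have hN : ∀ {u : G}, u ∈ C → u ∈ normalizer (zpowers w₂ : Set G) := fun {u} hu =>
        Subgroup.centralizer_le_normalizer _ (mem_centralizer_iff.mpr fun z hz => by
          obtain ⟨n, rfl⟩ := mem_zpowers_iff.mp hz
          exact (Commute.zpow_left (mem_centralizer_iff.mp (p.jZ_le_centralizer hw₂.1) u hu.1).symm n).eq)
      refine sup_le (fun v hv => ⟨hN (hW'C hv), ?_⟩) (zpowers_le.mpr ⟨hN hc₀C, ?_⟩)
      · rw [hCW' q hq v hv, mul_inv_cancel]; exact one_mem _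
      · rcases hm₀ q hq.1 with f | f
        · rw [f, mul_inv_cancel]; exact one_mem _
        · rw [f, hCc hc₀C hw₂W', mul_inv_cancel_right]; exact mem_zpowers _
    have h1 := (mem_movesInto.mp (hle hc)).2
    rw [hqc] at h1
    have hrW : c * r * c⁻¹ = r := by
      have h2 := h1
      obtain ⟨n, hn⟩ := mem_zpowers_iff.mp h2
      have h3 : c * (c * r * c⁻¹) = (c * r * c⁻¹) * c := by
        rw [← hn]
        exact ((Commute.zpow_right (hCc hcC hw₂W') n)).eq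
      calc c * r * c⁻¹ = c⁻¹ * (c * (c * r * c⁻¹)) := by group
        _ = r := by rw [h3]; group
    rw [hrW] at h1
    rcases eq_one_or_eq_of_card_two (H := zpowers w₂) (by
      rw [Nat.card_zpowers]
      exact orderOf_eq_prime (by rw [pow_two]; exact hW'2 _ hw₂W') hw₂1) (mem_zpowers w₂) hw₂1 h1 with
      f | f
    · exact hr1 f
    · exact hr f
  have hc12W' : c₁ * c₂ ∉ W' := by
    intro h
    have h1 := hCW' q₁ hq₁ _ h
    have e : q₁ * c₁ * q₁⁻¹ * (q₁ * c₂ * q₁⁻¹) = c₁ * c₂ := by rw [← h1]; group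
    rw [hq₁m] at e
    rcases hm₂ q₁ hq₁ with f | f
    · rw [f, mul_left_inj, mul_eq_left] at e
      exact hp₁1 e
    · rw [f] at e
      apply hp₁₂
      have e' : c₁ * c₂ * (p₁ * p₂) = c₁ * c₂ := by
        calc c₁ * c₂ * (p₁ * p₂) = c₁ * (c₂ * p₁) * p₂ := by group
          _ = c₁ * p₁ * (c₂ * p₂) := by rw [hCc hc₂C hp₁W']; group
          _ = _ := e
      rw [mul_eq_left, mul_eq_one_iff_eq_inv, inv_eq_of_mul_eq_one_right (hW'2 _ hp₂W')] at e'
      exact e'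
  have hc₁Y : c₁ ∉ Y := by
    intro h
    rw [hY, ← SetLike.mem_coe, coe_mul_of_left_le_normalizer_right _ _ (fun x hx => by
      refine Subgroup.centralizer_le_normalizer _ (hcz ?_ hx)
      intro v hv
      exact le_centralizer_iff_isMulCommutative.mpr hUel.1
        ((sup_le hW'U (zpowers_le.mpr hc₀U) : W' ⊔ zpowers c₀ ≤ U) hv) _ (mul_mem hc₁U hc₂U))] at h
    obtain ⟨x, hx, y, hy, hxy⟩ := h
    replace hxy : x * y = c₁ := hxy
    obtain ⟨n, rfl⟩ := mem_zpowers_iff.mp hy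
    have h2 : (c₁ * c₂) ^ 2 = 1 := hUel.2 _ (mul_mem hc₁U hc₂U)
    rcases Int.even_or_odd n with ⟨j, hj⟩ | ⟨j, hj⟩
    · rw [hj, ← two_mul, zpow_mul, show (2 : ℤ) = ((2 : ℕ) : ℤ) from rfl, zpow_natCast, h2, one_zpow,
        mul_one] at hxy
      exact hsep hq₁ hq₁m hp₁1 hp₁ne hc₁C (hxy ▸ hx)
    · rw [hj, zpow_add, zpow_mul, show (2 : ℤ) = ((2 : ℕ) : ℤ) from rfl, zpow_natCast, h2, one_zpow,
        one_mul, zpow_one] at hxy
      refine hsep hq₂ hq₂m hp₂1 hp₂ne hc₂C ?_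
      have : c₂ = x⁻¹ := by
        refine eq_inv_of_mul_eq_one_right (mul_left_cancel (a := c₁) ?_)
        calc c₁ * (x * c₂) = x * (c₁ * c₂) := by
              rw [← mul_assoc, le_centralizer_iff_isMulCommutative.mpr hUel.1
                ((sup_le hW'U (zpowers_le.mpr hc₀U) : W' ⊔ zpowers c₀ ≤ U) hx) c₁ hc₁U, mul_assoc]
          _ = c₁ * 1 := by rw [mul_one]; exact hxy
      rw [this]
      exact inv_mem hx
  have hFY : F ≤ Y := by
    intro u hu
    have hYn : ∀ y ∈ Y, y ∈ movesInto a W' := by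
      have hN : ∀ {u : G}, u ∈ C → u ∈ normalizer (W' : Set G) := fun {u} hu => hTW' hu.1
      refine fun y hy => (sup_le (sup_le (fun v hv => ⟨hN (hW'C hv), ?_⟩)
        (zpowers_le.mpr ⟨hN hc₀C, ?_⟩)) (zpowers_le.mpr ⟨hN (mul_mem hc₁C hc₂C), ?_⟩) :
          Y ≤ movesInto a W') hy
      · exact mul_mem ((mem_normalizer_iff.mp (hTW' haT) v).mp hv) (inv_mem hv)
      · rcases hm₀ a haT with f | f
        · rw [f, mul_inv_cancel]; exact one_mem _
        · rw [f, hCc hc₀C hw₂W', mul_inv_cancel_right]; exact hw₂W'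
      · have : a * (c₁ * c₂) * a⁻¹ = c₁ * c₂ := by
          calc a * (c₁ * c₂) * a⁻¹ = (a * c₁ * a⁻¹) * (a * a * c₁ * (a * a)⁻¹) := by
                rw [hc₂]; group
            _ = c₁ * c₂ := by rw [haa, one_mul, inv_one, mul_one, ← hc₂, h12]
        rw [this, mul_inv_cancel]; exact one_mem _
    by_contra hun
    have hdec : U ≤ Y ⊔ zpowers c₁ := by
      refine sup_le (sup_le (sup_le (le_sup_left.trans (le_sup_left.trans le_sup_left))
        ((le_sup_right.trans le_sup_left).trans le_sup_left)) le_sup_right) (zpowers_le.mpr ?_)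
      have h := mul_mem (mem_sup_right (mem_zpowers c₁) : c₁ ∈ Y ⊔ zpowers c₁)
        (mem_sup_left (mem_sup_right (mem_zpowers (c₁ * c₂))))
      rwa [← mul_assoc, hc₁2, one_mul] at h
    have huU := hdec hu.1
    rw [← SetLike.mem_coe, coe_mul_of_left_le_normalizer_right _ _ (fun x hx => by
      refine Subgroup.centralizer_le_normalizer _ (hcz ?_ hx)
      intro v hv
      exact le_centralizer_iff_isMulCommutative.mpr hUel.1 (hYU hv) _ hc₁U)] at huU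
    obtain ⟨y, hy, x, hx, hyx⟩ := huU
    replace hyx : y * x = u := hyx
    rcases eq_one_or_eq_of_card_two (H := zpowers c₁) (by
      rw [Nat.card_zpowers]
      exact orderOf_eq_prime (by rw [pow_two]; exact hc₁2)
        (fun h => hc₁Y (h ▸ one_mem _))) (mem_zpowers c₁) (fun h => hc₁Y (h ▸ one_mem _)) hx with f | f
    · rw [f, mul_one] at hyx
      exact hun (hyx ▸ hy)
    · apply hc12W'
      rw [f] at hyx
      have hau : a * u * a⁻¹ = u := by
        rw [mem_centralizer_iff.mp hu.2 a ha, mul_inv_cancel_right]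
      have h1 : a * y * a⁻¹ * c₂ = y * c₁ := by
        rw [hc₂, hyx, ← hau, ← hyx]; group
      have h2 := (mem_movesInto.mp (hYn y hy)).2
      have hyU := hYU hy
      have hay : a * y * a⁻¹ * y⁻¹ ∈ U := hW'U h2
      have h3 : c₁ * c₂ = (a * y * a⁻¹ * y⁻¹)⁻¹ := by
        refine eq_inv_of_mul_eq_one_right ?_
        have hc := le_centralizer_iff_isMulCommutative.mpr hUel.1
        calc a * y * a⁻¹ * y⁻¹ * (c₁ * c₂) = a * y * a⁻¹ * (c₂ * (c₁ * y⁻¹)) := by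
              rw [mul_assoc, hc (mul_mem hc₁U hc₂U) _ (inv_mem hyU), h12]; group
          _ = (a * y * a⁻¹ * c₂) * (c₁ * y⁻¹) := by group
          _ = y * (c₁ * c₁) * y⁻¹ := by rw [h1]; group
          _ = 1 := by rw [hc₁2]; group
      rw [h3]
      exact inv_mem h2
  -- counting
  have hF' : 2 * Nat.card F ≤ Nat.card ↥(F ⊔ W') := two_mul_card_le_of_mem le_sup_left
    (mem_sup_right (mem_sup_left hu₁W)) fun h => haC (m.mem_cw_of_fix hTK haT hu₁W hu₁Z (by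
      rw [mem_centralizer_iff.mp h.2 a ha, mul_inv_cancel_right]))
  have hYU2 : 2 * Nat.card Y ≤ Nat.card U := two_mul_card_le_of_mem hYU hc₁U hc₁Y
  have hF'Y : F ⊔ W' ≤ Y := sup_le hFY (le_sup_left.trans le_sup_left)
  have hFpos := Nat.card_pos (α := F)
  have hAUpos := Nat.card_pos (α := AU)
  have hB₁le := Subgroup.card_le_of_le hB₁AU
  have hUF : ∀ {r s : ℕ}, r < s → Nat.card A ≤ r * Nat.card AU → s * Nat.card F ≤ Nat.card U → False := by
    intro r s hrs hr hs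
    have h1 : Nat.card AU * (s * Nat.card F) ≤ r * Nat.card AU * Nat.card F :=
      (Nat.mul_le_mul_left _ hs).trans (hmax.trans (Nat.mul_le_mul_right _ hr))
    have h2 : Nat.card AU * Nat.card F * s ≤ Nat.card AU * Nat.card F * r := by linarith
    exact absurd (Nat.le_of_mul_le_mul_left h2 (Nat.mul_pos hAUpos hFpos)) (by omega)
  have hB0le : Nat.card B ≤ 2 * Nat.card B₀ := hB2 c₀ w₂ (le_refl B) fun q hq => hm₀ q hq.1
  have hB1le : Nat.card B₀ ≤ 2 * Nat.card B₁ := hB2 (H := B₀) c₁ p₁ inf_le_left hm₁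
  by_cases hc0 : B ≤ centralizer ({c₀} : Set G)
  · have hBB₀ : B = B₀ := le_antisymm (le_inf le_rfl hc0) inf_le_left
    by_cases hc1 : B ≤ centralizer ({c₁} : Set G)
    · have hBB₁ : B ≤ B₁ := le_inf (hBB₀ ▸ le_rfl) hc1
      have := Subgroup.card_le_of_le hBB₁
      have := Subgroup.card_le_of_le hF'Y
      exact hUF (r := 2) (s := 4) (by omega) (by omega) (by omega)
    · obtain ⟨b, hb, hbn⟩ := SetLike.not_le_iff_exists.mp hc1
      have hb1 : b * c₁ * b⁻¹ = c₁ * p₁ := (hm₁ b hb.2).resolve_left fun h => hbn (hfix.mpr h)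
      have hb2 : b * c₂ * b⁻¹ = c₂ * p₂ := by
        have hab : b * a = a * b := le_centralizer_iff_isMulCommutative.mpr hA.2.1.1 ha b hb.1
        calc b * c₂ * b⁻¹ = (b * a) * c₁ * (b * a)⁻¹ := by rw [hc₂]; group
          _ = a * (b * c₁ * b⁻¹) * a⁻¹ := by rw [hab]; group
          _ = c₂ * p₂ := by rw [hb1, hc₂, hp₂]; group
      have hb12 : b * (c₁ * c₂) * b⁻¹ = c₁ * c₂ * (p₁ * p₂) := by
        calc b * (c₁ * c₂) * b⁻¹ = (b * c₁ * b⁻¹) * (b * c₂ * b⁻¹) := by group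
          _ = c₁ * (p₁ * c₂) * p₂ := by rw [hb1, hb2]; group
          _ = _ := by rw [← hCc hc₂C hp₁W']; group
      have hne : p₁ * p₂ ≠ 1 := fun h => hp₁₂ (by
        rw [mul_eq_one_iff_eq_inv.mp h, inv_eq_of_mul_eq_one_right (hW'2 _ hp₂W')])
      have h8 : 2 * Nat.card ↥(F ⊔ W') ≤ Nat.card Y := two_mul_card_le_of_mem hF'Y
        (mem_sup_right (mem_zpowers _)) (hmoved hb.1 hb12 hne le_rfl hb.2)
      have hle : Nat.card B ≤ Nat.card B₀ := Subgroup.card_le_of_le hBB₀.le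
      exact hUF (r := 4) (s := 8) (by omega) (by omega) (by omega)
  · obtain ⟨b, hb, hbn⟩ := SetLike.not_le_iff_exists.mp hc0
    have hb0 : b * c₀ * b⁻¹ = c₀ * w₂ := (hm₀ b (hA.1 hb.1)).resolve_left fun h => hbn (hfix.mpr h)
    have h8 : 2 * Nat.card ↥(F ⊔ W') ≤ Nat.card ↥(F ⊔ W' ⊔ zpowers c₀) :=
      two_mul_card_le_of_mem le_sup_left (mem_sup_right (mem_zpowers _))
        (hmoved hb.1 hb0 hw₂1 le_rfl hb.2)
    have hle : F ⊔ W' ⊔ zpowers c₀ ≤ Y := sup_le hF'Y (le_sup_right.trans le_sup_left)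
    by_cases hc1 : B₀ ≤ centralizer ({c₁} : Set G)
    · have : Nat.card B₀ ≤ Nat.card B₁ := Subgroup.card_le_of_le (le_inf le_rfl hc1)
      have := Subgroup.card_le_of_le hle
      exact hUF (r := 4) (s := 8) (by omega) (by omega) (by omega)
    · obtain ⟨b', hb', hbn'⟩ := SetLike.not_le_iff_exists.mp hc1
      have hb1 : b' * c₁ * b'⁻¹ = c₁ * p₁ := (hm₁ b' hb'.1.2).resolve_left fun h => hbn' (hfix.mpr h)
      have hab : b' * a = a * b' := le_centralizer_iff_isMulCommutative.mpr hA.2.1.1 ha b' hb'.1.1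
      have hb2 : b' * c₂ * b'⁻¹ = c₂ * p₂ := by
        calc b' * c₂ * b'⁻¹ = (b' * a) * c₁ * (b' * a)⁻¹ := by rw [hc₂]; group
          _ = a * (b' * c₁ * b'⁻¹) * a⁻¹ := by rw [hab]; group
          _ = c₂ * p₂ := by rw [hb1, hc₂, hp₂]; group
      have h16 : 2 * Nat.card ↥(F ⊔ W' ⊔ zpowers c₀) ≤ Nat.card Y := by
        refine two_mul_card_le_of_mem hle (mem_sup_right (mem_zpowers _)) fun hmem => ?_
        have hcen : F ⊔ W' ⊔ zpowers c₀ ≤ centralizer ({b'} : Set G) := sup_le (sup_le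
          (fun v hv => mem_centralizer_singleton_iff.mpr (mem_centralizer_iff.mp hv.2 b' hb'.1.1).symm)
          (fun v hv => mem_centralizer_singleton_iff.mpr (hCc hb'.1.2 hv).symm))
          (zpowers_le.mpr (mem_centralizer_singleton_iff.mpr
            (mem_centralizer_singleton_iff.mp hb'.2).symm))
        have h := mem_centralizer_singleton_iff.mp (hcen hmem)
        have e : b' * c₁ * b'⁻¹ * (b' * c₂ * b'⁻¹) = c₁ * c₂ := by
          calc _ = b' * (c₁ * c₂) * b'⁻¹ := by group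
            _ = _ := by rw [← h, mul_inv_cancel_right]
        rw [hb1, hb2] at e
        have e' : c₁ * c₂ * (p₁ * p₂) = c₁ * c₂ := by
          calc c₁ * c₂ * (p₁ * p₂) = c₁ * (c₂ * p₁) * p₂ := by group
            _ = c₁ * p₁ * (c₂ * p₂) := by rw [hCc hc₂C hp₁W']; group
            _ = _ := e
        rw [mul_eq_left, mul_eq_one_iff_eq_inv, inv_eq_of_mul_eq_one_right (hW'2 _ hp₂W')] at e'
        exact hp₁₂ e'
      exact hUF (r := 8) (s := 16) (by omega) (by omega) (by omega)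

end Pair

end CfsgLib.JComp
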